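import Cfsg.Agent.H920.Basic
import Cfsg.Agent.H919.AschTensor
import Cfsg.Agent.H919.AschBurnside
import Cfsg.Agent.H920.SympD
import Mathlib.LinearAlgebra.Matrix.Charpoly.FiniteField
import Mathlib.GroupTheory.OrderOfElement
import Mathlib.FieldTheory.Perfect
import Cfsg.Agent.H175.BdSp_m3
import Cfsg.Agent.S0102
import Cfsg.Agent.H95.StemCover
import Cfsg.Agent.FastGrp
import Cfsg.Agent.Prune
set_option linter.all false

section
prune_inst 0x7ffea8fbabf8b9dfdffe7e77ae9addfc39901fffa4dff94bbfe021cf0bdf030209c5238d81e000fe0ea3421410a87843fbfffabfea6bd87ffffd1df41ffbee0fa5e7b508511488340f380ff603f0778e7f3fffffffffffffffffffffffffffaeffbdffffffff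

-- part: H906/Trace
section
prune_inst 0x11104540746202001818851442001c62ba000482004b4400a483024007c9cc40a8070661b370011540900c546038004000540000426800000e200800011d05810000000080080108420098000080000000000000000000000000000000010000200000000
set_option linter.all false
open scoped Cfsg.Agent.FastGrp

/-!
# Traces of absolutely irreducible matrix groups (helper906)

* `exists_conj_of_trace` : two matrix representations of a group with equal traces, both spanning the
  full matrix algebra, are conjugate;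
* `exists_unitary_of_trace`, `exists_bilinear_of_trace` : invariant forms from traces;
* `realisable_of_trace` : realisability over the field of traces (finite fields).
-/

set_option autoImplicit false
set_option linter.unusedSectionVars false

namespace Cfsg.Agent.H906

open Cfsg Cfsg.Geo
open scoped MatrixGroups Matrix

section General

variable {ι : Type} [Fintype ι] [DecidableEq ι] {F : Type*} [Field F]

lemma eq_zero_of_trace_mul {S : Set (Matrix ι ι F)} (hS : Submodule.span F S = ⊤)
    {X : Matrix ι ι F} (h : ∀ s ∈ S, (X * s).trace = 0) : X = 0 := by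
  have h1 : ∀ Y : Matrix ι ι F, (X * Y).trace = 0 := by
    intro Y
    have hY : Y ∈ Submodule.span F S := by rw [hS]; trivial
    induction hY using Submodule.span_induction with
    | mem s hs => exact h s hs
    | zero => simp only [_root_.MulZeroClass.mul_zero, _root_.Matrix.trace_zero]
    | add a b _ _ ha hb => rw [mul_add, Matrix.trace_add, ha, hb, add_zero]
    | smul c a _ ha => rw [mul_smul_comm, Matrix.trace_smul, ha, smul_zero]
  exact Matrix.ext_iff_trace_mul_right.2 (fun Y => by rw [h1 Y, zero_mul, Matrix.trace_zero])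

/-- Two matrix representations of the same group, with equal traces and both spanning the matrix
algebra, are conjugate. -/
theorem exists_conj_of_trace {G : Type*} [Group G] (ρ₁ ρ₂ : G →* Matrix ι ι F)
    (h₁ : Submodule.span F (Set.range ρ₁) = ⊤) (h₂ : Submodule.span F (Set.range ρ₂) = ⊤)
    (htr : ∀ g, (ρ₁ g).trace = (ρ₂ g).trace) :
    ∃ B : GL ι F, ∀ g, ρ₂ g = (B : Matrix ι ι F) * ρ₁ g * ((B⁻¹ : GL ι F) : Matrix ι ι F) := by
  classical
  let a₁ : MonoidAlgebra F G →ₐ[F] Matrix ι ι F := MonoidAlgebra.lift F (Matrix ι ι F) G ρ₁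
  let a₂ : MonoidAlgebra F G →ₐ[F] Matrix ι ι F := MonoidAlgebra.lift F (Matrix ι ι F) G ρ₂
  have e₁ : ∀ g, a₁ (MonoidAlgebra.of F G g) = ρ₁ g := fun g => MonoidAlgebra.lift_of _ _ 
  have e₂ : ∀ g, a₂ (MonoidAlgebra.of F G g) = ρ₂ g := fun g => MonoidAlgebra.lift_of _ _ 
  have htr' : ∀ x : MonoidAlgebra F G, (a₁ x).trace = (a₂ x).trace := by
    intro x
    induction x using MonoidAlgebra.induction_on with
    | of g => rw [e₁, e₂, htr]
    | add x y hx hy => rw [map_add, map_add, Matrix.trace_add, Matrix.trace_add, hx, hy]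
    | smul c x hx => rw [map_smul, map_smul, Matrix.trace_smul, Matrix.trace_smul, hx]
  have hs₁ : Function.Surjective a₁ := by
    have : LinearMap.range a₁.toLinearMap = ⊤ := by
      rw [eq_top_iff, ← h₁, Submodule.span_le]
      rintro _ ⟨g, rfl⟩
      exact ⟨MonoidAlgebra.of F G g, e₁ g⟩
    exact LinearMap.range_eq_top.1 this
  have hs₂ : Function.Surjective a₂ := by
    have : LinearMap.range a₂.toLinearMap = ⊤ := by
      rw [eq_top_iff, ← h₂, Submodule.span_le]
      rintro _ ⟨g, rfl⟩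
      exact ⟨MonoidAlgebra.of F G g, e₂ g⟩
    exact LinearMap.range_eq_top.1 this
  have hker : ∀ x, a₁ x = 0 ↔ a₂ x = 0 := by
    intro x
    constructor
    · intro hx
      apply eq_zero_of_trace_mul h₂
      rintro _ ⟨g, rfl⟩
      rw [← e₂, ← map_mul, ← htr', map_mul, hx, zero_mul, Matrix.trace_zero]
    · intro hx
      apply eq_zero_of_trace_mul h₁
      rintro _ ⟨g, rfl⟩
      rw [← e₁, ← map_mul, htr', map_mul, hx, zero_mul, Matrix.trace_zero]
  have heq : ∀ x y, a₁ x = a₁ y → a₂ x = a₂ y := by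
    intro x y hxy
    have := (hker (x - y)).1 (by rw [map_sub, hxy, sub_self])
    rwa [map_sub, sub_eq_zero] at this
  have heq' : ∀ x y, a₂ x = a₂ y → a₁ x = a₁ y := by
    intro x y hxy
    have := (hker (x - y)).2 (by rw [map_sub, hxy, sub_self])
    rwa [map_sub, sub_eq_zero] at this
  let s : Matrix ι ι F → MonoidAlgebra F G := Function.surjInv hs₁
  have hs : ∀ X, a₁ (s X) = X := Function.surjInv_eq hs₁
  let φ : Matrix ι ι F →ₐ[F] Matrix ι ι F :=
    { toFun := fun X => a₂ (s X)
      map_one' := by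
        have := heq (s 1) 1 (by rw [hs, map_one])
        rw [this, map_one]
      map_mul' := fun X Y => by
        have := heq (s (X * Y)) (s X * s Y) (by rw [hs, map_mul, hs, hs])
        rw [this, map_mul]
      map_zero' := by
        have := heq (s 0) 0 (by rw [hs, map_zero])
        rw [this, map_zero]
      map_add' := fun X Y => by
        have := heq (s (X + Y)) (s X + s Y) (by rw [hs, map_add, hs, hs])
        rw [this, map_add]
      commutes' := fun c => by
        have := heq (s (algebraMap F _ c)) (algebraMap F _ c) (by rw [hs, AlgHom.commutes])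
        rw [this, AlgHom.commutes] }
  have hφ : ∀ x, φ (a₁ x) = a₂ x := fun x => heq _ _ (hs _)
  let Φ : Matrix ι ι F ≃ₐ[F] Matrix ι ι F := AlgEquiv.ofBijective φ (by
    constructor
    · intro X Y hXY
      have := heq' _ _ hXY
      rwa [hs, hs] at this
    · intro Y
      obtain ⟨y, rfl⟩ := hs₂ Y
      exact ⟨a₁ y, hφ y⟩)
  obtain ⟨B, hB⟩ := Cfsg.Agent.H919.exists_conj_of_algEquiv Φ
  refine ⟨B, fun g => ?_⟩
  rw [← hB, ← e₁, ← e₂]
  exact (hφ _).symm

/-! ### Sesquilinear forms from intertwiners -/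

/-- The form with matrix `M` and automorphism `σ`. -/
def sesq (σ : F ≃+* F) (M : Matrix ι ι F) (u v : ι → F) : F := u ⬝ᵥ (M *ᵥ (σ ∘ v))

lemma comp_add (σ : F ≃+* F) (u v : ι → F) : (σ ∘ (u + v) : ι → F) = σ ∘ u + σ ∘ v := by
  funext i; simp

lemma comp_smul (σ : F ≃+* F) (c : F) (v : ι → F) : (σ ∘ (c • v) : ι → F) = σ c • (σ ∘ v) := by
  funext i; simp

lemma comp_mulVec (σ : F ≃+* F) (g : Matrix ι ι F) (v : ι → F) :
    (σ ∘ (g *ᵥ v) : ι → F) = (g.map σ) *ᵥ (σ ∘ v) := by
  funext i
  simp only [Matrix.mulVec, dotProduct, map_sum, _root_.Function.comp_apply, _root_.Matrix.mulVec, _root_.dotProduct, _root_.map_sum, _root_.map_mul, _root_.Matrix.map_apply]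

lemma map_dotProduct' (σ : F ≃+* F) (u v : ι → F) : σ (u ⬝ᵥ v) = (σ ∘ u) ⬝ᵥ (σ ∘ v) := by
  simp only [dotProduct, map_sum, _root_.dotProduct, _root_.map_sum, _root_.map_mul, _root_.Function.comp_apply]

lemma sesq_invariant (σ : F ≃+* F) {M g : Matrix ι ι F} (h : gᵀ * M * g.map σ = M) (u v : ι → F) :
    sesq σ M (g *ᵥ u) (g *ᵥ v) = sesq σ M u v := by
  unfold sesq
  rw [comp_mulVec, Matrix.mulVec_mulVec, Matrix.dotProduct_mulVec, ← Matrix.vecMul_transpose g u,
    Matrix.vecMul_vecMul, ← Matrix.mul_assoc, h, Matrix.dotProduct_mulVec]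

lemma sesq_add_left (σ : F ≃+* F) (M : Matrix ι ι F) (x y v : ι → F) :
    sesq σ M (x + y) v = sesq σ M x v + sesq σ M y v := by
  simp only [sesq, add_dotProduct, _root_.Cfsg.Agent.H906.sesq, _root_.add_dotProduct]

lemma sesq_smul_left (σ : F ≃+* F) (M : Matrix ι ι F) (c : F) (x v : ι → F) :
    sesq σ M (c • x) v = c * sesq σ M x v := by
  simp only [sesq, _root_.Cfsg.Agent.H906.sesq, _root_.smul_dotProduct, _root_.smul_eq_mul]

lemma sesq_add_right (σ : F ≃+* F) (M : Matrix ι ι F) (v x y : ι → F) :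
    sesq σ M v (x + y) = sesq σ M v x + sesq σ M v y := by
  simp only [sesq, comp_add, Matrix.mulVec_add, dotProduct_add]

lemma sesq_smul_right (σ : F ≃+* F) (M : Matrix ι ι F) (c : F) (v x : ι → F) :
    sesq σ M v (c • x) = σ c * sesq σ M v x := by
  simp only [sesq, comp_smul, Matrix.mulVec_smul, dotProduct_smul, smul_eq_mul]

lemma sesq_nondegenerate (σ : F ≃+* F) {M : Matrix ι ι F} (h : IsUnit M) :
    IsNondegenerateForm (sesq σ M) := by
  intro v hv
  constructor
  · by_contra hcon
    push Not at hcon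
    have h1 : M *ᵥ (σ ∘ v) = 0 := by
      funext i
      have := hcon (Pi.single i 1)
      simpa only [sesq, _root_.Pi.zero_apply, _root_.single_dotProduct, _root_.one_mul] using this
    have h2 : (σ ∘ v : ι → F) = 0 := by
      obtain ⟨U, rfl⟩ := h
      have := congrArg (fun w => ((U⁻¹ : GL ι F) : Matrix ι ι F) *ᵥ w) h1
      simpa only [Matrix.mulVec_mulVec, _root_.Matrix.coe_units_inv, _root_.Matrix.inv_mul_of_invertible, _root_.Matrix.one_mulVec, _root_.Matrix.mulVec_zero] using this
    apply hv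
    funext i
    have := congrFun h2 i
    simpa using this
  · by_contra hcon
    push Not at hcon
    have h1 : v ᵥ* M = 0 := by
      funext i
      have := hcon (Pi.single i 1)
      have h3 : (σ ∘ (Pi.single i 1 : ι → F) : ι → F) = Pi.single i 1 := by
        funext j
        by_cases hj : j = i
        · subst hj; simp
        · simp [hj]
      rw [sesq, h3, Matrix.dotProduct_mulVec] at this
      simpa only [_root_.Pi.zero_apply, _root_.dotProduct_single, _root_.mul_one] using this
    apply hv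
    obtain ⟨U, rfl⟩ := h
    have := congrArg (fun w => w ᵥ* ((U⁻¹ : GL ι F) : Matrix ι ι F)) h1
    simpa only [Matrix.vecMul_vecMul, _root_.Matrix.coe_units_inv, _root_.Matrix.mul_inv_of_invertible, _root_.Matrix.vecMul_one, _root_.Matrix.zero_vecMul] using this

lemma sesq_herm (σ : F ≃+* F) (hσ : ∀ a, σ (σ a) = a) {M : Matrix ι ι F} {c : F}
    (h : (Mᵀ).map σ = c • M) (v w : ι → F) : σ (sesq σ M w v) = c * sesq σ M v w := by
  have hvv : (σ ∘ (σ ∘ v) : ι → F) = v := by funext i; simp [hσ]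
  unfold sesq
  rw [map_dotProduct', comp_mulVec, hvv, dotProduct_comm, ← Matrix.vecMul_transpose,
    ← Matrix.dotProduct_mulVec, ← Matrix.transpose_map, h, Matrix.smul_mulVec, dotProduct_smul,
    smul_eq_mul]

variable {P : Subgroup (GL ι F)}

lemma isUnit_of_invariant (hP : ActsIrreducibly (matrixSet P)) (σ : F ≃+* F) {M : Matrix ι ι F}
    (hM : M ≠ 0) (h : ∀ g ∈ P, ((g : Matrix ι ι F))ᵀ * M * (g : Matrix ι ι F).map σ = M) :
    IsUnit M := by
  classical
  let W : Submodule F (ι → F) :=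
    { carrier := {v | M *ᵥ (σ ∘ v) = 0}
      add_mem' := by
        intro a b ha hb
        simp only [Set.mem_ofPred_eq] at *
        rw [comp_add, Matrix.mulVec_add, ha, hb, add_zero]
      zero_mem' := by
        simp only [Set.mem_ofPred_eq]
        have : (σ ∘ (0 : ι → F) : ι → F) = 0 := by funext i; simp
        rw [this, Matrix.mulVec_zero]
      smul_mem' := by
        intro c a ha
        simp only [Set.mem_ofPred_eq] at *
        rw [comp_smul, Matrix.mulVec_smul, ha, smul_zero] }
  have hW : ∀ v, v ∈ W ↔ M *ᵥ (σ ∘ v) = 0 := fun v => Iff.rfl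
  have hWinv : ∀ s ∈ matrixSet P, W.map (Matrix.toLin' s) ≤ W := by
    rintro _ ⟨g, hg, rfl⟩ _ ⟨v, hv, rfl⟩
    have hv' : M *ᵥ (σ ∘ v) = 0 := hv
    change M *ᵥ (σ ∘ (Matrix.toLin' (g : Matrix ι ι F) v)) = 0
    rw [Matrix.toLin'_apply, comp_mulVec]
    have h1 := h g hg
    have h2 : ((g : Matrix ι ι F))ᵀ *ᵥ (M *ᵥ ((g : Matrix ι ι F).map σ *ᵥ (σ ∘ v))) = 0 := by
      rw [Matrix.mulVec_mulVec, Matrix.mulVec_mulVec, h1, hv']
    have h3 : IsUnit ((g : Matrix ι ι F))ᵀ := (Matrix.isUnit_transpose _).2 g.isUnit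
    obtain ⟨U, hU⟩ := h3
    rw [← hU] at h2
    have := congrArg (fun w => ((U⁻¹ : GL ι F) : Matrix ι ι F) *ᵥ w) h2
    simpa only [Matrix.mulVec_mulVec, ← Matrix.mul_assoc, _root_.Matrix.coe_units_inv, _root_.Matrix.inv_mul_of_invertible, _root_.one_mul, _root_.Matrix.mulVec_zero] using this
  rcases hP W hWinv with h0 | h1
  · rw [← Matrix.mulVec_injective_iff_isUnit]
    intro a b hab
    have h2 : M *ᵥ (a - b) = 0 := by rw [Matrix.mulVec_sub, sub_eq_zero]; exact hab
    have h3 : (σ.symm ∘ (a - b) : ι → F) ∈ W := by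
      rw [hW]
      have : (σ ∘ (σ.symm ∘ (a - b)) : ι → F) = a - b := by funext i; simp only [_root_.map_comp_sub, _root_.Function.comp_apply, _root_.Pi.sub_apply, _root_.map_sub, _root_.RingEquiv.apply_symm_apply]
      rw [this, h2]
    rw [h0, Submodule.mem_bot] at h3
    have h4 : a - b = 0 := by
      funext i
      have := congrFun h3 i
      exact σ.symm.map_eq_zero_iff.1 this
    exact sub_eq_zero.1 h4
  · exfalso
    apply hM
    ext i j
    have h3 : (Pi.single j 1 : ι → F) ∈ W := by rw [h1]; trivial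
    rw [hW] at h3
    have h4 : (σ ∘ (Pi.single j 1 : ι → F) : ι → F) = Pi.single j 1 := by
      funext k
      by_cases hk : k = j
      · subst hk; simp
      · simp [hk]
    rw [h4] at h3
    have := congrFun h3 i
    simpa using this

lemma exists_smul_of_invariant (hP : ActsAbsolutelyIrreducibly (matrixSet P)) (σ : F ≃+* F)
    {M M' : Matrix ι ι F} (hM : IsUnit M)
    (h : ∀ g ∈ P, ((g : Matrix ι ι F))ᵀ * M * (g : Matrix ι ι F).map σ = M)
    (h' : ∀ g ∈ P, ((g : Matrix ι ι F))ᵀ * M' * (g : Matrix ι ι F).map σ = M') :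
    ∃ c : F, M' = c • M := by
  classical
  obtain ⟨U, rfl⟩ := hM
  set Z : Matrix ι ι F := ((U⁻¹ : GL ι F) : Matrix ι ι F) * M' with hZ
  have hUZ : (U : Matrix ι ι F) * Z = M' := by
    rw [hZ, ← Matrix.mul_assoc, ← Units.val_mul, mul_inv_cancel, Units.val_one, Matrix.one_mul]
  have hcomm : ∀ g ∈ P, Z * (g : Matrix ι ι F).map σ = (g : Matrix ι ι F).map σ * Z := by
    intro g hg
    have h1 := h g hg
    have h2 := h' g hg
    -- gᵀ U g^σ = U ; gᵀ U Z g^σ = U Z
    obtain ⟨T, hT⟩ : IsUnit (((g : Matrix ι ι F))ᵀ * (U : Matrix ι ι F)) :=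
      IsUnit.mul ((Matrix.isUnit_transpose _).2 g.isUnit) U.isUnit
    have h3 : (T : Matrix ι ι F) * (Z * (g : Matrix ι ι F).map σ) =
        (T : Matrix ι ι F) * ((g : Matrix ι ι F).map σ * Z) := by
      rw [hT]
      calc (g : Matrix ι ι F)ᵀ * (U : Matrix ι ι F) * (Z * (g : Matrix ι ι F).map σ)
          = (g : Matrix ι ι F)ᵀ * ((U : Matrix ι ι F) * Z) * (g : Matrix ι ι F).map σ := by
            simp only [Matrix.mul_assoc]
        _ = M' := by rw [hUZ, h2]
        _ = (U : Matrix ι ι F) * Z := hUZ.symm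
        _ = ((g : Matrix ι ι F)ᵀ * (U : Matrix ι ι F) * (g : Matrix ι ι F).map σ) * Z := by rw [h1]
        _ = (g : Matrix ι ι F)ᵀ * (U : Matrix ι ι F) * ((g : Matrix ι ι F).map σ * Z) := by
            simp only [Matrix.mul_assoc]
    have := congrArg (fun w => ((T⁻¹ : GL ι F) : Matrix ι ι F) * w) h3
    simpa only [← Matrix.mul_assoc, _root_.Matrix.coe_units_inv, _root_.Matrix.inv_mul_of_invertible, _root_.one_mul] using this
  obtain ⟨c, hc⟩ := hP.2 (Z.map σ.symm) (by
    rintro _ ⟨g, hg, rfl⟩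
    have := congrArg (fun w : Matrix ι ι F => w.map σ.symm) (hcomm g hg)
    simp only [Matrix.map_mul, Matrix.map_map] at this
    have h5 : (σ.symm ∘ σ : F → F) = id := by funext x; simp
    simpa only [h5, _root_.Matrix.map_id] using this)
  refine ⟨σ c, ?_⟩
  have h6 : Z = σ c • (1 : Matrix ι ι F) := by
    have := congrArg (fun w : Matrix ι ι F => w.map σ) hc
    simp only [Matrix.map_map] at this
    have h5 : (σ ∘ σ.symm : F → F) = id := by funext x; simp
    rw [h5, Matrix.map_id] at this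
    rw [this]
    ext i j
    by_cases hij : i = j
    · subst hij; simp
    · simp [hij]
  rw [← hUZ, h6, Matrix.mul_smul, Matrix.mul_one]

/-- From a nonzero invariant sesquilinear matrix to a unitary form. -/
theorem exists_unitary_of_invariant (hP : ActsAbsolutelyIrreducibly (matrixSet P)) (σ : F ≃+* F)
    (hne : σ ≠ RingEquiv.refl F) (hσ : ∀ a, σ (σ a) = a) {M : Matrix ι ι F}
    (hM : M ≠ 0) (h : ∀ g ∈ P, ((g : Matrix ι ι F))ᵀ * M * (g : Matrix ι ι F).map σ = M) :
    ∃ f, IsUnitaryForm σ f ∧ FixesForm (matrixSet P) f := by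
  classical
  have hu := isUnit_of_invariant hP.1 σ hM h
  have hσσ : ∀ X : Matrix ι ι F, (X.map σ).map σ = X := by
    intro X; ext i j; simp [hσ]
  obtain ⟨c, hc⟩ := exists_smul_of_invariant (M' := Mᵀ.map σ) hP σ hu h (by
    intro g hg
    have h1 := h g hg
    have h2 := congrArg (fun X : Matrix ι ι F => (Xᵀ).map σ) h1
    simp only [Matrix.transpose_mul, Matrix.transpose_transpose, Matrix.map_mul,
      Matrix.transpose_map, hσσ] at h2
    rw [← Matrix.transpose_map, ← Matrix.mul_assoc] at h2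
    convert h2 using 2)
  have hcc : σ c * c = 1 := by
    have h1 : (Mᵀ.map σ)ᵀ.map σ = M := by
      ext i j; simp [hσ]
    rw [hc] at h1
    have h2 : ((c • M)ᵀ).map σ = (σ c * c) • M := by
      have : ((c • M)ᵀ).map σ = σ c • (Mᵀ.map σ) := by
        ext i j; simp
      rw [this, hc, smul_smul]
    rw [h2] at h1
    by_contra hne1
    apply hM
    have h3 : (σ c * c - 1) • M = 0 := by rw [sub_smul, h1, one_smul, sub_self]
    rcases smul_eq_zero.1 h3 with h4 | h4
    · exact absurd (sub_eq_zero.1 h4) hne1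
    · exact h4
  -- Hilbert 90
  obtain ⟨d, hd0, hd⟩ : ∃ d : F, d ≠ 0 ∧ c * σ d = d := by
    by_contra hcon
    push Not at hcon
    have h1 : ∀ x : F, x + c * σ x = 0 := by
      intro x
      by_contra hx
      apply hcon _ hx
      rw [map_add, map_mul, hσ, mul_add, ← mul_assoc, mul_comm c (σ c), hcc, one_mul, add_comm]
    have h2 : c = -1 := by
      have := h1 1
      rw [map_one, mul_one] at this
      exact (neg_eq_of_add_eq_zero_right this).symm
    apply hne
    ext x
    have := h1 x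
    rw [h2, neg_one_mul, ← sub_eq_add_neg, sub_eq_zero] at this
    rw [RingEquiv.refl_apply]
    exact this.symm
  refine ⟨sesq σ (d • M), ?_, ?_⟩
  · refine ⟨hne, hσ, sesq_add_left σ _, sesq_smul_left σ _, ?_, ?_⟩
    · intro v w
      have := sesq_herm σ hσ (M := d • M) (c := 1) (by
        have : ((d • M)ᵀ).map σ = σ d • (Mᵀ.map σ) := by
          ext i j; simp
        rw [this, hc, smul_smul, one_smul, mul_comm, hd]) v w
      rw [this, one_mul]
    · apply sesq_nondegenerate
      obtain ⟨U, rfl⟩ := hu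
      refine ⟨⟨d • (U : Matrix ι ι F), d⁻¹ • ((U⁻¹ : GL ι F) : Matrix ι ι F), ?_, ?_⟩, rfl⟩
      · rw [Matrix.smul_mul, Matrix.mul_smul, smul_smul, mul_inv_cancel₀ hd0, one_smul,
          ← Units.val_mul, mul_inv_cancel, Units.val_one]
      · rw [Matrix.smul_mul, Matrix.mul_smul, smul_smul, inv_mul_cancel₀ hd0, one_smul,
          ← Units.val_mul, inv_mul_cancel, Units.val_one]
  · rintro _ ⟨g, hg, rfl⟩ u v
    apply sesq_invariant
    rw [Matrix.mul_smul, Matrix.smul_mul, h g hg]

/-- From a nonzero invariant bilinear matrix to a symmetric or skew-symmetric form. -/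
theorem exists_bilinear_of_invariant (hP : ActsAbsolutelyIrreducibly (matrixSet P))
    {M : Matrix ι ι F} (hM : M ≠ 0)
    (h : ∀ g ∈ P, ((g : Matrix ι ι F))ᵀ * M * (g : Matrix ι ι F) = M) :
    ∃ f : (ι → F) → (ι → F) → F, IsBilinearForm f ∧ IsNondegenerateForm f ∧
      FixesForm (matrixSet P) f ∧ ((∀ u v, f u v = f v u) ∨ (∀ u v, f u v = - f v u)) := by
  classical
  have hid : ∀ X : Matrix ι ι F, X.map (RingEquiv.refl F) = X := by
    intro X; ext i j; simp
  have h' : ∀ g ∈ P, ((g : Matrix ι ι F))ᵀ * M * (g : Matrix ι ι F).map (RingEquiv.refl F) = M := by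
    intro g hg; rw [hid]; exact h g hg
  have hu := isUnit_of_invariant hP.1 (RingEquiv.refl F) hM h'
  obtain ⟨c, hc⟩ := exists_smul_of_invariant (M' := Mᵀ) hP (RingEquiv.refl F) hu h' (by
    intro g hg
    have h1 := congrArg Matrix.transpose (h g hg)
    rw [Matrix.transpose_mul, Matrix.transpose_mul, Matrix.transpose_transpose] at h1
    rw [hid, Matrix.mul_assoc]
    exact h1)
  have hcc : c * c = 1 := by
    have h1 : Mᵀᵀ = M := Matrix.transpose_transpose M
    rw [hc, Matrix.transpose_smul, hc, smul_smul] at h1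
    by_contra hne1
    apply hM
    have h3 : (c * c - 1) • M = 0 := by rw [sub_smul, h1, one_smul, sub_self]
    rcases smul_eq_zero.1 h3 with h4 | h4
    · exact absurd (sub_eq_zero.1 h4) hne1
    · exact h4
  have hsym := sesq_herm (RingEquiv.refl F) (fun a => rfl) (M := M) (c := c) (by rw [hid]; exact hc)
  refine ⟨sesq (RingEquiv.refl F) M, ⟨sesq_add_left _ _, sesq_smul_left _ _, sesq_add_right _ _,
    fun c v x => by rw [sesq_smul_right]; rfl⟩, sesq_nondegenerate _ hu, ?_, ?_⟩
  · rintro _ ⟨g, hg, rfl⟩ u v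
    apply sesq_invariant
    exact h' g hg
  · rcases mul_self_eq_one_iff.1 hcc with h1 | h1
    · left
      intro u v
      have := hsym v u
      rw [h1, one_mul] at this
      exact this
    · right
      intro u v
      have := hsym v u
      rw [h1, neg_one_mul] at this
      exact this

/-! ### Forms from traces -/

/-- The representation `g ↦ σ((g⁻¹)ᵀ)`. -/
def dualRep (σ : F ≃+* F) (P : Subgroup (GL ι F)) : P →* Matrix ι ι F where
  toFun g := (((g : GL ι F)⁻¹ : GL ι F) : Matrix ι ι F)ᵀ.map σ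
  map_one' := by
    ext i j
    by_cases hij : i = j
    · subst hij; simp only [_root_.OneMemClass.coe_one, _root_.inv_one, _root_.Units.val_one, _root_.Matrix.transpose_one, _root_.Matrix.map_apply, _root_.Matrix.one_apply_eq, _root_.map_one]
    · simp only [hij, _root_.OneMemClass.coe_one, _root_.inv_one, _root_.Units.val_one, _root_.Matrix.transpose_one, _root_.Matrix.map_apply, _root_.ne_eq, _root_.not_false_eq_true, _root_.Matrix.one_apply_ne, _root_.map_zero]
  map_mul' a b := by
    rw [Subgroup.coe_mul, mul_inv_rev, Units.val_mul, Matrix.transpose_mul, Matrix.map_mul]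

lemma span_dualRep (hP : ActsAbsolutelyIrreducibly (matrixSet P)) (σ : F ≃+* F) :
    Submodule.span F (Set.range (dualRep σ P)) = ⊤ := by
  classical
  have h1 := Cfsg.Agent.H920.span_eq_top hP
  rw [eq_top_iff]
  rintro X -
  have hX : (X.map σ.symm)ᵀ ∈ Submodule.span F (matrixSet P) := by rw [h1]; trivial
  have key : ∀ Y ∈ Submodule.span F (matrixSet P), Yᵀ.map σ ∈ Submodule.span F (Set.range (dualRep σ P)) := by
    intro Y hY
    induction hY using Submodule.span_induction with
    | mem s hs =>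
      obtain ⟨g, hg, rfl⟩ := hs
      apply Submodule.subset_span
      refine ⟨⟨g⁻¹, P.inv_mem hg⟩, ?_⟩
      simp only [dualRep, _root_.Cfsg.Agent.H906.dualRep, _root_.Matrix.coe_units_inv, _root_.MonoidHom.coe_mk, _root_.OneHom.coe_mk, _root_.Matrix.inv_inv_of_invertible]
    | zero =>
      have : ((0 : Matrix ι ι F)ᵀ).map σ = 0 := by ext i j; simp
      rw [this]
      exact Submodule.zero_mem _
    | add a b _ _ ha hb =>
      have : ((a + b)ᵀ).map σ = aᵀ.map σ + bᵀ.map σ := by ext i j; simp only [_root_.Matrix.transpose_add, _root_.Matrix.map_apply, _root_.Matrix.add_apply, _root_.Matrix.transpose_apply, _root_.map_add]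
      rw [this]
      exact Submodule.add_mem _ ha hb
    | smul c a _ ha =>
      have : ((c • a)ᵀ).map σ = σ c • aᵀ.map σ := by ext i j; simp
      rw [this]
      exact Submodule.smul_mem _ _ ha
  have h2 := key _ hX
  have h3 : ((X.map σ.symm)ᵀ)ᵀ.map σ = X := by ext i j; simp
  rwa [h3] at h2

lemma span_subtype (hP : ActsAbsolutelyIrreducibly (matrixSet P)) :
    Submodule.span F (Set.range ((Units.coeHom (Matrix ι ι F)).comp P.subtype)) = ⊤ := by
  rw [← Cfsg.Agent.H920.span_eq_top hP]
  congr 1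
  ext X
  constructor
  · rintro ⟨g, rfl⟩
    exact ⟨g, g.2, rfl⟩
  · rintro ⟨g, hg, rfl⟩
    exact ⟨⟨g, hg⟩, rfl⟩

lemma exists_invariant_of_trace (hP : ActsAbsolutelyIrreducibly (matrixSet P)) (σ : F ≃+* F)
    (hσ : ∀ a, σ (σ a) = a)
    (htr : ∀ g ∈ P, ((g⁻¹ : GL ι F) : Matrix ι ι F).trace = σ ((g : Matrix ι ι F).trace)) :
    ∃ M : Matrix ι ι F, IsUnit M ∧
      ∀ g ∈ P, ((g : Matrix ι ι F))ᵀ * M * (g : Matrix ι ι F).map σ = M := by
  classical
  obtain ⟨B, hB⟩ := exists_conj_of_trace ((Units.coeHom (Matrix ι ι F)).comp P.subtype) (dualRep σ P)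
    (span_subtype hP) (span_dualRep hP σ) (by
      intro g
      have h1 := htr g.1 g.2
      have h2 : (dualRep σ P g).trace = σ ((((g : GL ι F)⁻¹ : GL ι F) : Matrix ι ι F).trace) := by
        simp only [dualRep, Matrix.trace, map_sum, _root_.Matrix.trace, _root_.Cfsg.Agent.H906.dualRep, _root_.Matrix.coe_units_inv, _root_.MonoidHom.coe_mk, _root_.OneHom.coe_mk, _root_.Matrix.diag_apply, _root_.Matrix.map_apply, _root_.Matrix.transpose_apply, _root_.map_sum]
      rw [h2, h1, hσ]
      rfl)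
  refine ⟨(B : Matrix ι ι F).map σ, ?_, ?_⟩
  · exact (B.isUnit.map (RingHom.mapMatrix (m := ι) (σ : F →+* F)))
  · intro g hg
    have h1 := hB ⟨g, hg⟩
    have h2 : ((g⁻¹ : GL ι F) : Matrix ι ι F)ᵀ.map σ
        = (B : Matrix ι ι F) * (g : Matrix ι ι F) * ((B⁻¹ : GL ι F) : Matrix ι ι F) := h1
    have h3 : ((g⁻¹ : GL ι F) : Matrix ι ι F)ᵀ.map σ * (B : Matrix ι ι F)
        = (B : Matrix ι ι F) * (g : Matrix ι ι F) := by
      rw [h2, Matrix.mul_assoc ((B : Matrix ι ι F) * (g : Matrix ι ι F)), ← Units.val_mul B⁻¹ B,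
        inv_mul_cancel, Units.val_one, Matrix.mul_one]
    have h4 := congrArg (fun X : Matrix ι ι F => X.map σ) h3
    simp only [Matrix.map_mul] at h4
    have h5 : (((g⁻¹ : GL ι F) : Matrix ι ι F)ᵀ.map σ).map σ = ((g⁻¹ : GL ι F) : Matrix ι ι F)ᵀ := by
      ext i j; simp [hσ]
    rw [h5] at h4
    rw [Matrix.mul_assoc, ← h4, ← Matrix.mul_assoc, ← Matrix.transpose_mul, ← Units.val_mul,
      inv_mul_cancel, Units.val_one, Matrix.transpose_one, Matrix.one_mul]

/-- If `tr(g⁻¹) = σ(tr g)` on an absolutely irreducible group, `σ` an automorphism of order two, then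
the group fixes a non-degenerate unitary form. -/
theorem exists_unitary_of_trace [Nonempty ι] (hP : ActsAbsolutelyIrreducibly (matrixSet P))
    (σ : F ≃+* F) (hne : σ ≠ RingEquiv.refl F) (hσ : ∀ a, σ (σ a) = a)
    (htr : ∀ g ∈ P, ((g⁻¹ : GL ι F) : Matrix ι ι F).trace = σ ((g : Matrix ι ι F).trace)) :
    ∃ f, IsUnitaryForm σ f ∧ FixesForm (matrixSet P) f := by
  obtain ⟨M, hM, h⟩ := exists_invariant_of_trace hP σ hσ htr
  exact exists_unitary_of_invariant hP σ hne hσ hM.ne_zero h

/-- If `tr(g⁻¹) = tr g` on an absolutely irreducible group then the group fixes a non-degenerate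
symmetric or skew-symmetric bilinear form. -/
theorem exists_bilinear_of_trace [Nonempty ι] (hP : ActsAbsolutelyIrreducibly (matrixSet P))
    (htr : ∀ g ∈ P, ((g⁻¹ : GL ι F) : Matrix ι ι F).trace = ((g : Matrix ι ι F).trace)) :
    ∃ f : (ι → F) → (ι → F) → F, IsBilinearForm f ∧ IsNondegenerateForm f ∧
      FixesForm (matrixSet P) f ∧ ((∀ u v, f u v = f v u) ∨ (∀ u v, f u v = - f v u)) := by
  obtain ⟨M, hM, h⟩ := exists_invariant_of_trace hP (RingEquiv.refl F) (fun a => rfl)
    (fun g hg => by rw [htr g hg]; rfl)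
  exact exists_bilinear_of_invariant hP hM.ne_zero (fun g hg => by
    have := h g hg
    have hid : (g : Matrix ι ι F).map (RingEquiv.refl F) = (g : Matrix ι ι F) := by ext i j; simp
    rwa [hid] at this)

end General

end Cfsg.Agent.H906

private theorem dce_38eb63f0d89e : _root_.True := by
  try have : _root_.True := by simp only [_root_.Cfsg.Geo.ActsIrreducibly.congr_simp]
  try have : _root_.True := by simp only [_root_.Cfsg.Agent.H906.sesq.eq_1]
  try have : _root_.True := by simp only [_root_.Cfsg.Agent.H906.dualRep.eq_1]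
  exact _root_.True.intro
end

-- part: H906/TraceField
section
set_option linter.all false
open scoped Cfsg.Agent.FastGrp

/-!
# Realisability over the field of traces (helper906)
-/

set_option autoImplicit false
set_option linter.unusedSectionVars false

namespace Cfsg.Agent.H906

open Cfsg Cfsg.Geo
open scoped MatrixGroups Matrix

section Real

variable {ι : Type} [Fintype ι] [DecidableEq ι] {F : Type*} [Field F]
variable {P : Subgroup (GL ι F)}

lemma trace_mem_of_mem_span (F₀ : Subfield F) (htr : ∀ g ∈ P, (g : Matrix ι ι F).trace ∈ F₀)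
    {x : Matrix ι ι F} (hx : x ∈ Submodule.span F₀ (matrixSet P)) : x.trace ∈ F₀ := by
  induction hx using Submodule.span_induction with
  | mem s hs =>
    obtain ⟨g, hg, rfl⟩ := hs
    exact htr g hg
  | zero => rw [Matrix.trace_zero]; exact F₀.zero_mem
  | add a b _ _ ha hb => rw [Matrix.trace_add]; exact F₀.add_mem ha hb
  | smul c a _ ha =>
    have : (c • a).trace = (c : F) * a.trace := by
      rw [show c • a = (c : F) • a from rfl, Matrix.trace_smul, smul_eq_mul]
    rw [this]
    exact F₀.mul_mem c.2 ha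

lemma adjoin_toSubmodule (F₀ : Subfield F) :
    Subalgebra.toSubmodule (Algebra.adjoin F₀ (matrixSet P)) = Submodule.span F₀ (matrixSet P) := by
  rw [Algebra.adjoin_eq_span]
  congr 1
  apply le_antisymm
  · intro x hx
    induction hx using Submonoid.closure_induction with
    | mem x hx => exact hx
    | one => exact ⟨1, P.one_mem, by simp⟩
    | mul x y _ _ hx hy =>
      obtain ⟨g, hg, rfl⟩ := hx
      obtain ⟨k, hk, rfl⟩ := hy
      exact ⟨g * k, P.mul_mem hg hk, by simp⟩
  · exact Submonoid.subset_closure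

/-- An absolutely irreducible group over a finite field with all traces in the subfield `F₀` is
realisable over `F₀`. -/
theorem realisable_of_trace [Finite F] (hP : ActsAbsolutelyIrreducibly (matrixSet P))
    (F₀ : Subfield F) (htr : ∀ g ∈ P, (g : Matrix ι ι F).trace ∈ F₀) :
    RealisableOver F₀ (matrixSet P) := by
  classical
  rcases isEmpty_or_nonempty ι with he | hne
  · exact ⟨1, fun s _ i => (he.false i).elim⟩
  have hspan := Cfsg.Agent.H920.span_eq_top hP
  set A : Subalgebra F₀ (Matrix ι ι F) := Algebra.adjoin F₀ (matrixSet P) with hA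
  have hAtr : ∀ x : A, (x : Matrix ι ι F).trace ∈ F₀ := by
    intro x
    apply trace_mem_of_mem_span F₀ htr
    rw [← adjoin_toSubmodule]
    exact x.2
  have hPA : ∀ g ∈ P, (g : Matrix ι ι F) ∈ A := fun g hg => Algebra.subset_adjoin ⟨g, hg, rfl⟩
  have hfinA : Finite A := inferInstance
  have hartA : IsArtinianRing A := inferInstance
  have hmodA : Module.Finite F₀ A := inferInstance
  have hnt : Nontrivial A := inferInstance
  have hss : IsSemisimpleRing A := by
    rw [IsArtinianRing.isSemisimpleRing_iff_jacobson, eq_bot_iff]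
    intro x hx
    have hnil : IsNilpotent (Ring.jacobson A) := IsSemiprimaryRing.isNilpotent
    obtain ⟨n, hn⟩ := hnil
    have h1 : ∀ y ∈ Ring.jacobson A, y ^ n = 0 := by
      intro y hy
      have := Ideal.pow_mem_pow hy n
      rw [hn] at this
      exact this
    have h2 : (x : Matrix ι ι F) = 0 := by
      apply eq_zero_of_trace_mul hspan
      rintro _ ⟨g, hg, rfl⟩
      have h3 : (x * ⟨(g : Matrix ι ι F), hPA g hg⟩ : A) ^ n = 0 := by
        apply h1
        exact Ideal.mul_mem_right _ _ hx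
      have h4 : IsNilpotent ((x : Matrix ι ι F) * (g : Matrix ι ι F)) :=
        ⟨n, by
          have := congrArg Subtype.val h3
          simpa using this⟩
      exact (Matrix.isNilpotent_trace_of_isNilpotent h4).eq_zero
    have h5 : x = 0 := Subtype.ext h2
    rw [h5]
    exact Submodule.zero_mem _
  obtain ⟨w, hw, ⟨e⟩⟩ := Cfsg.Agent.H919.exists_algEquiv_matrix_of_center (F := F₀) A (by
    intro x hx
    obtain ⟨c, hc⟩ := hP.2 (x : Matrix ι ι F) (by
      rintro _ ⟨g, hg, rfl⟩
      exact congrArg Subtype.val (hx ⟨(g : Matrix ι ι F), hPA g hg⟩))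
    -- c ∈ F₀
    have h1 : ∃ g ∈ P, (g : Matrix ι ι F).trace ≠ 0 := by
      by_contra hcon
      push Not at hcon
      have h2 : (1 : Matrix ι ι F) = 0 := by
        apply eq_zero_of_trace_mul hspan
        rintro _ ⟨g, hg, rfl⟩
        rw [one_mul]
        exact hcon g hg
      exact one_ne_zero h2
    obtain ⟨g, hg, hg0⟩ := h1
    have h3 := hAtr (x * ⟨(g : Matrix ι ι F), hPA g hg⟩)
    have h4 : ((x * ⟨(g : Matrix ι ι F), hPA g hg⟩ : A) : Matrix ι ι F) = c • (g : Matrix ι ι F) := by
      change (x : Matrix ι ι F) * (g : Matrix ι ι F) = _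
      rw [hc, Matrix.smul_mul, Matrix.one_mul]
    rw [h4, Matrix.trace_smul, smul_eq_mul] at h3
    have h5 : c ∈ F₀ := by
      have h6 := F₀.mul_mem h3 (F₀.inv_mem (htr g hg))
      rwa [mul_assoc, mul_inv_cancel₀ hg0, mul_one] at h6
    refine ⟨⟨c, h5⟩, ?_⟩
    apply Subtype.ext
    rw [hc, ← Algebra.algebraMap_eq_smul_one]
    rfl)
  -- the F-algebra homomorphism extending the inverse of e
  let u : Fin w → Fin w → Matrix ι ι F := fun i j => ((e.symm (Matrix.single i j 1) : A) : Matrix ι ι F)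
  have hu : ∀ i j k l, u i j * u k l = if j = k then u i l else 0 := by
    intro i j k l
    have h1 : u i j * u k l = ((e.symm (Matrix.single i j 1 * Matrix.single k l 1) : A) : Matrix ι ι F) := by
      rw [map_mul]; rfl
    rw [h1]
    by_cases hjk : j = k
    · subst hjk
      rw [Matrix.single_mul_single_same, one_mul, if_pos rfl]
    · rw [Matrix.single_mul_single_of_ne (h := hjk), map_zero, if_neg hjk]
      rfl
  have hu1 : ∑ i, u i i = 1 := by
    have h1 : ∑ i, u i i = ((e.symm (∑ i, Matrix.single i i (1 : F₀)) : A) : Matrix ι ι F) := by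
      rw [map_sum, AddSubmonoidClass.coe_finsetSum]
    rw [h1]
    have h2 : ∑ i, Matrix.single i i (1 : F₀) = (1 : Matrix (Fin w) (Fin w) F₀) := by
      ext a b
      rw [Matrix.sum_apply]
      by_cases hab : a = b
      · subst hab
        simp [Matrix.single_apply]
      · rw [Matrix.one_apply_ne hab]
        refine congrArg _ (Finset.sum_eq_zero ?_)
        intro i _
        rw [Matrix.single_apply, if_neg]
        rintro ⟨rfl, rfl⟩
        exact hab rfl
    rw [h2, map_one]
    rfl
  let ψl : Matrix (Fin w) (Fin w) F →ₗ[F] Matrix ι ι F :=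
    { toFun := fun X => ∑ i, ∑ j, X i j • u i j
      map_add' := fun X Y => by
        simp only [Matrix.add_apply, add_smul, Finset.sum_add_distrib]
      map_smul' := fun c X => by
        simp only [Matrix.smul_apply, smul_eq_mul, mul_smul, Finset.smul_sum, RingHom.id_apply] }
  have hψl : ∀ X, ψl X = ∑ i, ∑ j, X i j • u i j := fun X => rfl
  let ψ : Matrix (Fin w) (Fin w) F →ₐ[F] Matrix ι ι F := AlgHom.ofLinearMap ψl (by
      rw [hψl, ← hu1]
      apply Finset.sum_congr rfl
      intro i _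
      rw [Finset.sum_eq_single i]
      · rw [Matrix.one_apply_eq, one_smul]
      · intro j _ hj
        rw [Matrix.one_apply_ne hj.symm, zero_smul]
      · intro h; exact absurd (Finset.mem_univ _) h) (by
      intro X Y
      rw [hψl, hψl, hψl, Finset.sum_mul_sum]
      apply Finset.sum_congr rfl
      intro i _
      have h1 : ∀ k, (∑ j, X i j • u i j) * (∑ l, Y k l • u k l) = ∑ l, (X i k * Y k l) • u i l := by
        intro k
        rw [Finset.sum_mul_sum, Finset.sum_comm]
        apply Finset.sum_congr rfl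
        intro l _
        rw [Finset.sum_eq_single k]
        · rw [smul_mul_smul_comm, hu, if_pos rfl]
        · intro j _ hj
          rw [smul_mul_smul_comm, hu, if_neg hj, smul_zero]
        · intro h; exact absurd (Finset.mem_univ _) h
      rw [Finset.sum_congr rfl (fun k _ => h1 k), Finset.sum_comm]
      apply Finset.sum_congr rfl
      intro l _
      rw [Matrix.mul_apply, Finset.sum_smul])
  have hψ : ∀ X, ψ X = ∑ i, ∑ j, X i j • u i j := fun X => rfl
  have hψe : ∀ Y : Matrix (Fin w) (Fin w) F₀, ψ (Y.map (fun c => (c : F))) = ((e.symm Y : A) : Matrix ι ι F) := by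
    intro Y
    have h1 : Y = ∑ i, ∑ j, Matrix.single i j (Y i j) := Matrix.matrix_eq_sum_single Y
    rw [hψ]
    conv_rhs => rw [h1]
    rw [map_sum, AddSubmonoidClass.coe_finsetSum]
    apply Finset.sum_congr rfl
    intro i _
    rw [map_sum, AddSubmonoidClass.coe_finsetSum]
    apply Finset.sum_congr rfl
    intro j _
    have h2 : Matrix.single i j (Y i j) = (Y i j) • Matrix.single i j (1 : F₀) := by
      rw [Matrix.smul_single, smul_eq_mul, mul_one]
    rw [h2, map_smul]
    rfl
  have hsurj : Function.Surjective ψ := by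
    have : LinearMap.range ψ.toLinearMap = ⊤ := by
      rw [eq_top_iff, ← hspan, Submodule.span_le]
      rintro _ ⟨g, hg, rfl⟩
      refine ⟨(e ⟨(g : Matrix ι ι F), hPA g hg⟩).map (fun c => (c : F)), ?_⟩
      change ψ _ = _
      rw [hψe, AlgEquiv.symm_apply_apply]
    exact LinearMap.range_eq_top.1 this
  have hwpos : Nonempty (Fin w) := ⟨⟨0, hw⟩⟩
  have hinj : Function.Injective ψ := by
    have : Function.Injective (ψ : Matrix (Fin w) (Fin w) F →+* Matrix ι ι F) := RingHom.injective _
    exact this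
  have hcard : Fintype.card (Fin w) = Fintype.card ι := by
    have h1 := LinearEquiv.finrank_eq (LinearEquiv.ofBijective ψ.toLinearMap ⟨hinj, hsurj⟩)
    rw [Module.finrank_matrix, Module.finrank_matrix, Module.finrank_self, mul_one, mul_one] at h1
    exact Nat.mul_self_inj.1 h1
  let r : Fin w ≃ ι := Fintype.equivOfCardEq hcard
  let Ψ : Matrix ι ι F ≃ₐ[F] Matrix ι ι F :=
    (Matrix.reindexAlgEquiv F F r.symm).trans (AlgEquiv.ofBijective ψ ⟨hinj, hsurj⟩)
  obtain ⟨Q, hQ⟩ := Cfsg.Agent.H919.exists_conj_of_algEquiv Ψ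
  refine ⟨Q⁻¹, ?_⟩
  rintro _ ⟨g, hg, rfl⟩ i j
  set Y := e ⟨(g : Matrix ι ι F), hPA g hg⟩ with hY
  have h1 : ψ (Y.map (fun c => (c : F))) = (g : Matrix ι ι F) := by
    rw [hψe, hY, AlgEquiv.symm_apply_apply]
  have h2 : Ψ (Matrix.reindexAlgEquiv F F r (Y.map (fun c => (c : F)))) = (g : Matrix ι ι F) := by
    change ψ (Matrix.reindexAlgEquiv F F r.symm (Matrix.reindexAlgEquiv F F r (Y.map (fun c => (c : F))))) = _
    have : Matrix.reindexAlgEquiv F F r.symm (Matrix.reindexAlgEquiv F F r (Y.map (fun c => (c : F))))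
        = Y.map (fun c => (c : F)) := by
      ext a b; simp [Matrix.coe_reindexAlgEquiv, Matrix.reindex_apply]
    rw [this, h1]
  rw [hQ] at h2
  have h3 : ((Q⁻¹ : GL ι F) : Matrix ι ι F) * (g : Matrix ι ι F) * (((Q⁻¹)⁻¹ : GL ι F) : Matrix ι ι F)
      = Matrix.reindexAlgEquiv F F r (Y.map (fun c => (c : F))) := by
    rw [← h2, inv_inv]
    simp only [Matrix.mul_assoc, ← Units.val_mul]
    rw [inv_mul_cancel, Units.val_one, Matrix.mul_one, ← Matrix.mul_assoc, ← Units.val_mul,
      inv_mul_cancel, Units.val_one, Matrix.one_mul]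
  rw [h3]
  simp [Matrix.coe_reindexAlgEquiv, Matrix.reindex_apply]

end Real

end Cfsg.Agent.H906
end

-- part: H906/MatCoef
section
prune_inst 0x11500540746202001818851652001c62ba000502004b440094830a020fcb9c4328470661b37009154098acd46838004000540040426800000e200c00011d05a1808042088248010c66008f800880000000000000000000000000000000051004200000000
set_option linter.all false
open scoped Cfsg.Agent.FastGrp

/-!
# Matrix coefficients (helper906)

Two matrix representations spanning the full matrix algebra that have one common non-zero matrix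
coefficient (linear functional) are conjugate; consequences for traces.
-/

set_option autoImplicit false
set_option linter.unusedSectionVars false

namespace Cfsg.Agent.H906

open Cfsg Cfsg.Geo
open scoped MatrixGroups Matrix

section Conj

variable {ι : Type} [Fintype ι] [DecidableEq ι] {F : Type*} [Field F]

theorem exists_conj_of_ker {A : Type*} [Ring A] [Algebra F A] (a₁ a₂ : A →ₐ[F] Matrix ι ι F)
    (hs₁ : Function.Surjective a₁) (hs₂ : Function.Surjective a₂)
    (hker : ∀ x, a₁ x = 0 ↔ a₂ x = 0) :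
    ∃ B : GL ι F, ∀ x, a₂ x = (B : Matrix ι ι F) * a₁ x * ((B⁻¹ : GL ι F) : Matrix ι ι F) := by
  classical
  have heq : ∀ x y, a₁ x = a₁ y → a₂ x = a₂ y := by
    intro x y hxy
    have := (hker (x - y)).1 (by rw [map_sub, hxy, sub_self])
    rwa [map_sub, sub_eq_zero] at this
  have heq' : ∀ x y, a₂ x = a₂ y → a₁ x = a₁ y := by
    intro x y hxy
    have := (hker (x - y)).2 (by rw [map_sub, hxy, sub_self])
    rwa [map_sub, sub_eq_zero] at this
  let s : Matrix ι ι F → A := Function.surjInv hs₁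
  have hs : ∀ X, a₁ (s X) = X := Function.surjInv_eq hs₁
  let φ : Matrix ι ι F →ₐ[F] Matrix ι ι F :=
    { toFun := fun X => a₂ (s X)
      map_one' := by
        have := heq (s 1) 1 (by rw [hs, map_one])
        rw [this, map_one]
      map_mul' := fun X Y => by
        have := heq (s (X * Y)) (s X * s Y) (by rw [hs, map_mul, hs, hs])
        rw [this, map_mul]
      map_zero' := by
        have := heq (s 0) 0 (by rw [hs, map_zero])
        rw [this, map_zero]
      map_add' := fun X Y => by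
        have := heq (s (X + Y)) (s X + s Y) (by rw [hs, map_add, hs, hs])
        rw [this, map_add]
      commutes' := fun c => by
        have := heq (s (algebraMap F _ c)) (algebraMap F _ c) (by rw [hs, AlgHom.commutes])
        rw [this, AlgHom.commutes] }
  have hφ : ∀ x, φ (a₁ x) = a₂ x := fun x => heq _ _ (hs _)
  let Φ : Matrix ι ι F ≃ₐ[F] Matrix ι ι F := AlgEquiv.ofBijective φ (by
    constructor
    · intro X Y hXY
      have := heq' _ _ hXY
      rwa [hs, hs] at this
    · intro Y
      obtain ⟨y, rfl⟩ := hs₂ Y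
      exact ⟨a₁ y, hφ y⟩)
  obtain ⟨B, hB⟩ := Cfsg.Agent.H919.exists_conj_of_algEquiv Φ
  refine ⟨B, fun g => ?_⟩
  rw [← hB]
  exact (hφ _).symm

/-- A non-zero matrix does not generate an ideal inside the kernel of a non-zero functional. -/
lemma eq_zero_of_functional (t : Matrix ι ι F →ₗ[F] F) (ht : t ≠ 0) {X : Matrix ι ι F}
    (h : ∀ A B : Matrix ι ι F, t (A * X * B) = 0) : X = 0 := by
  by_contra hX
  apply ht
  obtain ⟨i, j, hij⟩ : ∃ i j, X i j ≠ 0 := by
    by_contra hcon
    push Not at hcon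
    exact hX (Matrix.ext hcon)
  have h1 : ∀ a b, t (Matrix.single a b 1) = 0 := by
    intro a b
    have h2 := h (Matrix.single a i 1) (Matrix.single j b 1)
    have h3 : Matrix.single a i 1 * X * Matrix.single j b 1 = (X i j) • Matrix.single a b (1 : F) := by
      rw [Matrix.single_mul_mul_single, one_mul, mul_one, Matrix.smul_single, smul_eq_mul, mul_one]
    rw [h3, map_smul, smul_eq_mul, mul_eq_zero] at h2
    exact h2.resolve_left hij
  apply Matrix.ext_linearMap
  intro a b
  ext
  simp [h1 a b]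

variable {G : Type*} [Group G]

/-- The extension of a matrix representation to the group algebra. -/
noncomputable def algExt (ρ : G →* Matrix ι ι F) : MonoidAlgebra F G →ₐ[F] Matrix ι ι F :=
  MonoidAlgebra.lift F (Matrix ι ι F) G ρ

lemma algExt_of (ρ : G →* Matrix ι ι F) (g : G) : algExt ρ (MonoidAlgebra.of F G g) = ρ g :=
  MonoidAlgebra.lift_of _ _

lemma algExt_surjective {ρ : G →* Matrix ι ι F} (h : Submodule.span F (Set.range ρ) = ⊤) :
    Function.Surjective (algExt ρ) := by
  have : LinearMap.range (algExt ρ).toLinearMap = ⊤ := by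
    rw [eq_top_iff, ← h, Submodule.span_le]
    rintro _ ⟨g, rfl⟩
    exact ⟨MonoidAlgebra.of F G g, algExt_of ρ g⟩
  exact LinearMap.range_eq_top.1 this

/-- Two spanning matrix representations with a common non-zero functional are conjugate. -/
theorem exists_conj_of_functional (ρ₁ ρ₂ : G →* Matrix ι ι F)
    (h₁ : Submodule.span F (Set.range ρ₁) = ⊤) (h₂ : Submodule.span F (Set.range ρ₂) = ⊤)
    (t₁ t₂ : Matrix ι ι F →ₗ[F] F) (ht₁ : t₁ ≠ 0) (ht₂ : t₂ ≠ 0)
    (h : ∀ g, t₁ (ρ₁ g) = t₂ (ρ₂ g)) :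
    ∃ B : GL ι F, ∀ g, ρ₂ g = (B : Matrix ι ι F) * ρ₁ g * ((B⁻¹ : GL ι F) : Matrix ι ι F) := by
  classical
  have hh : ∀ x : MonoidAlgebra F G, t₁ (algExt ρ₁ x) = t₂ (algExt ρ₂ x) := by
    intro x
    induction x using MonoidAlgebra.induction_on with
    | of g => rw [algExt_of, algExt_of, h]
    | add x y hx hy => rw [map_add, map_add, map_add, map_add, hx, hy]
    | smul c x hx => rw [map_smul, map_smul, map_smul, map_smul, hx]
  have hs₁ := algExt_surjective h₁
  have hs₂ := algExt_surjective h₂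
  obtain ⟨B, hB⟩ := exists_conj_of_ker (algExt ρ₁) (algExt ρ₂) hs₁ hs₂ (by
    intro x
    constructor
    · intro hx
      apply eq_zero_of_functional t₂ ht₂
      intro A B
      obtain ⟨a, rfl⟩ := hs₂ A
      obtain ⟨b, rfl⟩ := hs₂ B
      rw [← map_mul, ← map_mul, ← hh, map_mul (algExt ρ₁), map_mul (algExt ρ₁), hx, mul_zero,
        zero_mul, map_zero]
    · intro hx
      apply eq_zero_of_functional t₁ ht₁
      intro A B
      obtain ⟨a, rfl⟩ := hs₁ A
      obtain ⟨b, rfl⟩ := hs₁ B
      rw [← map_mul, ← map_mul, hh, map_mul (algExt ρ₂), map_mul (algExt ρ₂), hx, mul_zero,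
        zero_mul, map_zero])
  refine ⟨B, fun g => ?_⟩
  have := hB (MonoidAlgebra.of F G g)
  rwa [algExt_of, algExt_of] at this

lemma trace_eq_of_conj {ρ₁ ρ₂ : G →* Matrix ι ι F}
    (h : ∃ B : GL ι F, ∀ g, ρ₂ g = (B : Matrix ι ι F) * ρ₁ g * ((B⁻¹ : GL ι F) : Matrix ι ι F)) (g : G) :
    (ρ₂ g).trace = (ρ₁ g).trace := by
  obtain ⟨B, hB⟩ := h
  rw [hB, Matrix.trace_mul_comm, ← Matrix.mul_assoc, ← Units.val_mul, inv_mul_cancel, Units.val_one,
    Matrix.one_mul]

/-- The functional `X ↦ φ · X · e`. -/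
def coef (φ e : ι → F) : Matrix ι ι F →ₗ[F] F where
  toFun X := φ ⬝ᵥ (X *ᵥ e)
  map_add' X Y := by rw [Matrix.add_mulVec, dotProduct_add]
  map_smul' c X := by rw [Matrix.smul_mulVec, dotProduct_smul, RingHom.id_apply]

lemma coef_ne_zero {φ e : ι → F} (hφ : φ ≠ 0) (he : e ≠ 0) : coef φ e ≠ 0 := by
  intro h
  obtain ⟨i, hi⟩ := Function.ne_iff.1 hφ
  obtain ⟨j, hj⟩ := Function.ne_iff.1 he
  have h1 : coef φ e (Matrix.single i j 1) = 0 := by rw [h]; rfl
  have h2 : coef φ e (Matrix.single i j 1) = φ i * e j := by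
    change φ ⬝ᵥ (Matrix.single i j 1 *ᵥ e) = φ i * e j
    have h4 : Matrix.single i j (1 : F) *ᵥ e = Pi.single i (e j) := by
      rw [Matrix.single_mulVec, one_mul]; rfl
    rw [h4, dotProduct_single]
  rw [h2] at h1
  rcases mul_eq_zero.1 h1 with h3 | h3
  · exact hi h3
  · exact hj h3

/-- Twisting a representation by a field automorphism. -/
def twist (σ : F ≃+* F) (ρ : G →* Matrix ι ι F) : G →* Matrix ι ι F where
  toFun g := (ρ g).map σ
  map_one' := by
    rw [map_one]
    ext i j
    by_cases hij : i = j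
    · subst hij; simp
    · simp [hij]
  map_mul' a b := by rw [map_mul, Matrix.map_mul]

lemma twist_apply (σ : F ≃+* F) (ρ : G →* Matrix ι ι F) (g : G) : twist σ ρ g = (ρ g).map σ := rfl

lemma span_twist (σ : F ≃+* F) {ρ : G →* Matrix ι ι F} (h : Submodule.span F (Set.range ρ) = ⊤) :
    Submodule.span F (Set.range (twist σ ρ)) = ⊤ := by
  rw [eq_top_iff]
  rintro X -
  have key : ∀ Y ∈ Submodule.span F (Set.range ρ), Y.map σ ∈ Submodule.span F (Set.range (twist σ ρ)) := by
    intro Y hY
    induction hY using Submodule.span_induction with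
    | mem s hs =>
      obtain ⟨g, rfl⟩ := hs
      exact Submodule.subset_span ⟨g, rfl⟩
    | zero =>
      have : ((0 : Matrix ι ι F)).map σ = 0 := by ext i j; simp
      rw [this]
      exact Submodule.zero_mem _
    | add a b _ _ ha hb =>
      have : ((a + b)).map σ = a.map σ + b.map σ := by ext i j; simp
      rw [this]
      exact Submodule.add_mem _ ha hb
    | smul c a _ ha =>
      have : ((c • a)).map σ = σ c • a.map σ := by ext i j; simp
      rw [this]
      exact Submodule.smul_mem _ _ ha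
  have h2 := key (X.map σ.symm) (by rw [h]; trivial)
  have h3 : (X.map σ.symm).map σ = X := by ext i j; simp
  rwa [h3] at h2

/-- The contragredient representation. -/
def contra (ρ : G →* Matrix ι ι F) : G →* Matrix ι ι F where
  toFun g := (ρ g⁻¹)ᵀ
  map_one' := by simp
  map_mul' a b := by rw [mul_inv_rev, map_mul, Matrix.transpose_mul]

lemma contra_apply (ρ : G →* Matrix ι ι F) (g : G) : contra ρ g = (ρ g⁻¹)ᵀ := rfl

lemma span_contra {ρ : G →* Matrix ι ι F} (h : Submodule.span F (Set.range ρ) = ⊤) :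
    Submodule.span F (Set.range (contra ρ)) = ⊤ := by
  rw [eq_top_iff]
  rintro X -
  have key : ∀ Y ∈ Submodule.span F (Set.range ρ), Yᵀ ∈ Submodule.span F (Set.range (contra ρ)) := by
    intro Y hY
    induction hY using Submodule.span_induction with
    | mem s hs =>
      obtain ⟨g, rfl⟩ := hs
      exact Submodule.subset_span ⟨g⁻¹, by rw [contra_apply, inv_inv]⟩
    | zero => rw [Matrix.transpose_zero]; exact Submodule.zero_mem _
    | add a b _ _ ha hb => rw [Matrix.transpose_add]; exact Submodule.add_mem _ ha hb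
    | smul c a _ ha => rw [Matrix.transpose_smul]; exact Submodule.smul_mem _ _ ha
  have h2 := key Xᵀ (by rw [h]; trivial)
  rwa [Matrix.transpose_transpose] at h2

lemma map_trace' (σ : F ≃+* F) (X : Matrix ι ι F) : (X.map σ).trace = σ X.trace := by
  simp [Matrix.trace, map_sum]

lemma map_coef (σ : F ≃+* F) (φ e : ι → F) (X : Matrix ι ι F) :
    coef (σ ∘ φ) (σ ∘ e) (X.map σ) = σ (coef φ e X) := by
  change (σ ∘ φ) ⬝ᵥ ((X.map σ) *ᵥ (σ ∘ e)) = σ (φ ⬝ᵥ (X *ᵥ e))
  rw [map_dotProduct', comp_mulVec]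

lemma comp_ne_zero (σ : F ≃+* F) {v : ι → F} (hv : v ≠ 0) : (σ ∘ v : ι → F) ≠ 0 := by
  intro h
  apply hv
  funext i
  have := congrFun h i
  simpa using this

/-- **(M1)** If a matrix coefficient `f(g) = φ(g e)` satisfies `σ(f(g)) = c · f(g)` then all traces
are fixed by `σ`. -/
theorem trace_fixed_of_coef {ρ : G →* Matrix ι ι F} (h : Submodule.span F (Set.range ρ) = ⊤)
    (σ : F ≃+* F) {φ e : ι → F} (hφ : φ ≠ 0) (he : e ≠ 0) {c : F} (hc : c ≠ 0)
    (hf : ∀ g, σ (φ ⬝ᵥ (ρ g *ᵥ e)) = c * (φ ⬝ᵥ (ρ g *ᵥ e))) (g : G) :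
    σ (ρ g).trace = (ρ g).trace := by
  have h1 := exists_conj_of_functional ρ (twist σ ρ) h (span_twist σ h) (c • coef φ e)
    (coef (σ ∘ φ) (σ ∘ e)) (by
      intro h0
      rcases smul_eq_zero.1 h0 with h1 | h1
      · exact hc h1
      · exact coef_ne_zero hφ he h1) (coef_ne_zero (comp_ne_zero σ hφ) (comp_ne_zero σ he)) (by
      intro g
      rw [twist_apply, map_coef, LinearMap.smul_apply, smul_eq_mul]
      exact (hf g).symm)
  have h3 := trace_eq_of_conj h1 g
  rwa [twist_apply, map_trace'] at h3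

/-- **(M2)** If a matrix coefficient `f(g) = φ(g e)` satisfies `σ(f(g)) = c · f(g⁻¹)` then
`σ(tr g) = tr g⁻¹`. -/
theorem trace_inv_of_coef {ρ : G →* Matrix ι ι F} (h : Submodule.span F (Set.range ρ) = ⊤)
    (σ : F ≃+* F) {φ e : ι → F} (hφ : φ ≠ 0) (he : e ≠ 0) {c : F} (hc : c ≠ 0)
    (hf : ∀ g, σ (φ ⬝ᵥ (ρ g *ᵥ e)) = c * (φ ⬝ᵥ (ρ g⁻¹ *ᵥ e))) (g : G) :
    σ (ρ g).trace = (ρ g⁻¹).trace := by
  have h1 := exists_conj_of_functional (contra ρ) (twist σ ρ) (span_contra h) (span_twist σ h)
    (c • coef e φ)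
    (coef (σ ∘ φ) (σ ∘ e)) (by
      intro h0
      rcases smul_eq_zero.1 h0 with h1 | h1
      · exact hc h1
      · exact coef_ne_zero he hφ h1) (coef_ne_zero (comp_ne_zero σ hφ) (comp_ne_zero σ he)) (by
      intro g
      rw [twist_apply, map_coef, LinearMap.smul_apply, smul_eq_mul]
      have h2 : coef e φ (contra ρ g) = φ ⬝ᵥ (ρ g⁻¹ *ᵥ e) := by
        change e ⬝ᵥ ((ρ g⁻¹)ᵀ *ᵥ φ) = φ ⬝ᵥ (ρ g⁻¹ *ᵥ e)
        rw [Matrix.mulVec_transpose, Matrix.dotProduct_mulVec, dotProduct_comm]
      rw [h2]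
      exact (hf g).symm)
  have h3 := trace_eq_of_conj h1 g
  rw [twist_apply, map_trace', contra_apply, Matrix.trace_transpose] at h3
  exact h3

end Conj

end Cfsg.Agent.H906
end

-- part: H906/RankOne
section
prune_inst 0x11500100646200001018850650201c62b60004b2004b0400c4830e400f890c61288506e1b310011542100cc560390000005400090240000004200400011d048100800008a0480008420096000800000000000000000000000000000000000000200000000
set_option linter.all false
open scoped Cfsg.Agent.FastGrp

/-!
# Rank-one and rank-two arguments for three-dimensional representations in defining characteristic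
(helper906)
-/

set_option autoImplicit false
set_option linter.unusedSectionVars false

namespace Cfsg.Agent.H906

open Cfsg Cfsg.Geo
open scoped MatrixGroups Matrix

section Fix

variable {ι : Type} [Fintype ι] [DecidableEq ι] {F : Type*} [Field F] {G : Type*} [Group G]

/-- The vectors fixed by all `ρ s`, `s ∈ S`. -/
def fixSub (ρ : G →* Matrix ι ι F) (S : Subgroup G) : Submodule F (ι → F) where
  carrier := {v | ∀ s ∈ S, ρ s *ᵥ v = v}
  add_mem' := by
    intro a b ha hb s hs
    rw [Matrix.mulVec_add, ha s hs, hb s hs]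
  zero_mem' := fun s _ => Matrix.mulVec_zero _
  smul_mem' := by
    intro c a ha s hs
    rw [Matrix.mulVec_smul, ha s hs]

lemma rho_mul (ρ : G →* Matrix ι ι F) (a b : G) (v : ι → F) :
    ρ (a * b) *ᵥ v = ρ a *ᵥ (ρ b *ᵥ v) := by
  rw [map_mul, Matrix.mulVec_mulVec]

lemma rho_inv_mul (ρ : G →* Matrix ι ι F) (a : G) (v : ι → F) :
    ρ a⁻¹ *ᵥ (ρ a *ᵥ v) = v := by
  rw [← rho_mul, inv_mul_cancel, map_one, Matrix.one_mulVec]

lemma fixSub_mono (ρ : G →* Matrix ι ι F) {S T : Subgroup G} (h : S ≤ T) : fixSub ρ T ≤ fixSub ρ S :=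
  fun _ hv s hs => hv s (h hs)

lemma fixSub_invariant (ρ : G →* Matrix ι ι F) {S : Subgroup G} {b : G}
    (hb : ∀ s ∈ S, b⁻¹ * s * b ∈ S) {v : ι → F} (hv : v ∈ fixSub ρ S) : ρ b *ᵥ v ∈ fixSub ρ S := by
  intro s hs
  have h1 := hv _ (hb s hs)
  rw [← rho_mul]
  have h2 : s * b = b * (b⁻¹ * s * b) := by group
  rw [h2, rho_mul, h1]

/-- A spanning representation is irreducible. -/
lemma eq_bot_or_top {ρ : G →* Matrix ι ι F} (h : Submodule.span F (Set.range ρ) = ⊤)
    (W : Submodule F (ι → F)) (hW : ∀ g, ∀ v ∈ W, ρ g *ᵥ v ∈ W) : W = ⊥ ∨ W = ⊤ := by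
  by_cases h0 : W = ⊥
  · exact Or.inl h0
  right
  obtain ⟨v, hv, hv0⟩ := W.ne_bot_iff.1 h0
  have key : ∀ X : Matrix ι ι F, X *ᵥ v ∈ W := by
    intro X
    have hX : X ∈ Submodule.span F (Set.range ρ) := by rw [h]; trivial
    induction hX using Submodule.span_induction with
    | mem s hs =>
      obtain ⟨g, rfl⟩ := hs
      exact hW g v hv
    | zero => rw [Matrix.zero_mulVec]; exact W.zero_mem
    | add a b _ _ ha hb => rw [Matrix.add_mulVec]; exact W.add_mem ha hb
    | smul c a _ ha => rw [Matrix.smul_mulVec]; exact W.smul_mem _ ha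
  obtain ⟨j, hj⟩ := Function.ne_iff.1 hv0
  rw [eq_top_iff]
  rintro u -
  have h1 := key (Matrix.of fun i k => if k = j then u i * (v j)⁻¹ else 0)
  have h2 : (Matrix.of fun i k => if k = j then u i * (v j)⁻¹ else 0) *ᵥ v = u := by
    funext i
    simp only [Matrix.mulVec, dotProduct, Matrix.of_apply, ite_mul, zero_mul,
      Finset.sum_ite_eq', Finset.mem_univ, if_true]
    rw [mul_assoc, inv_mul_cancel₀ hj, mul_one]
  rwa [h2] at h1

/-- A `p`-group acting on a non-zero space over a finite field of characteristic `p` fixes a non-zero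
vector. -/
lemma exists_fixed [Finite F] (p : ℕ) [Fact p.Prime] [CharP F p] (ρ : G →* Matrix ι ι F)
    {S : Subgroup G} (hS : IsPGroup p S) (W : Submodule F (ι → F)) (hW : W ≠ ⊥)
    (hinv : ∀ s ∈ S, ∀ v ∈ W, ρ s *ᵥ v ∈ W) : ∃ v ∈ W, v ≠ 0 ∧ v ∈ fixSub ρ S := by
  classical
  let act : MulAction S W :=
    { smul := fun s v => ⟨ρ s *ᵥ v, hinv s s.2 v v.2⟩
      one_smul := fun v => Subtype.ext (by
        change ρ ((1 : S) : G) *ᵥ (v : ι → F) = v
        rw [Subgroup.coe_one, map_one, Matrix.one_mulVec])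
      mul_smul := fun a b v => Subtype.ext (by
        change ρ ((a * b : S) : G) *ᵥ (v : ι → F) = ρ a *ᵥ (ρ b *ᵥ v)
        rw [Subgroup.coe_mul, rho_mul]) }
  have hfin : Finite W := inferInstance
  have hdvd : p ∣ Nat.card W := by
    obtain ⟨v, hv, hv0⟩ := W.ne_bot_iff.1 hW
    have h1 : addOrderOf (⟨v, hv⟩ : W) = p := by
      apply addOrderOf_eq_prime
      · apply Subtype.ext
        change p • v = 0
        funext i
        simp
      · intro h
        exact hv0 (congrArg Subtype.val h)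
    rw [← h1]
    exact addOrderOf_dvd_natCard _
  obtain ⟨b, hb, hb0⟩ := hS.exists_fixed_point_of_prime_dvd_card_of_fixed_point W hdvd
    (a := (0 : W)) (by
      intro s
      apply Subtype.ext
      change ρ s *ᵥ ((0 : W) : ι → F) = 0
      simp)
  refine ⟨b, b.2, fun h => hb0 (Subtype.ext h.symm), ?_⟩
  intro s hs
  exact congrArg Subtype.val (hb ⟨s, hs⟩)

end Fix

section Dim3

variable {F : Type*} [Field F] {G : Type*} [Group G]

local notation "V" => (Fin 3 → F)

lemma finrank_V : Module.finrank F (Fin 3 → F) = 3 := by simp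

/-- In an irreducible three-dimensional representation a non-zero vector is not an eigenvector for
everything. -/
lemma not_all_eigen {ρ : G →* Matrix (Fin 3) (Fin 3) F}
    (h : Submodule.span F (Set.range ρ) = ⊤) {v : Fin 3 → F} (hv : v ≠ 0)
    (hall : ∀ g, ∃ c : F, ρ g *ᵥ v = c • v) : False := by
  rcases eq_bot_or_top h (Submodule.span F {v}) (by
    intro g u hu
    obtain ⟨a, rfl⟩ := Submodule.mem_span_singleton.1 hu
    obtain ⟨c, hc⟩ := hall g
    rw [Matrix.mulVec_smul, hc]
    exact Submodule.smul_mem _ _ (Submodule.smul_mem _ _ (Submodule.mem_span_singleton_self v))) with h0 | h0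
  · exact hv (Submodule.span_singleton_eq_bot.1 h0)
  · have h1 : Module.finrank F (Submodule.span F {v}) = 1 := finrank_span_singleton hv
    rw [h0, finrank_top, finrank_V] at h1
    omega

/-- If `S` and its conjugate `S^w` generate `G` then `S` fixes at most a line. -/
lemma finrank_fix_le_one {ρ : G →* Matrix (Fin 3) (Fin 3) F}
    (h : Submodule.span F (Set.range ρ) = ⊤) {S : Subgroup G} {w : G}
    (hgen : ∀ H : Subgroup G, S ≤ H → (∀ s ∈ S, w * s * w⁻¹ ∈ H) → ∀ g, ∃ h ∈ H, ρ g = ρ h) :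
    Module.finrank F (fixSub ρ S) ≤ 1 := by
  by_contra hcon
  push Not at hcon
  set A := fixSub ρ S with hA
  -- the linear automorphism `ρ w`
  let L : (Fin 3 → F) ≃ₗ[F] (Fin 3 → F) :=
    LinearEquiv.ofLinearMap (Matrix.toLin' (ρ w)) (Matrix.toLin' (ρ w⁻¹))
      (by rw [← Matrix.toLin'_mul, ← map_mul, mul_inv_cancel, map_one, Matrix.toLin'_one])
      (by rw [← Matrix.toLin'_mul, ← map_mul, inv_mul_cancel, map_one, Matrix.toLin'_one])
  set B := A.map (L : (Fin 3 → F) →ₗ[F] (Fin 3 → F)) with hB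
  have hBr : Module.finrank F B = Module.finrank F A := by
    rw [hB]
    exact LinearEquiv.finrank_map_eq L A
  have hinter : A ⊓ B ≠ ⊥ := by
    intro h0
    have h1 := Submodule.finrank_sup_add_finrank_inf_eq A B
    rw [h0, finrank_bot, hBr, add_zero] at h1
    have h2 : Module.finrank F (A ⊔ B : Submodule F (Fin 3 → F)) ≤ 3 := by
      have := Submodule.finrank_le (A ⊔ B : Submodule F (Fin 3 → F))
      rwa [finrank_V] at this
    omega
  obtain ⟨v, hv, hv0⟩ := (A ⊓ B).ne_bot_iff.1 hinter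
  obtain ⟨hvA, u, huA, huv⟩ := hv
  have huv' : ρ w *ᵥ u = v := huv
  -- the stabiliser of `v`
  let H : Subgroup G :=
    { carrier := {g | ρ g *ᵥ v = v}
      mul_mem' := by
        intro a b ha hb
        change ρ (a * b) *ᵥ v = v
        rw [rho_mul]
        have ha' : ρ a *ᵥ v = v := ha
        have hb' : ρ b *ᵥ v = v := hb
        rw [hb', ha']
      one_mem' := by change ρ 1 *ᵥ v = v; rw [map_one, Matrix.one_mulVec]
      inv_mem' := by
        intro a ha
        have ha' : ρ a *ᵥ v = v := ha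
        change ρ a⁻¹ *ᵥ v = v
        conv_lhs => rw [← ha']
        exact rho_inv_mul ρ a v }
  have hH : ∀ g, ∃ h ∈ H, ρ g = ρ h := by
    apply hgen
    · intro s hs
      exact hvA s hs
    · intro s hs
      change ρ (w * s * w⁻¹) *ᵥ v = v
      rw [rho_mul, rho_mul, ← huv', rho_inv_mul, huA s hs]
  apply not_all_eigen h hv0
  intro g
  obtain ⟨k, hk, hgk⟩ := hH g
  exact ⟨1, by rw [one_smul, hgk]; exact hk⟩

/-- A one-dimensional fixed space gives an eigenvector for the normaliser. -/
lemma exists_char {ρ : G →* Matrix (Fin 3) (Fin 3) F} {B : Subgroup G} {e : Fin 3 → F} (he : e ≠ 0)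
    (hB : ∀ b ∈ B, ∃ c : F, ρ b *ᵥ e = c • e) :
    ∃ χ : B →* Fˣ, ∀ b : B, ρ b *ᵥ e = ((χ b : Fˣ) : F) • e := by
  choose f hf using hB
  have inj : ∀ a b : F, a • e = b • e → a = b := by
    intro a b hab
    have : (a - b) • e = 0 := by rw [sub_smul, hab, sub_self]
    rcases smul_eq_zero.1 this with h | h
    · exact sub_eq_zero.1 h
    · exact absurd h he
  let χ : B →* F :=
    { toFun := fun b => f b b.2
      map_one' := by
        apply inj
        rw [← hf, Subgroup.coe_one, map_one, Matrix.one_mulVec, one_smul]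
      map_mul' := by
        intro a b
        apply inj
        rw [← hf, Subgroup.coe_mul, rho_mul, hf b b.2, Matrix.mulVec_smul, hf a a.2, smul_smul,
          mul_comm] }
  exact ⟨χ.toHomUnits, fun b => hf b b.2⟩

/-- A vector spanning the fixed line of a normal `p`-subgroup. -/
lemma exists_fix_line [Finite F] (p : ℕ) [Fact p.Prime] [CharP F p]
    {ρ : G →* Matrix (Fin 3) (Fin 3) F} {S : Subgroup G} (hp : IsPGroup p S)
    (hle : Module.finrank F (fixSub ρ S) ≤ 1) :
    ∃ e : Fin 3 → F, e ≠ 0 ∧ e ∈ fixSub ρ S ∧ ∀ v ∈ fixSub ρ S, ∃ c : F, v = c • e := by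
  obtain ⟨e, -, he, heS⟩ := exists_fixed p ρ hp (⊤ : Submodule F (Fin 3 → F)) (by
    intro h0
    have h1 : Module.finrank F (⊤ : Submodule F (Fin 3 → F)) = 3 := by
      rw [finrank_top, finrank_V]
    rw [h0, finrank_bot] at h1
    omega) (fun _ _ _ _ => trivial)
  refine ⟨e, he, heS, ?_⟩
  intro v hv
  have h1 : Submodule.span F {e} = fixSub ρ S := by
    apply Submodule.eq_of_le_of_finrank_le
    · rw [Submodule.span_singleton_le_iff_mem]
      exact heS
    · rw [finrank_span_singleton he]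
      exact hle
  rw [← h1] at hv
  obtain ⟨c, hc⟩ := Submodule.mem_span_singleton.1 hv
  exact ⟨c, hc.symm⟩

lemma contra_dot (ρ : G →* Matrix (Fin 3) (Fin 3) F) (g : G) (φ v : Fin 3 → F) :
    (contra ρ g *ᵥ φ) ⬝ᵥ v = φ ⬝ᵥ (ρ g⁻¹ *ᵥ v) := by
  rw [contra_apply, Matrix.mulVec_transpose, Matrix.dotProduct_mulVec]

/-- **The rank-one argument.** -/
theorem rankOne_trace [Finite F] (p : ℕ) [Fact p.Prime] [CharP F p]
    {ρ : G →* Matrix (Fin 3) (Fin 3) F} (h : Submodule.span F (Set.range ρ) = ⊤)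
    {B C S : Subgroup G} {w : G}
    (hbr : ∀ g, g ∈ B ∨ ∃ b₁ ∈ B, ∃ b₂ ∈ B, g = b₁ * w * b₂)
    (hSB : S ≤ B) (hnorm : ∀ b ∈ B, ∀ s ∈ S, b⁻¹ * s * b ∈ S) (hp : IsPGroup p S)
    (hgen : ∀ H : Subgroup G, S ≤ H → (∀ s ∈ S, w * s * w⁻¹ ∈ H) → ∀ g, ∃ h ∈ H, ρ g = ρ h)
    (hCB : C ≤ B) (hC : ∀ b ∈ B, ∃ s ∈ S, ∃ c ∈ C, b = s * c)
    (m : ℕ) (hw : ∀ c ∈ C, w⁻¹ * c * w = (c ^ m)⁻¹) (hm : ∀ c ∈ C, c ^ (m * m) = c)
    (σ : F ≃+* F) (hσ : ∀ x, σ x = x ^ m) (g : G) :
    σ (ρ g).trace = (ρ g⁻¹).trace := by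
  classical
  obtain ⟨e, he, heS, heu⟩ := exists_fix_line p hp (finrank_fix_le_one h hgen)
  obtain ⟨φ, hφ, hφS, hφu⟩ := exists_fix_line p (ρ := contra ρ) hp
    (finrank_fix_le_one (span_contra h) (by
      intro H h1 h2 g
      obtain ⟨k, hk, hgk⟩ := hgen H h1 h2 g⁻¹
      exact ⟨k⁻¹, H.inv_mem hk, by rw [contra_apply, contra_apply, inv_inv, hgk]⟩))
  obtain ⟨χ, hχ⟩ := exists_char (ρ := ρ) (B := B) he (by
    intro b hb
    exact heu _ (fixSub_invariant ρ (hnorm b hb) heS))
  obtain ⟨ψ, hψ⟩ := exists_char (ρ := contra ρ) (B := B) hφ (by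
    intro b hb
    exact hφu _ (fixSub_invariant (contra ρ) (hnorm b hb) hφS))
  -- `φ (b v) = ψ(b)⁻¹ φ v`
  have hφb : ∀ (b : B) (v : Fin 3 → F), φ ⬝ᵥ (ρ b *ᵥ v) = ((ψ b)⁻¹ : Fˣ) * (φ ⬝ᵥ v) := by
    intro b v
    have h1 := contra_dot ρ (b : G) φ (ρ b *ᵥ v)
    rw [hψ, rho_inv_mul, smul_dotProduct, smul_eq_mul] at h1
    rw [← h1, ← mul_assoc, Units.inv_mul, one_mul]
  -- `φ e = 0`
  have hφe : φ ⬝ᵥ e = 0 := by
    by_contra hne
    let W : Submodule F (Fin 3 → F) :=
      { carrier := {v | φ ⬝ᵥ v = 0}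
        add_mem' := by
          intro a b ha hb
          change φ ⬝ᵥ (a + b) = 0
          have ha' : φ ⬝ᵥ a = 0 := ha
          have hb' : φ ⬝ᵥ b = 0 := hb
          rw [dotProduct_add, ha', hb', add_zero]
        zero_mem' := dotProduct_zero _
        smul_mem' := by
          intro c a ha
          change φ ⬝ᵥ (c • a) = 0
          have ha' : φ ⬝ᵥ a = 0 := ha
          rw [dotProduct_smul, ha', smul_zero] }
    have hW : W ≠ ⊥ := by
      intro h0
      -- the kernel of a functional on a three-dimensional space is non-zero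
      have hinj : Function.Injective (fun v : Fin 3 → F => φ ⬝ᵥ v) := by
        intro a b hab
        have : a - b ∈ W := by
          change φ ⬝ᵥ (a - b) = 0
          rw [dotProduct_sub, sub_eq_zero]
          exact hab
        rw [h0, Submodule.mem_bot, sub_eq_zero] at this
        exact this
      let f : (Fin 3 → F) →ₗ[F] F :=
        { toFun := fun v => φ ⬝ᵥ v
          map_add' := fun a b => dotProduct_add _ _ _
          map_smul' := fun c a => dotProduct_smul _ _ _ }
      have h2 := LinearMap.finrank_le_finrank_of_injective (f := f) hinj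
      rw [finrank_V, Module.finrank_self] at h2
      omega
    obtain ⟨v, hv, hv0, hvS⟩ := exists_fixed p ρ hp W hW (by
      intro s hs v hv
      change φ ⬝ᵥ (ρ s *ᵥ v) = 0
      have hv' : φ ⬝ᵥ v = 0 := hv
      have := hφb ⟨s, hSB hs⟩ v
      rw [hv', mul_zero] at this
      exact this)
    obtain ⟨c, rfl⟩ := heu v hvS
    have hv' : φ ⬝ᵥ (c • e) = 0 := hv
    rw [dotProduct_smul, smul_eq_mul] at hv'
    rcases mul_eq_zero.1 hv' with h1 | h1
    · rw [h1, zero_smul] at hv0
      exact hv0 rfl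
    · exact hne h1
  -- the values of the coefficient
  have hfB : ∀ b ∈ B, φ ⬝ᵥ (ρ b *ᵥ e) = 0 := by
    intro b hb
    rw [hφb ⟨b, hb⟩, hφe, mul_zero]
  have hfw : ∀ b₁ b₂ : B, ∀ x : G, φ ⬝ᵥ (ρ (b₁ * x * b₂) *ᵥ e) =
      ((ψ b₁)⁻¹ : Fˣ) * ((χ b₂ : Fˣ) : F) * (φ ⬝ᵥ (ρ x *ᵥ e)) := by
    intro b₁ b₂ x
    rw [rho_mul, rho_mul, hχ, Matrix.mulVec_smul, Matrix.mulVec_smul, dotProduct_smul, hφb,
      smul_eq_mul]
    ring
  have hfw0 : φ ⬝ᵥ (ρ w *ᵥ e) ≠ 0 := by
    intro h0
    have hall : ∀ g, φ ⬝ᵥ (ρ g *ᵥ e) = 0 := by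
      intro g
      rcases hbr g with hg | ⟨b₁, hb₁, b₂, hb₂, rfl⟩
      · exact hfB g hg
      · rw [hfw ⟨b₁, hb₁⟩ ⟨b₂, hb₂⟩ w, h0, mul_zero]
    have h1 : coef φ e = 0 := by
      have h2 : (⊤ : Submodule F _) ≤ LinearMap.ker (coef φ e) := by
        rw [← h, Submodule.span_le]
        rintro _ ⟨g, rfl⟩
        exact hall g
      exact LinearMap.ker_eq_top.1 (top_le_iff.1 h2)
    exact coef_ne_zero hφ he h1
  have hwB : w⁻¹ ∉ B := by
    intro hw'
    apply hfw0
    exact hfB w (by simpa using B.inv_mem hw')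
  have hfwi0 : φ ⬝ᵥ (ρ w⁻¹ *ᵥ e) ≠ 0 := by
    rcases hbr w⁻¹ with hg | ⟨b₁, hb₁, b₂, hb₂, hh⟩
    · exact absurd hg hwB
    · rw [hh, hfw ⟨b₁, hb₁⟩ ⟨b₂, hb₂⟩ w]
      exact mul_ne_zero (mul_ne_zero (Units.ne_zero _) (Units.ne_zero _)) hfw0
  -- characters on `S` are trivial
  have hχS : ∀ s : G, ∀ hs : s ∈ S, χ ⟨s, hSB hs⟩ = 1 := by
    intro s hs
    have h1 := hχ ⟨s, hSB hs⟩
    have h2 : ρ s *ᵥ e = e := heS s hs
    rw [h2] at h1
    have h3 : (((χ ⟨s, hSB hs⟩ : Fˣ) : F) - 1) • e = 0 := by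
      rw [sub_smul, one_smul, ← h1, sub_self]
    rcases smul_eq_zero.1 h3 with h4 | h4
    · exact Units.ext (sub_eq_zero.1 h4)
    · exact absurd h4 he
  have hψS : ∀ s : G, ∀ hs : s ∈ S, ψ ⟨s, hSB hs⟩ = 1 := by
    intro s hs
    have h1 := hψ ⟨s, hSB hs⟩
    have h2 : contra ρ s *ᵥ φ = φ := hφS s hs
    rw [h2] at h1
    have h3 : (((ψ ⟨s, hSB hs⟩ : Fˣ) : F) - 1) • φ = 0 := by
      rw [sub_smul, one_smul, ← h1, sub_self]
    rcases smul_eq_zero.1 h3 with h4 | h4
    · exact Units.ext (sub_eq_zero.1 h4)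
    · exact absurd h4 hφ
  -- relation between the two characters on `C`
  have hCw : ∀ c ∈ C, w⁻¹ * c * w ∈ C := by
    intro c hc
    rw [hw c hc]
    exact C.inv_mem (C.pow_mem hc m)
  have hrel : ∀ c : G, ∀ hc : c ∈ C, (ψ ⟨c, hCB hc⟩)⁻¹ = ((χ ⟨c, hCB hc⟩) ^ m)⁻¹ := by
    intro c hc
    have h1 : φ ⬝ᵥ (ρ (c * w) *ᵥ e) = ((ψ ⟨c, hCB hc⟩)⁻¹ : Fˣ) * (φ ⬝ᵥ (ρ w *ᵥ e)) := by
      rw [rho_mul]
      exact hφb ⟨c, hCB hc⟩ _
    have h2 : c * w = w * (w⁻¹ * c * w) := by group
    have h3 : φ ⬝ᵥ (ρ (c * w) *ᵥ e) =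
        ((χ ⟨w⁻¹ * c * w, hCB (hCw c hc)⟩ : Fˣ) : F) * (φ ⬝ᵥ (ρ w *ᵥ e)) := by
      rw [h2, rho_mul]
      have h4 := hχ ⟨w⁻¹ * c * w, hCB (hCw c hc)⟩
      change φ ⬝ᵥ ρ w *ᵥ (ρ (w⁻¹ * c * w) *ᵥ e) = _
      change ρ (w⁻¹ * c * w) *ᵥ e = _ at h4
      rw [h4, Matrix.mulVec_smul, dotProduct_smul, smul_eq_mul]
    rw [h1] at h3
    have h5 : (ψ ⟨c, hCB hc⟩)⁻¹ = χ ⟨w⁻¹ * c * w, hCB (hCw c hc)⟩ :=
      Units.ext (mul_right_cancel₀ hfw0 h3)
    rw [h5]
    have h6 : (⟨w⁻¹ * c * w, hCB (hCw c hc)⟩ : B) = ((⟨c, hCB hc⟩ : B) ^ m)⁻¹ := by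
      apply Subtype.ext
      change w⁻¹ * c * w = (c ^ m)⁻¹
      exact hw c hc
    rw [h6, map_inv, map_pow]
  have hpow : ∀ c : G, ∀ hc : c ∈ C, (χ ⟨c, hCB hc⟩) ^ (m * m) = χ ⟨c, hCB hc⟩ := by
    intro c hc
    rw [← map_pow]
    congr 1
    apply Subtype.ext
    exact hm c hc
  have hboth : ∀ b : B, (χ b) * ((ψ b)⁻¹) ^ m = 1 ∧ (χ b) ^ m * (ψ b)⁻¹ = 1 := by
    intro b
    obtain ⟨s, hs, c, hc, hb⟩ := hC b b.2
    have hb' : b = ⟨s, hSB hs⟩ * ⟨c, hCB hc⟩ := Subtype.ext hb
    rw [hb', map_mul, map_mul, hχS s hs, hψS s hs, one_mul, one_mul, hrel c hc]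
    constructor
    · rw [inv_pow, ← pow_mul, hpow c hc, mul_inv_cancel]
    · rw [mul_inv_cancel]
  -- conclusion
  apply trace_inv_of_coef h σ hφ he
    (c := σ (φ ⬝ᵥ (ρ w *ᵥ e)) * (φ ⬝ᵥ (ρ w⁻¹ *ᵥ e))⁻¹)
    (mul_ne_zero ((map_ne_zero σ).2 hfw0) (inv_ne_zero hfwi0))
  intro g
  rcases hbr g with hg | ⟨b₁, hb₁, b₂, hb₂, rfl⟩
  · rw [hfB g hg, hfB g⁻¹ (B.inv_mem hg), map_zero, mul_zero]
  · have h1 := hfw ⟨b₁, hb₁⟩ ⟨b₂, hb₂⟩ w
    have h2 : (b₁ * w * b₂)⁻¹ = ((⟨b₂, hb₂⟩⁻¹ : B) : G) * w⁻¹ * ((⟨b₁, hb₁⟩⁻¹ : B) : G) := by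
      push_cast
      group
    have h3 := hfw (⟨b₂, hb₂⟩⁻¹ : B) (⟨b₁, hb₁⟩⁻¹ : B) w⁻¹
    rw [h2, h3]
    change σ (φ ⬝ᵥ (ρ (b₁ * w * b₂) *ᵥ e)) = _
    change φ ⬝ᵥ (ρ (b₁ * w * b₂) *ᵥ e) = _ at h1
    rw [h1, map_mul, map_mul]
    have k1 := (hboth ⟨b₁, hb₁⟩).1
    have k2 := (hboth ⟨b₂, hb₂⟩).2
    have k1' : σ (((ψ ⟨b₁, hb₁⟩)⁻¹ : Fˣ) : F) = (((χ ⟨b₁, hb₁⟩)⁻¹ : Fˣ) : F) := by
      rw [hσ, ← Units.val_pow_eq_pow_val]
      congr 1
      exact (inv_eq_of_mul_eq_one_right k1).symm
    have k2' : σ ((χ ⟨b₂, hb₂⟩ : Fˣ) : F) = ((ψ ⟨b₂, hb₂⟩ : Fˣ) : F) := by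
      rw [hσ, ← Units.val_pow_eq_pow_val]
      congr 1
      exact mul_inv_eq_one.1 k2
    rw [k1', k2', map_inv ψ, map_inv χ, inv_inv]
    generalize (((χ ⟨b₁, hb₁⟩)⁻¹ : Fˣ) : F) = a
    generalize ((ψ ⟨b₂, hb₂⟩ : Fˣ) : F) = b
    generalize σ (φ ⬝ᵥ (ρ w *ᵥ e)) = y
    generalize φ ⬝ᵥ (ρ w⁻¹ *ᵥ e) = x at hfwi0 ⊢
    field_simp

end Dim3

end Cfsg.Agent.H906
end

-- part: H906/Cover
section
prune_inst 0x10000000000000
set_option linter.all false
open scoped Cfsg.Agent.FastGrp

/-!
# Central covers attached to a three-dimensional linear group (helper906)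
-/

set_option autoImplicit false
set_option linter.unusedSectionVars false

namespace Cfsg.Agent.H906

open Cfsg Cfsg.Geo
open scoped MatrixGroups Matrix commutatorElement

section Lift

variable {G X : Type*} [Group G] [Group X] [Finite G]

/-- Lifting `p`-subgroups through a central extension with kernel of order prime to `p`. -/
theorem exists_lift (p : ℕ) [Fact p.Prime] {τ : G →* X} (hs : Function.Surjective τ)
    (hc : ∀ k ∈ τ.ker, ∀ g, g * k = k * g) {d : ℕ} (hd : ∀ k ∈ τ.ker, k ^ d = 1) (hpd : p.Coprime d)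
    (U : Subgroup X) (hU : IsPGroup p U) :
    ∃ S : Subgroup G, (∀ y, y ∈ S ↔ (τ y ∈ U ∧ ∃ n, y ^ p ^ n = 1)) ∧ (∀ u ∈ U, ∃ y ∈ S, τ y = u) ∧
      IsPGroup p S := by
  classical
  have hfX : Finite X := Finite.of_surjective τ hs
  set Û := U.comap τ with hÛ
  let R : Sylow p Û := default
  let τ' : Û →* U := (τ.comp Û.subtype).codRestrict U (fun x => x.2)
  have hτ' : Function.Surjective τ' := by
    rintro ⟨u, hu⟩
    obtain ⟨y, rfl⟩ := hs u
    exact ⟨⟨y, hu⟩, rfl⟩
  set K := τ'.ker with hK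
  have hKmem : ∀ k : Û, k ∈ K ↔ (k : G) ∈ τ.ker := by
    intro k
    rw [hK, MonoidHom.mem_ker, MonoidHom.mem_ker]
    constructor
    · intro h
      exact congrArg Subtype.val h
    · intro h
      exact Subtype.ext h
  have hKp : (Nat.card K).Coprime p := by
    rw [Nat.coprime_comm]
    refine (Nat.Prime.coprime_iff_not_dvd Fact.out).2 ?_
    intro hdvd
    obtain ⟨k, hk⟩ := exists_prime_orderOf_dvd_card' p hdvd
    have h1 : ((k : Û) : G) ^ d = 1 := hd _ ((hKmem k).1 k.2)
    have h2 : k ^ d = 1 := Subtype.ext (Subtype.ext h1)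
    have h3 := orderOf_dvd_of_pow_eq_one h2
    rw [hk] at h3
    have h4 := Nat.Coprime.eq_one_of_dvd hpd h3
    exact (Fact.out : p.Prime).one_lt.ne' h4
  obtain ⟨n, hn⟩ := (IsPGroup.iff_card.1 hU)
  have hcard : Nat.card Û = p ^ n * Nat.card K := by
    have h1 := Subgroup.index_ker τ'
    rw [MonoidHom.range_eq_top.2 hτ', Subgroup.card_top, hn] at h1
    rw [← h1, Subgroup.index_mul_card]
  have hR : Nat.card (R : Subgroup Û) = p ^ n := by
    rw [R.card_eq_multiplicity, hcard, Nat.factorization_mul (pow_ne_zero _ (Fact.out : p.Prime).ne_zero)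
      (Nat.card_pos.ne'), Finsupp.add_apply, Nat.Prime.factorization_pow Fact.out,
      Finsupp.single_eq_same, Nat.factorization_eq_zero_of_not_dvd, add_zero]
    exact (Nat.Prime.coprime_iff_not_dvd Fact.out).1 hKp.symm
  have hcompl : Subgroup.IsComplement' (R : Subgroup Û) K := by
    apply Subgroup.isComplement'_of_coprime
    · rw [hR, hcard]
    · rw [hR]
      exact Nat.Coprime.pow_left n hKp.symm
  have hdec : ∀ y : Û, ∃ r ∈ (R : Subgroup Û), ∃ k ∈ K, y = r * k := by
    intro y
    obtain ⟨⟨r, k⟩, hrk⟩ := hcompl.2 y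
    exact ⟨r, r.2, k, k.2, hrk.symm⟩
  refine ⟨(R : Subgroup Û).map Û.subtype, ?_, ?_, ?_⟩
  · intro y
    constructor
    · rintro ⟨r, hr, rfl⟩
      refine ⟨r.2, ?_⟩
      obtain ⟨k, hk⟩ := R.isPGroup' ⟨r, hr⟩
      exact ⟨k, congrArg (fun z : (R : Subgroup Û) => ((z : Û) : G)) hk⟩
    · rintro ⟨hy, k, hk⟩
      obtain ⟨r, hr, c, hcK, hrc⟩ := hdec ⟨y, hy⟩
      obtain ⟨j, hj⟩ := R.isPGroup' ⟨r, hr⟩
      have hj' : ((r : Û) : G) ^ p ^ j = 1 := congrArg (fun z : (R : Subgroup Û) => ((z : Û) : G)) hj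
      have hcc : (c : G) ∈ τ.ker := (hKmem c).1 hcK
      have hyrc : y = (r : G) * c := congrArg Subtype.val hrc
      have hc1 : (c : G) ^ p ^ (k + j) = 1 := by
        have h1 : y ^ p ^ (k + j) = (r : G) ^ p ^ (k + j) * (c : G) ^ p ^ (k + j) := by
          rw [hyrc]
          exact (Commute.mul_pow (hc c hcc r) _)
        have h2 : y ^ p ^ (k + j) = 1 := by rw [pow_add, pow_mul, hk, one_pow]
        have h3 : (r : G) ^ p ^ (k + j) = 1 := by rw [add_comm, pow_add, pow_mul, hj', one_pow]
        rw [h2, h3, one_mul] at h1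
        exact h1.symm
      have hc2 : (c : G) = 1 := by
        have h1 := orderOf_dvd_of_pow_eq_one hc1
        have h2 := orderOf_dvd_of_pow_eq_one (hd c hcc)
        have h4 : orderOf (c : G) ∣ 1 := by
          rw [← Nat.Coprime.gcd_eq_one (Nat.Coprime.pow_left (k + j) hpd)]
          exact Nat.dvd_gcd h1 h2
        exact orderOf_eq_one_iff.1 (Nat.dvd_one.1 h4)
      refine ⟨r, hr, ?_⟩
      rw [hyrc, hc2, mul_one]
      rfl
  · intro u hu
    obtain ⟨y, rfl⟩ := hs u
    obtain ⟨r, hr, c, hcK, hrc⟩ := hdec ⟨y, hu⟩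
    refine ⟨r, ⟨r, hr, rfl⟩, ?_⟩
    have hyrc : y = (r : G) * c := congrArg Subtype.val hrc
    have hcc : τ (c : G) = 1 := (hKmem c).1 hcK
    rw [hyrc, map_mul, hcc, mul_one]
  · exact R.isPGroup'.map _

end Lift

section Cover

variable {F : Type*} [Field F] {G X : Type*} [Group G] [Group X]

/-- A three-dimensional representation `ρ` of `G` together with a surjection `τ : G → X` with small
central kernel, such that `ρ` is scalar exactly over the subgroup `N` of `X`. -/
structure Cover (ρ : G →* Matrix (Fin 3) (Fin 3) F) (τ : G →* X) (N : Subgroup X) (d : ℕ) : Prop where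
  span : Submodule.span F (Set.range ρ) = ⊤
  surj : Function.Surjective τ
  central : ∀ k ∈ τ.ker, ∀ g, g * k = k * g
  pow : ∀ k ∈ τ.ker, k ^ d = 1
  ker_lift : ∀ ζ ∈ N, ∃ y, τ y = ζ ∧ ρ y = 1
  scalar_mem : ∀ y, (∃ c : F, ρ y = c • (1 : Matrix (Fin 3) (Fin 3) F)) → τ y ∈ N
  faithful : ∀ y, τ y = 1 → ρ y = 1 → y = 1

variable {P : Subgroup (GL (Fin 3) F)} {Γ : Type*} [Group Γ]

/-- The fibre product of `P` and `X` over `Γ ≅ P / scalars`. -/
def fibre (Φ : (P ⧸ (scalars (Fin 3) F).subgroupOf P) ≃* Γ) (q : X →* Γ) : Subgroup (P × X) where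
  carrier := {x | Φ (QuotientGroup.mk x.1) = q x.2}
  mul_mem' := by
    intro a b ha hb
    have ha' : Φ (QuotientGroup.mk a.1) = q a.2 := ha
    have hb' : Φ (QuotientGroup.mk b.1) = q b.2 := hb
    change Φ (QuotientGroup.mk (a.1 * b.1)) = q (a.2 * b.2)
    rw [QuotientGroup.mk_mul, map_mul, map_mul, ha', hb']
  one_mem' := by
    change Φ (QuotientGroup.mk (1 : P)) = q 1
    rw [QuotientGroup.mk_one, map_one, map_one]
  inv_mem' := by
    intro a ha
    have ha' : Φ (QuotientGroup.mk a.1) = q a.2 := ha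
    change Φ (QuotientGroup.mk (a.1⁻¹)) = q (a.2⁻¹)
    rw [QuotientGroup.mk_inv, map_inv, map_inv, ha']

/-- The representation of the fibre product. -/
def fibreRho (Φ : (P ⧸ (scalars (Fin 3) F).subgroupOf P) ≃* Γ) (q : X →* Γ) :
    fibre Φ q →* Matrix (Fin 3) (Fin 3) F :=
  ((Units.coeHom (Matrix (Fin 3) (Fin 3) F)).comp P.subtype).comp
    ((MonoidHom.fst P X).comp (fibre Φ q).subtype)

/-- The projection of the fibre product. -/
def fibreTau (Φ : (P ⧸ (scalars (Fin 3) F).subgroupOf P) ≃* Γ) (q : X →* Γ) : fibre Φ q →* X :=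
  (MonoidHom.snd P X).comp (fibre Φ q).subtype

lemma fibre_exists_left (Φ : (P ⧸ (scalars (Fin 3) F).subgroupOf P) ≃* Γ) {q : X →* Γ}
    (hq : Function.Surjective q) (g : P) : ∃ y : fibre Φ q, y.1.1 = g := by
  obtain ⟨x, hx⟩ := hq (Φ (QuotientGroup.mk g))
  exact ⟨⟨(g, x), hx.symm⟩, rfl⟩

/-- The fibre product is a cover. -/
theorem fibre_cover (hP : ActsAbsolutelyIrreducibly (matrixSet P))
    (Φ : (P ⧸ (scalars (Fin 3) F).subgroupOf P) ≃* Γ) (q : X →* Γ) (hq : Function.Surjective q)
    {d : ℕ} (hd : ∀ g ∈ P, g ∈ scalars (Fin 3) F → g ^ d = 1) :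
    Cover (fibreRho Φ q) (fibreTau Φ q) q.ker d where
  span := by
    rw [← span_subtype hP]
    congr 1
    ext M
    constructor
    · rintro ⟨y, rfl⟩
      exact ⟨y.1.1, rfl⟩
    · rintro ⟨g, rfl⟩
      obtain ⟨y, rfl⟩ := fibre_exists_left Φ hq g
      exact ⟨y, rfl⟩
  surj := by
    intro x
    obtain ⟨g, hg⟩ := QuotientGroup.mk_surjective (Φ.symm (q x))
    refine ⟨⟨(g, x), ?_⟩, rfl⟩
    change Φ (QuotientGroup.mk g) = q x
    rw [hg, MulEquiv.apply_symm_apply]
  central := by
    rintro k hk g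
    have hk2 : k.1.2 = 1 := hk
    have hk1 : Φ (QuotientGroup.mk k.1.1) = 1 := by rw [k.2, hk2, map_one]
    rw [MulEquiv.map_eq_one_iff, QuotientGroup.eq_one_iff, Subgroup.mem_subgroupOf] at hk1
    apply Subtype.ext
    apply Prod.ext
    · apply Subtype.ext
      change ((g.1.1 : P) : GL (Fin 3) F) * ((k.1.1 : P) : GL (Fin 3) F) = (k.1.1 : P) * (g.1.1 : P)
      obtain ⟨c, hc⟩ := (mem_scalars_iff _).1 hk1
      apply Units.ext
      rw [Units.val_mul, Units.val_mul, hc, Matrix.mul_smul, Matrix.smul_mul, Matrix.mul_one,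
        Matrix.one_mul]
    · change g.1.2 * k.1.2 = k.1.2 * g.1.2
      rw [hk2, mul_one, one_mul]
  pow := by
    rintro k hk
    have hk2 : k.1.2 = 1 := hk
    have hk1 : Φ (QuotientGroup.mk k.1.1) = 1 := by rw [k.2, hk2, map_one]
    rw [MulEquiv.map_eq_one_iff, QuotientGroup.eq_one_iff, Subgroup.mem_subgroupOf] at hk1
    apply Subtype.ext
    apply Prod.ext
    · apply Subtype.ext
      exact hd _ k.1.1.2 hk1
    · change k.1.2 ^ d = 1
      rw [hk2, one_pow]
  ker_lift := by
    intro ζ hζ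
    refine ⟨⟨(1, ζ), ?_⟩, rfl, ?_⟩
    · change Φ (QuotientGroup.mk (1 : P)) = q ζ
      rw [QuotientGroup.mk_one, map_one]
      exact hζ.symm
    · change (((1 : P) : GL (Fin 3) F) : Matrix (Fin 3) (Fin 3) F) = 1
      rw [Subgroup.coe_one, Units.val_one]
  scalar_mem := by
    rintro y ⟨c, hc⟩
    have hc' : (((y.1.1 : P) : GL (Fin 3) F) : Matrix (Fin 3) (Fin 3) F) = c • 1 := hc
    have hc0 : c ≠ 0 := by
      rintro rfl
      rw [zero_smul] at hc'
      exact (Units.ne_zero _ hc')
    change q y.1.2 = 1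
    rw [← (show Φ (QuotientGroup.mk y.1.1) = q y.1.2 from y.2), MulEquiv.map_eq_one_iff,
      QuotientGroup.eq_one_iff, Subgroup.mem_subgroupOf, mem_scalars_iff]
    exact ⟨Units.mk0 c hc0, hc'⟩
  faithful := by
    intro y h1 h2
    apply Subtype.ext
    apply Prod.ext
    · exact Subtype.ext (Units.ext h2)
    · exact h1

/-- A normal subgroup of the fibre product that is not central has the whole of `P` as image. -/
theorem fibre_normal (hperf : ⁅P, P⁆ = P)
    [IsSimpleGroup (P ⧸ (scalars (Fin 3) F).subgroupOf P)]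
    (Φ : (P ⧸ (scalars (Fin 3) F).subgroupOf P) ≃* Γ) (q : X →* Γ) (hq : Function.Surjective q)
    (M : Subgroup (fibre Φ q)) [hM : M.Normal] (h : ∃ x ∈ M, fibreTau Φ q x ∉ q.ker) (g : fibre Φ q) :
    ∃ x ∈ M, fibreRho Φ q g = fibreRho Φ q x := by
  classical
  let π₁ : fibre Φ q →* P := (MonoidHom.fst P X).comp (fibre Φ q).subtype
  have hπ₁ : Function.Surjective π₁ := by
    intro g
    obtain ⟨y, hy⟩ := fibre_exists_left Φ hq g
    exact ⟨y, hy⟩
  set M₁ : Subgroup P := M.map π₁ with hM₁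
  have hM₁n : M₁.Normal := hM.map π₁ hπ₁
  set Z := (scalars (Fin 3) F).subgroupOf P with hZ
  have hM₂n : (M₁.map (QuotientGroup.mk' Z)).Normal := hM₁n.map _ (QuotientGroup.mk'_surjective Z)
  rcases hM₂n.eq_bot_or_eq_top with h0 | h0
  · exfalso
    obtain ⟨x, hx, hxN⟩ := h
    apply hxN
    have h1 : QuotientGroup.mk' Z (π₁ x) = 1 := by
      rw [← Subgroup.mem_bot, ← h0]
      exact ⟨π₁ x, ⟨x, hx, rfl⟩, rfl⟩
    change q x.1.2 = 1
    rw [← (show Φ (QuotientGroup.mk x.1.1) = q x.1.2 from x.2)]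
    have h2 : (QuotientGroup.mk x.1.1 : P ⧸ Z) = 1 := h1
    rw [h2, map_one]
  · have hsup : ∀ g : P, ∃ m ∈ M₁, ∃ z ∈ Z, g = m * z := by
      intro g
      have h1 : QuotientGroup.mk' Z g ∈ M₁.map (QuotientGroup.mk' Z) := by rw [h0]; trivial
      obtain ⟨m, hm, hmg⟩ := h1
      refine ⟨m, hm, m⁻¹ * g, QuotientGroup.eq.1 hmg, by group⟩
    have hcen : ∀ z ∈ Z, ∀ g : P, g * z = z * g := by
      intro z hz g
      apply Subtype.ext
      apply Units.ext
      obtain ⟨c, hc⟩ := (mem_scalars_iff _).1 (Subgroup.mem_subgroupOf.1 hz)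
      change (g : GL (Fin 3) F).1 * (z : GL (Fin 3) F).1 = (z : GL (Fin 3) F).1 * (g : GL (Fin 3) F).1
      rw [hc, Matrix.mul_smul, Matrix.smul_mul, Matrix.mul_one, Matrix.one_mul]
    have htop : commutator P ≤ M₁ := by
      rw [commutator_def, Subgroup.commutator_le]
      rintro a - b -
      obtain ⟨m, hm, z, hz, rfl⟩ := hsup a
      obtain ⟨m', hm', z', hz', rfl⟩ := hsup b
      have e1 : m * z * (m' * z') * (m * z)⁻¹ * (m' * z')⁻¹ = m * m' * m⁻¹ * m'⁻¹ := by
        calc m * z * (m' * z') * (m * z)⁻¹ * (m' * z')⁻¹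
            = m * (z * m') * (z' * (z⁻¹ * m⁻¹)) * (z'⁻¹ * m'⁻¹) := by group
          _ = m * (m' * z) * ((z⁻¹ * m⁻¹) * z') * (z'⁻¹ * m'⁻¹) := by
              rw [hcen z hz m', ← hcen z' hz' (z⁻¹ * m⁻¹)]
          _ = m * m' * m⁻¹ * m'⁻¹ := by group
      rw [commutatorElement_def, e1]
      exact M₁.mul_mem (M₁.mul_mem (M₁.mul_mem hm hm') (M₁.inv_mem hm)) (M₁.inv_mem hm')
    have hperf' : commutator P = ⊤ := by
      have h1 := congrArg (fun K : Subgroup (GL (Fin 3) F) => K.subgroupOf P) hperf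
      simp only [Subgroup.subgroupOf_self] at h1
      rw [← h1]
      apply Subgroup.map_injective P.subtype_injective
      rw [commutator_def, Subgroup.map_commutator, ← MonoidHom.range_eq_map, Subgroup.range_subtype,
        Subgroup.subgroupOf_map_subtype, hperf, inf_idem]
    rw [hperf', top_le_iff] at htop
    have h2 : π₁ g ∈ M₁ := by rw [htop]; trivial
    obtain ⟨x, hx, hxg⟩ := h2
    refine ⟨x, hx, ?_⟩
    change (((π₁ g : P) : GL (Fin 3) F) : Matrix (Fin 3) (Fin 3) F) = ((π₁ x : P) : GL (Fin 3) F)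
    rw [hxg]

end Cover

end Cfsg.Agent.H906
end

-- part: H911/Base5
section
prune_inst 0x14100500400002001000050040201c42920000200008040044830a0007898402048000e1b30000014880004540310000000000004200000008200400010105810080000800000000000088000000000000000000000000000000000000010000200000000
set_option linter.all false
open scoped Cfsg.Agent.FastGrp

-- part: H911/OddForm
section
/-!
# Odd dimension: real traces give a quadratic form (helper911)
-/

set_option autoImplicit false
set_option linter.unusedSectionVars false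

namespace Cfsg.Agent.H911.OddForm

open Cfsg Cfsg.Geo Matrix
open scoped MatrixGroups

variable {ι : Type} [Fintype ι] [DecidableEq ι] {F : Type*} [Field F]

/-- A symmetric matrix with zero diagonal over a field of characteristic two has determinant zero in odd dimension. -/
theorem det_zero_of_alt_two (h2 : (2 : F) = 0) (hodd : Odd (Fintype.card ι)) (M : Matrix ι ι F)
    (hs : ∀ i j, M i j = M j i) (hd : ∀ i, M i i = 0) : M.det = 0 := by
  rw [Matrix.det_apply]
  have hsign : ∀ (σ : Equiv.Perm ι) (x : F), (Equiv.Perm.sign σ) • x = x := by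
    intro σ x
    have hneg : -x = x := by
      have : (2 : F) * x = 0 := by rw [h2, zero_mul]
      linear_combination -this
    rcases Int.units_eq_one_or (Equiv.Perm.sign σ) with h | h
    · rw [h, one_smul]
    · rw [h, Units.neg_smul, one_smul, hneg]
  refine Finset.sum_involution (fun σ _ => σ⁻¹) ?_ ?_ (fun _ _ => Finset.mem_univ _) ?_
  · intro σ _
    rw [hsign, hsign]
    have h1 : ∏ i, M (σ⁻¹ i) i = ∏ i, M (σ i) i := by
      rw [← Equiv.prod_comp σ (fun i => M (σ⁻¹ i) i)]
      refine Finset.prod_congr rfl fun i _ => ?_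
      rw [show σ⁻¹ (σ i) = i from σ.symm_apply_apply i, hs]
    rw [h1, ← two_mul, h2, zero_mul]
  · intro σ _ hne heq
    apply hne
    rw [hsign]
    have h3 : σ ^ 2 ^ 1 = 1 := by
      rw [pow_one, pow_two]
      calc σ * σ = σ * σ⁻¹ := by rw [heq]
        _ = 1 := mul_inv_cancel σ
    have : Fact (Nat.Prime 2) := ⟨Nat.prime_two⟩
    obtain ⟨a, ha⟩ := Equiv.Perm.exists_fixed_point_of_prime (p := 2) (n := 1) (by
      rw [Nat.odd_iff] at hodd
      omega) h3
    exact Finset.prod_eq_zero (Finset.mem_univ a) (by rw [ha, hd])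
  · intro σ _
    exact inv_inv σ

theorem det_zero_of_skew (h2 : (2 : F) ≠ 0) (hodd : Odd (Fintype.card ι)) (M : Matrix ι ι F)
    (hs : ∀ i j, M i j = - M j i) : M.det = 0 := by
  have h1 : Mᵀ = -M := by
    ext i j
    rw [Matrix.transpose_apply, Matrix.neg_apply, hs]
  have h3 := congrArg Matrix.det h1
  rw [Matrix.det_transpose, Matrix.det_neg, hodd.neg_one_pow] at h3
  have h4 : (2 : F) * M.det = 0 := by linear_combination h3
  exact (mul_eq_zero.1 h4).resolve_left h2

/-- The Gram matrix. -/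
def gram (f : (ι → F) → (ι → F) → F) : Matrix ι ι F := fun i j => f (Pi.single i 1) (Pi.single j 1)

theorem f_zero {f : (ι → F) → (ι → F) → F} (hf : IsBilinearForm f) (v : ι → F) : f v 0 = 0 := by
  have := hf.smul_right 0 v 0
  rwa [zero_smul, zero_mul] at this

theorem zero_f {f : (ι → F) → (ι → F) → F} (hf : IsBilinearForm f) (v : ι → F) : f 0 v = 0 := by
  have := hf.smul_left 0 0 v
  rwa [zero_smul, zero_mul] at this

theorem f_sum_right {f : (ι → F) → (ι → F) → F} (hf : IsBilinearForm f) {κ : Type*} (s : Finset κ)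
    (g : κ → (ι → F)) (v : ι → F) : f v (∑ i ∈ s, g i) = ∑ i ∈ s, f v (g i) := by
  classical
  induction s using Finset.induction_on with
  | empty => rw [Finset.sum_empty, Finset.sum_empty, f_zero hf]
  | insert a s ha ih => rw [Finset.sum_insert ha, Finset.sum_insert ha, hf.add_right, ih]

theorem f_sum_left {f : (ι → F) → (ι → F) → F} (hf : IsBilinearForm f) {κ : Type*} (s : Finset κ)
    (g : κ → (ι → F)) (v : ι → F) : f (∑ i ∈ s, g i) v = ∑ i ∈ s, f (g i) v := by
  classical
  induction s using Finset.induction_on with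
  | empty => rw [Finset.sum_empty, Finset.sum_empty, zero_f hf]
  | insert a s ha ih => rw [Finset.sum_insert ha, Finset.sum_insert ha, hf.add_left, ih]

theorem eq_sum_single (v : ι → F) : v = ∑ i, v i • (Pi.single i (1 : F) : ι → F) := by
  funext j
  rw [Finset.sum_apply]
  simp only [Pi.smul_apply, Pi.single_apply, smul_eq_mul, mul_ite, mul_one, mul_zero]
  rw [Finset.sum_ite_eq Finset.univ j (fun i => v i)]
  simp

theorem det_gram_ne_zero {f : (ι → F) → (ι → F) → F} (hf : IsBilinearForm f) (hn : IsNondegenerateForm f) :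
    (gram f).det ≠ 0 := by
  intro h
  obtain ⟨v, hv, hMv⟩ := Matrix.exists_mulVec_eq_zero_iff.2 h
  obtain ⟨⟨x, hx⟩, -⟩ := hn v hv
  apply hx
  have h1 : ∀ i, f (Pi.single i 1) v = 0 := by
    intro i
    have h2 := congrFun hMv i
    rw [Pi.zero_apply] at h2
    conv_lhs => rw [eq_sum_single v, f_sum_right hf]
    rw [← h2, Matrix.mulVec, dotProduct]
    exact Finset.sum_congr rfl fun j _ => by rw [hf.smul_right, mul_comm]; rfl
  rw [eq_sum_single x, f_sum_left hf]
  exact Finset.sum_eq_zero fun i _ => by rw [hf.smul_left, h1, mul_zero]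

/-- **Real traces in odd dimension give a non-degenerate invariant quadratic form.** -/
theorem quad_of_real [Finite F] (hodd : Odd (Fintype.card ι)) (h1 : Fintype.card ι ≠ 1) {P : Subgroup (GL ι F)}
    (hP : ActsAbsolutelyIrreducibly (matrixSet P))
    (htr : ∀ g ∈ P, ((g⁻¹ : GL ι F) : Matrix ι ι F).trace = ((g : Matrix ι ι F).trace)) :
    ∃ Q : (ι → F) → F, IsNondegenerateQuadraticForm Q ∧ FixesQuadForm (matrixSet P) Q := by
  have hne : Nonempty ι := by
    rw [← Fintype.card_pos_iff]
    exact hodd.pos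
  obtain ⟨f, hf, hn, hfix, hsym⟩ := H906.exists_bilinear_of_trace hP htr
  by_cases h2 : (2 : F) = 0
  · exfalso
    have hneg : ∀ x : F, -x = x := by
      intro x
      have : (2 : F) * x = 0 := by rw [h2, zero_mul]
      linear_combination -this
    have hs : ∀ u v, f u v = f v u := by
      rcases hsym with h | h
      · exact h
      · intro u v
        rw [h, hneg]
    have hadd : ∀ u v, f (u + v) (u + v) = f u u + f v v := by
      intro u v
      rw [hf.add_left, hf.add_right, hf.add_right, hs v u]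
      linear_combination (f u v) * h2
    let W : Submodule F (ι → F) :=
      { carrier := {v | f v v = 0}
        add_mem' := fun {u v} hu hv => by
          change f (u + v) (u + v) = 0
          rw [hadd, show f u u = 0 from hu, show f v v = 0 from hv, add_zero]
        zero_mem' := f_zero hf 0
        smul_mem' := fun c v hv => by
          change f (c • v) (c • v) = 0
          rw [hf.smul_left, hf.smul_right, show f v v = 0 from hv, mul_zero, mul_zero] }
    rcases hP.1 W (by
      intro s hs' v hv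
      obtain ⟨w, hw, rfl⟩ := hv
      rw [Matrix.toLin'_apply]
      change f (s *ᵥ w) (s *ᵥ w) = 0
      rw [hfix s hs' w w]
      exact hw) with h | h
    · -- the map `v ↦ f v v` is injective, so the dimension is at most one
      have hinj : ∀ v, f v v = 0 → v = 0 := by
        intro v hv
        have h3 : v ∈ W := hv
        rw [h] at h3
        simpa using h3
      have hc : 1 < Fintype.card ι := by
        have := Fintype.card_pos (α := ι)
        omega
      obtain ⟨i, j, hij⟩ := Fintype.exists_pair_of_one_lt_card hc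
      have : Fintype F := Fintype.ofFinite F
      have hp2 : CharP F 2 := by
        refine CharTwo.of_one_ne_zero_of_two_eq_zero one_ne_zero h2
      have hsq : ∀ x : F, ∃ y, y * y = x := by
        intro x
        have h4 : Function.Injective (frobenius F 2) := frobenius_inj F 2
        obtain ⟨y, hy⟩ := Finite.injective_iff_surjective.1 h4 x
        exact ⟨y, by rw [← hy, frobenius_def, pow_two]⟩
      set a := f (Pi.single i 1) (Pi.single i 1) with ha
      set b := f (Pi.single j 1) (Pi.single j 1) with hb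
      have ha0 : a ≠ 0 := by
        intro h5
        have h6 := congrFun (hinj _ h5) i
        simp at h6
      obtain ⟨y, hy⟩ := hsq (b / a)
      have h7 : f (y • Pi.single i 1 + Pi.single j 1) (y • Pi.single i 1 + Pi.single j 1) = 0 := by
        rw [hadd, hf.smul_left, hf.smul_right, ← ha, ← hb, ← mul_assoc, hy, div_mul_cancel₀ _ ha0]
        linear_combination b * h2
      have h8 := congrFun (hinj _ h7) j
      simp [hij.symm] at h8
    · have halt : ∀ v, f v v = 0 := by
        intro v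
        have : v ∈ W := by rw [h]; trivial
        exact this
      exact det_gram_ne_zero hf hn (det_zero_of_alt_two h2 hodd (gram f) (fun i j => hs _ _) (fun i => halt _))
  · rcases hsym with h | h
    · exact ⟨fun v => f v v, H920.isNondegenerateQuadraticForm_of_symm h2 hf hn h, fun s hs v => hfix s hs v v⟩
    · exact absurd (det_zero_of_skew h2 hodd (gram f) (fun i j => h _ _)) (det_gram_ne_zero hf hn)

end Cfsg.Agent.H911.OddForm
end

-- part: H911/TraceFrob
section
/-!
# Traces and the Frobenius map (helper911)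

`tr (M ^ p) = (tr M) ^ p` in characteristic `p`, and the reduction of trace identities to `p`-regular elements.
-/

set_option autoImplicit false

namespace Cfsg.Agent.H911.Base

open Matrix Polynomial

variable {n : Type*} [Fintype n] [DecidableEq n] {R : Type*} [CommRing R]

theorem expand_charpoly_pow_char (p : ℕ) [hp : Fact p.Prime] [CharP R p] (M : Matrix n n R) :
    expand R p (M ^ p).charpoly = M.charpoly ^ p := by
  rcases isEmpty_or_nonempty n with hn | hn
  · simp [Matrix.charpoly]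
  unfold charpoly
  rw [AlgHom.map_det, ← coe_detMonoidHom, ← (detMonoidHom : Matrix n n R[X] →* R[X]).map_pow]
  apply congr_arg det
  refine matPolyEquiv.injective ?_
  rw [map_pow, matPolyEquiv_charmatrix, sub_pow_char_of_commute, ← C_pow]
  · have h1 := matPolyEquiv_eq_X_pow_sub_C (K := R) p M
    exact h1
  · exact (C M).commute_X

theorem trace_pow_char [IsDomain R] (p : ℕ) [hp : Fact p.Prime] [CharP R p] (M : Matrix n n R) :
    (M ^ p).trace = M.trace ^ p := by
  rcases isEmpty_or_nonempty n with hn | hn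
  · simp [Matrix.trace, hp.out.ne_zero]
  have h := expand_charpoly_pow_char p M
  rw [← Polynomial.map_frobenius_expand] at h
  have h2 := congrArg (fun f => f.coeff (p * (Fintype.card n - 1))) h
  rw [Polynomial.coeff_map, mul_comm p, Polynomial.coeff_expand_mul hp.out.pos, Polynomial.coeff_expand_mul hp.out.pos,
    frobenius_def] at h2
  rw [Matrix.trace_eq_neg_charpoly_coeff, Matrix.trace_eq_neg_charpoly_coeff, h2, neg_pow,
    neg_one_pow_char, neg_one_mul]

/-- In a finite group some `p`-power of every element is `p`-regular. -/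
theorem exists_pow_reg {G : Type*} [Group G] [Finite G] (p : ℕ) (hp : p.Prime) (g : G) :
    ∃ k : ℕ, ¬ p ∣ orderOf (g ^ p ^ k) := by
  have h0 : orderOf g ≠ 0 := (orderOf_pos g).ne'
  refine ⟨(orderOf g).factorization p, ?_⟩
  have hdvd : p ^ (orderOf g).factorization p ∣ orderOf g := Nat.ordProj_dvd _ _
  rw [orderOf_pow_of_dvd (pow_ne_zero _ hp.ne_zero) hdvd]
  exact Nat.not_dvd_ordCompl hp h0

theorem trace_pow_char_pow [IsDomain R] (p : ℕ) [hp : Fact p.Prime] [CharP R p] (M : Matrix n n R) (k : ℕ) :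
    (M ^ p ^ k).trace = M.trace ^ p ^ k := by
  induction k with
  | zero => simp
  | succ k ih => rw [pow_succ, pow_mul, trace_pow_char p, ih, ← pow_mul, ← pow_succ]

/-- Trace identities need only be checked on `p`-regular elements. -/
theorem trace_of_reg [IsDomain R] {G : Type*} [Group G] [Finite G] (p : ℕ) [hp : Fact p.Prime] [CharP R p]
    (τ : G →* Matrix n n R) (σ : R →+* R) (φ : G → G) (hφ : ∀ g k, φ (g ^ k) = φ g ^ k)
    (h : ∀ g : G, ¬ p ∣ orderOf g → σ (τ g).trace = (τ (φ g)).trace) (g : G) :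
    σ (τ g).trace = (τ (φ g)).trace := by
  obtain ⟨k, hk⟩ := exists_pow_reg p hp.out g
  have h1 := h _ hk
  rw [hφ, map_pow, map_pow, trace_pow_char_pow p, trace_pow_char_pow p, map_pow] at h1
  have h2 := iterateFrobenius_inj R p k
  apply h2
  rw [iterateFrobenius_def, iterateFrobenius_def]
  exact h1

end Cfsg.Agent.H911.Base
end

-- part: H911/Eig
section
/-!
# Eigenspaces of an element of prime order (helper911)

`K` algebraically closed, `A ^ r = 1`, `(r : K) ≠ 0`, `ζ` a primitive `r`-th root of unity;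
`E j` the eigenspace for `ζ ^ j`, `d j` its dimension.

* `exists_root` : `ζ` exists;
* `sum_d` : `∑ j, d j = dim V`;
* `d_le` : if `B A B⁻¹ = A ^ k`, then `d j ≤ d (k j)`;
* `d_lt` : `A ≠ 1 → d 0 < dim V`.
-/

set_option autoImplicit false
set_option linter.unusedSectionVars false
set_option linter.unusedVariables false
set_option linter.style.haveILetI false

namespace Cfsg.Agent.H911.Eig

open Module

variable {K : Type*} [Field K] {V : Type*} [AddCommGroup V] [Module K V]

theorem exists_root [IsAlgClosed K] {r : ℕ} (hr : r.Prime) (hrK : (r : K) ≠ 0) : ∃ ζ : K, IsPrimitiveRoot ζ r := by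
  have : NeZero (r : K) := ⟨hrK⟩
  exact HasEnoughRootsOfUnity.exists_primitiveRoot K r

/-- the eigenspace of `ζ ^ j` -/
def E (A : Module.End K V) (ζ : K) {r : ℕ} (j : ZMod r) : Submodule K V := A.eigenspace (ζ ^ j.val)

theorem mem_E {A : Module.End K V} {ζ : K} {r : ℕ} {j : ZMod r} {v : V} : v ∈ E A ζ j ↔ A v = ζ ^ j.val • v :=
  Module.End.mem_eigenspace_iff

/-- its dimension -/
noncomputable def d (A : Module.End K V) (ζ : K) {r : ℕ} (j : ZMod r) : ℕ := finrank K (E A ζ j)

variable [IsAlgClosed K] [FiniteDimensional K V] {A : Module.End K V} {r : ℕ} {ζ : K}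

theorem iSup_E (hr : r.Prime) (hrK : (r : K) ≠ 0) (hζ : IsPrimitiveRoot ζ r) (hA : A ^ r = 1) :
    ⨆ j : ZMod r, E A ζ j = ⊤ := by
  have : NeZero r := ⟨hr.ne_zero⟩
  rw [eq_top_iff, ← Module.End.iSup_maxGenEigenspace_eq_top A]
  refine iSup_le fun μ => ?_
  rw [H912.Bd.maxGen_eq hrK hA]
  by_cases h0 : A.eigenspace μ = ⊥
  · rw [h0]; exact bot_le
  obtain ⟨v, hv, hv0⟩ := (Submodule.ne_bot_iff _).1 h0
  have h1 : μ ^ r = 1 := by
    have h2 : ∀ m : ℕ, (A ^ m) v = μ ^ m • v := by
      intro m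
      induction m with
      | zero => simp
      | succ m ih =>
        rw [pow_succ', Module.End.mul_apply, ih, map_smul, Module.End.mem_eigenspace_iff.1 hv, smul_smul, pow_succ]
    have h3 := h2 r
    rw [hA, Module.End.one_apply] at h3
    have h4 : (μ ^ r - 1) • v = 0 := by rw [sub_smul, ← h3, one_smul, sub_self]
    exact sub_eq_zero.1 ((smul_eq_zero.1 h4).resolve_right hv0)
  obtain ⟨i, hi, rfl⟩ := hζ.eq_pow_of_pow_eq_one h1
  refine le_trans (le_of_eq ?_) (le_iSup (E A ζ) (i : ZMod r))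
  unfold E
  rw [ZMod.val_natCast, Nat.mod_eq_of_lt hi]

theorem indep_E (hr : r.Prime) (hζ : IsPrimitiveRoot ζ r) : iSupIndep (E A ζ : ZMod r → Submodule K V) := by
  have : NeZero r := ⟨hr.ne_zero⟩
  have h1 := Module.End.eigenspaces_iSupIndep A
  refine h1.comp (f := fun j : ZMod r => ζ ^ j.val) ?_
  intro i j hij
  exact ZMod.val_injective r (hζ.pow_inj (ZMod.val_lt i) (ZMod.val_lt j) hij)

theorem sum_d (hr : r.Prime) (hrK : (r : K) ≠ 0) (hζ : IsPrimitiveRoot ζ r) (hA : A ^ r = 1) :
    haveI : NeZero r := ⟨hr.ne_zero⟩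
    ∑ j : ZMod r, d A ζ j = finrank K V := by
  haveI : NeZero r := ⟨hr.ne_zero⟩
  classical
  have h1 : DirectSum.IsInternal (E A ζ : ZMod r → Submodule K V) :=
    (DirectSum.isInternal_submodule_iff_iSupIndep_and_iSup_eq_top _).2 ⟨indep_E hr hζ, iSup_E hr hrK hζ hA⟩
  have h3 := Module.finrank_eq_card_basis (h1.collectedBasis fun i => Module.finBasis K (E A ζ i))
  rw [h3, Fintype.card_sigma]
  exact Finset.sum_congr rfl fun i _ => by rw [Fintype.card_fin]; rfl

omit [IsAlgClosed K] [FiniteDimensional K V] in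
theorem pow_congr (hζ : IsPrimitiveRoot ζ r) {a b : ℕ} (hab : (a : ZMod r) = (b : ZMod r)) : ζ ^ a = ζ ^ b := by
  have h1 : a % r = b % r := (ZMod.natCast_eq_natCast_iff a b r).1 hab
  rw [← pow_mod_orderOf ζ a, ← pow_mod_orderOf ζ b, ← hζ.eq_orderOf, h1]

omit [IsAlgClosed K] in
/-- conjugation -/
theorem d_le (hr : r.Prime) (hζ : IsPrimitiveRoot ζ r) {B B' : Module.End K V}
    (hB : B' * B = 1) {k : ℕ} (hk : B * A * B' = A ^ k) (j : ZMod r) : d A ζ j ≤ d A ζ ((k : ZMod r) * j) := by
  have : NeZero r := ⟨hr.ne_zero⟩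
  have hinj : Function.Injective B' := by
    have h1 : B * B' = 1 := mul_eq_one_comm.1 hB
    intro v w hvw
    have : (B * B') v = (B * B') w := by rw [Module.End.mul_apply, Module.End.mul_apply, hvw]
    rwa [h1] at this
  have hle : (E A ζ j).map B' ≤ E A ζ ((k : ZMod r) * j) := by
    rintro _ ⟨v, hv, rfl⟩
    rw [SetLike.mem_coe, mem_E] at hv
    rw [mem_E]
    have h2 : ∀ m : ℕ, (A ^ m) v = (ζ ^ j.val) ^ m • v := by
      intro m
      induction m with
      | zero => simp
      | succ m ih => rw [pow_succ', Module.End.mul_apply, ih, map_smul, hv, smul_smul, pow_succ]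
    have h3 : A * B' = B' * A ^ k := by
      rw [← hk, ← mul_assoc, ← mul_assoc, hB, one_mul]
    have h4 : A (B' v) = B' ((A ^ k) v) := by
      rw [← Module.End.mul_apply, h3, Module.End.mul_apply]
    rw [h4, h2, map_smul, ← pow_mul]
    congr 1
    apply pow_congr hζ
    rw [ZMod.natCast_val, ZMod.cast_id, Nat.cast_mul, ZMod.natCast_val, ZMod.cast_id, mul_comm]
  calc d A ζ j = finrank K ((E A ζ j).map B') := (Submodule.equivMapOfInjective B' hinj _).finrank_eq
    _ ≤ _ := Submodule.finrank_mono hle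

omit [IsAlgClosed K] in
theorem d_lt (hA1 : A ≠ 1) : d A ζ (0 : ZMod r) < finrank K V := by
  unfold d E
  apply Submodule.finrank_lt
  intro h0
  apply hA1
  ext v
  have hv : v ∈ A.eigenspace (ζ ^ (0 : ZMod r).val) := by rw [h0]; trivial
  rw [Module.End.mem_eigenspace_iff, ZMod.val_zero, pow_zero, one_smul] at hv
  rw [hv]; rfl

end Cfsg.Agent.H911.Eig
end

-- part: H911/TwoPt
section
/-!
# Irreducible representations and doubly transitive actions (helper911)

`L = B ∪ U w B`, `U ≤ B`, `φ` a functional fixed by `U`, an eigenvector of `B`; if `dim C_V(U) ≥ 2`, then some `v`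
satisfies `φ v = 1`, `φ (g⁻¹ v) = 0` for all `g ∉ B`, so that `dim V ≥ |L : B|`.
-/

set_option autoImplicit false
set_option linter.unusedSectionVars false
set_option linter.unusedVariables false

namespace Cfsg.Agent.H911

open Module

variable {K : Type*} [Field K] {V : Type*} [AddCommGroup V] [Module K V] {L : Type*} [Group L]

/-- irreducible -/
def Irr (ρ : L →* Module.End K V) : Prop := ∀ W : Submodule K V, (∀ g : L, ∀ v ∈ W, ρ g v ∈ W) → W = ⊥ ∨ W = ⊤

/-- fixed vectors of a subgroup -/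
def fix (ρ : L →* Module.End K V) (U : Subgroup L) : Submodule K V where
  carrier := {v | ∀ b ∈ U, ρ b v = v}
  zero_mem' := fun b _ => map_zero _
  add_mem' := fun {x y} hx hy b hb => by rw [map_add, hx b hb, hy b hb]
  smul_mem' := fun c x hx b hb => by rw [map_smul, hx b hb]

theorem mem_fix {ρ : L →* Module.End K V} {U : Subgroup L} {v : V} : v ∈ fix ρ U ↔ ∀ b ∈ U, ρ b v = v := Iff.rfl

variable [FiniteDimensional K V] (ρ : L →* Module.End K V)

theorem ρ_mul_apply (a b : L) (v : V) : ρ (a * b) v = ρ a (ρ b v) := by rw [map_mul]; rfl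

theorem ρ_inv_apply (a : L) (v : V) : ρ a⁻¹ (ρ a v) = v := by
  rw [← ρ_mul_apply, inv_mul_cancel, map_one]; rfl

theorem ρ_apply_inv (a : L) (v : V) : ρ a (ρ a⁻¹ v) = v := by
  rw [← ρ_mul_apply, mul_inv_cancel, map_one]; rfl

theorem card_le_of_double (hirr : Irr ρ) {U B : Subgroup L} {w : L} (hUB : U ≤ B)
    (hL : ∀ g : L, g ∈ B ∨ ∃ u ∈ U, ∃ b ∈ B, g = u * w * b) {φ : V →ₗ[K] K} (hφ : φ ≠ 0)
    (hφU : ∀ u ∈ U, ∀ v, φ (ρ u v) = φ v) {l : L → K} (hφB : ∀ b ∈ B, ∀ v, φ (ρ b v) = l b * φ v)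
    (h2 : 2 ≤ finrank K (fix ρ U)) {N : ℕ} (g : Fin N → L) (hg : ∀ i j, i ≠ j → (g i)⁻¹ * g j ∉ B) :
    N ≤ finrank K V := by
  classical
  -- the intersection of the kernels is zero
  have hker : ∀ v, (∀ g : L, φ (ρ g⁻¹ v) = 0) → v = 0 := by
    intro v hv
    let W : Submodule K V :=
      { carrier := {v | ∀ g : L, φ (ρ g⁻¹ v) = 0}
        zero_mem' := fun g => by rw [map_zero, map_zero]
        add_mem' := fun {a b} ha hb g => by rw [map_add, map_add, ha g, hb g, add_zero]
        smul_mem' := fun c x hx g => by rw [map_smul, map_smul, hx g, smul_zero] }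
    have hW : ∀ g : L, ∀ v ∈ W, ρ g v ∈ W := by
      intro g v hv k
      have := hv (g⁻¹ * k)
      rw [mul_inv_rev, inv_inv] at this
      rwa [← ρ_mul_apply]
    rcases hirr W hW with h0 | h0
    · have : v ∈ W := hv
      rw [h0, Submodule.mem_bot] at this
      exact this
    · exfalso
      apply hφ
      ext v
      have : v ∈ W := by rw [h0]; trivial
      have h1 := this 1
      rw [inv_one, map_one] at h1
      exact h1
  have hl : ∀ b ∈ B, ∀ v, φ v = 0 → φ (ρ b v) = 0 := fun b hb v hv => by rw [hφB b hb, hv, mul_zero]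
  -- the map to `K²`
  let ev : fix ρ U →ₗ[K] K × K := (φ.comp (fix ρ U).subtype).prod ((φ.comp (ρ w⁻¹)).comp (fix ρ U).subtype)
  have hev : ∀ v : fix ρ U, ev v = (φ v, φ (ρ w⁻¹ v)) := fun v => rfl
  have hfix : ∀ v : fix ρ U, ∀ g : L, g ∉ B → φ (ρ w⁻¹ v) = 0 → φ (ρ g⁻¹ v) = 0 := by
    intro v g hg h0
    obtain ⟨u, hu, b, hb, rfl⟩ := (hL g).resolve_left hg
    have e : (u * w * b)⁻¹ = b⁻¹ * (w⁻¹ * u⁻¹) := by group
    rw [e, ρ_mul_apply, ρ_mul_apply, v.2 _ (inv_mem hu)]
    exact hl _ (inv_mem hb) _ h0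
  have hinj : Function.Injective ev := by
    rw [injective_iff_map_eq_zero]
    intro v hv
    rw [hev, Prod.mk_eq_zero] at hv
    apply Subtype.ext
    apply hker
    intro g
    by_cases hgB : g ∈ B
    · exact hl _ (inv_mem hgB) _ hv.1
    · exact hfix v g hgB hv.2
  have hsurj : Function.Surjective ev := by
    rw [← LinearMap.range_eq_top]
    apply Submodule.eq_top_of_finrank_eq
    have h3 := LinearMap.finrank_range_of_inj hinj
    have h4 := Submodule.finrank_le (LinearMap.range ev)
    rw [Module.finrank_prod, Module.finrank_self] at h4 ⊢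
    omega
  obtain ⟨v, hv⟩ := hsurj (1, 0)
  rw [hev, Prod.mk.injEq] at hv
  have hv0 : ∀ g : L, g ∉ B → φ (ρ g⁻¹ v) = 0 := fun g hg => hfix v g hg hv.2
  -- the translates
  have hli : LinearIndependent K (fun i => ρ (g i) (v : V)) := by
    rw [Fintype.linearIndependent_iff]
    intro c hc i
    have h5 := congrArg (fun x => φ (ρ (g i)⁻¹ x)) hc
    simp only [map_sum, map_smul, map_zero] at h5
    rw [Finset.sum_eq_single i] at h5
    · rw [ρ_inv_apply, hv.1, smul_eq_mul, mul_one] at h5
      exact h5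
    · intro j _ hji
      have h6 : (g j)⁻¹ * g i ∉ B := hg j i hji
      have h7 := hv0 _ h6
      rw [mul_inv_rev, inv_inv, ρ_mul_apply] at h7
      rw [h7, smul_zero]
    · intro h; exact absurd (Finset.mem_univ _) h
  have := hli.fintype_card_le_finrank
  rwa [Fintype.card_fin] at this

/-- an eigenvector of `y` in a nonzero invariant subspace -/
theorem exists_eigen [IsAlgClosed K] {V : Type*} [AddCommGroup V] [Module K V] [FiniteDimensional K V]
    (f : Module.End K V) (W : Submodule K V) (hW : W ≠ ⊥) (hf : ∀ v ∈ W, f v ∈ W) :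
    ∃ v ∈ W, v ≠ 0 ∧ ∃ μ : K, f v = μ • v := by
  have : Nontrivial W := (Submodule.nontrivial_iff_ne_bot).2 hW
  obtain ⟨μ, hμ⟩ := Module.End.exists_eigenvalue (f.restrict hf)
  obtain ⟨v, hv⟩ := hμ.exists_hasEigenvector
  refine ⟨v, v.2, fun h => hv.2 (Subtype.ext h), μ, ?_⟩
  have := congrArg Subtype.val hv.apply_eq_smul
  exact this

end Cfsg.Agent.H911
end

-- part: H911/Base5
section
/-!
# Residual cores in dimension five: general tools (helper911)
-/

set_option autoImplicit false
set_option linter.unusedSectionVars false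

namespace Cfsg.Agent.H911.Five

open Cfsg Cfsg.Geo Matrix
open scoped MatrixGroups

section general

variable {ι : Type} [Fintype ι] [DecidableEq ι] {F : Type*} [Field F]

/-- The representation over the algebraic closure. -/
noncomputable def rep (P : Subgroup (GL ι F)) :
    P →* Module.End (AlgebraicClosure F) (ι → AlgebraicClosure F) where
  toFun g := Matrix.toLin' (((g : GL ι F) : Matrix ι ι F).map (algebraMap F (AlgebraicClosure F)))
  map_one' := by
    rw [Subgroup.coe_one, Units.val_one, Matrix.map_one _ (map_zero _) (map_one _), Matrix.toLin'_one]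
    rfl
  map_mul' a b := by
    rw [Subgroup.coe_mul, Units.val_mul, Matrix.map_mul, Matrix.toLin'_mul]
    rfl

theorem rep_apply (P : Subgroup (GL ι F)) (g : P) (v : ι → AlgebraicClosure F) :
    rep P g v = (((g : GL ι F) : Matrix ι ι F).map (algebraMap F (AlgebraicClosure F))) *ᵥ v := by
  change Matrix.toLin' _ v = _
  rw [Matrix.toLin'_apply]

theorem trace_rep (P : Subgroup (GL ι F)) (g : P) :
    LinearMap.trace (AlgebraicClosure F) (ι → AlgebraicClosure F) (rep P g) =
      algebraMap F (AlgebraicClosure F) (((g : GL ι F) : Matrix ι ι F).trace) := by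
  change LinearMap.trace _ _ (Matrix.toLin' _) = _
  rw [Matrix.trace_toLin'_eq]
  simp [Matrix.trace, map_sum]

theorem rep_injective (P : Subgroup (GL ι F)) : Function.Injective (rep P) := by
  intro a b hab
  apply Subtype.ext
  apply Units.ext
  have h1 := Matrix.toLin'.injective hab
  ext i j
  exact (algebraMap F (AlgebraicClosure F)).injective (congrFun (congrFun h1 i) j)

theorem rep_irr {P : Subgroup (GL ι F)} (hP : ActsAbsolutelyIrreducibly (matrixSet P)) : Irr (rep P) := by
  intro W hW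
  have hspan := Cfsg.Agent.H920.span_eq_top hP
  have hall : ∀ M : Matrix ι ι F, ∀ w ∈ W, (M.map (algebraMap F (AlgebraicClosure F))) *ᵥ w ∈ W := by
    intro M
    have hM : M ∈ Submodule.span F (matrixSet P) := by rw [hspan]; trivial
    induction hM using Submodule.span_induction with
    | mem x hx =>
      intro w hw
      obtain ⟨g, hg, rfl⟩ := hx
      rw [← rep_apply P ⟨g, hg⟩]
      exact hW ⟨g, hg⟩ w hw
    | zero =>
      intro w _
      rw [Matrix.map_zero _ (map_zero _), Matrix.zero_mulVec]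
      exact W.zero_mem
    | add x y _ _ hx hy =>
      intro w hw
      rw [Matrix.map_add _ (map_add _), Matrix.add_mulVec]
      exact W.add_mem (hx w hw) (hy w hw)
    | smul c x _ hx =>
      intro w hw
      have h1 : (c • x).map (algebraMap F (AlgebraicClosure F)) =
          (algebraMap F (AlgebraicClosure F) c) • x.map (algebraMap F (AlgebraicClosure F)) := by
        ext i j
        simp
      rw [h1, Matrix.smul_mulVec]
      exact W.smul_mem _ (hx w hw)
  rw [or_iff_not_imp_left]
  intro hne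
  obtain ⟨w, hw, hw0⟩ := (Submodule.ne_bot_iff _).1 hne
  obtain ⟨j, hj⟩ := Function.ne_iff.1 hw0
  rw [Pi.zero_apply] at hj
  rw [eq_top_iff]
  intro v _
  have h1 : ∀ i, (Pi.single i 1 : ι → AlgebraicClosure F) ∈ W := by
    intro i
    have h2 := hall (Matrix.single i j (1 : F)) w hw
    have h3 : ((Matrix.single i j (1 : F)).map (algebraMap F (AlgebraicClosure F))) *ᵥ w =
        w j • (Pi.single i 1 : ι → AlgebraicClosure F) := by
      rw [Matrix.map_single, map_one]
      funext k
      rw [Matrix.mulVec, dotProduct, Finset.sum_eq_single j]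
      · by_cases hk : k = i
        · subst hk; simp
        · simp [Matrix.single_apply_of_row_ne (Ne.symm hk), hk]
      · intro l _ hl
        simp [Matrix.single_apply_of_col_ne _ _ (Ne.symm hl)]
      · intro h; exact absurd (Finset.mem_univ _) h
    rw [h3] at h2
    have h4 := W.smul_mem (w j)⁻¹ h2
    rwa [smul_smul, inv_mul_cancel₀ hj, one_smul] at h4
  have h5 : v = ∑ i, v i • (Pi.single i 1 : ι → AlgebraicClosure F) := OddForm.eq_sum_single v
  rw [h5]
  exact W.sum_mem fun i _ => W.smul_mem _ (h1 i)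

/-- traces of conjugate elements agree -/
theorem trace_conj {P : Subgroup (GL ι F)} {a b : P} (h : IsConj a b) :
    ((a : GL ι F) : Matrix ι ι F).trace = ((b : GL ι F) : Matrix ι ι F).trace := by
  obtain ⟨c, hc⟩ := isConj_iff.1 h
  rw [← hc, Subgroup.coe_mul, Subgroup.coe_mul, Units.val_mul, Units.val_mul, Matrix.trace_mul_comm, ← mul_assoc,
    ← Units.val_mul, ← Subgroup.coe_mul, inv_mul_cancel, Subgroup.coe_one, Units.val_one, one_mul]

/-- the matrix representation -/
def mrep (P : Subgroup (GL ι F)) : P →* Matrix ι ι F := (Units.coeHom (Matrix ι ι F)).comp P.subtype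

theorem mrep_apply (P : Subgroup (GL ι F)) (g : P) : mrep P g = ((g : GL ι F) : Matrix ι ι F) := rfl

theorem trace_reg [Finite F] {P : Subgroup (GL ι F)} (p : ℕ) [hp : Fact p.Prime] [CharP F p] (σ : F →+* F) (φ : P → P)
    (hφ : ∀ g k, φ (g ^ k) = φ g ^ k)
    (h : ∀ g : P, ¬ p ∣ orderOf g → σ (((g : GL ι F) : Matrix ι ι F).trace) = ((φ g : GL ι F) : Matrix ι ι F).trace)
    (g : P) : σ (((g : GL ι F) : Matrix ι ι F).trace) = ((φ g : GL ι F) : Matrix ι ι F).trace :=
  trace_of_reg' g
where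
  trace_of_reg' (g : P) : σ ((mrep P g).trace) = (mrep P (φ g)).trace :=
    Base.trace_of_reg p (mrep P) σ φ hφ h g

theorem trace_frob {P : Subgroup (GL ι F)} (p : ℕ) [hp : Fact p.Prime] [CharP F p] (g : P) (k : ℕ) :
    (((g ^ p ^ k : P) : GL ι F) : Matrix ι ι F).trace = (((g : GL ι F) : Matrix ι ι F).trace) ^ p ^ k := by
  have := Base.trace_pow_char_pow p (mrep P g) k
  rwa [← map_pow] at this

/-- If the traces are in the fixed field of the `p^k`-power map and there is no proper subfield then the whole field is. -/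
theorem pow_eq_of_trace [Finite F] {P : Subgroup (GL ι F)} (hP : ActsAbsolutelyIrreducibly (matrixSet P))
    (hno : ∀ F₀ : Subfield F, F₀ ≠ ⊤ → ¬ RealisableOver F₀ (matrixSet P)) (p : ℕ) [hp : Fact p.Prime] [CharP F p] (k : ℕ)
    (h : ∀ g : P, (((g : GL ι F) : Matrix ι ι F).trace) ^ p ^ k = ((g : GL ι F) : Matrix ι ι F).trace) (x : F) :
    x ^ p ^ k = x := by
  by_contra hx
  let F₀ : Subfield F := (iterateFrobenius F p k).eqLocusField (RingHom.id F)
  refine hno F₀ ?_ (H906.realisable_of_trace hP F₀ ?_)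
  · intro htop
    apply hx
    have h1 : x ∈ F₀ := by rw [htop]; trivial
    have h2 : iterateFrobenius F p k x = x := h1
    rwa [iterateFrobenius_def] at h2
  · intro g hg
    change iterateFrobenius F p k _ = _
    rw [iterateFrobenius_def]
    exact h ⟨g, hg⟩

theorem card_eq_of_pow [Fintype F] (p : ℕ) [hp : Fact p.Prime] [CharP F p] (h : ∀ x : F, x ^ p = x) :
    Fintype.card F = p := by
  have h1 := FiniteField.X_pow_card_sub_X_natDegree_eq F hp.out.one_lt
  have h2 : (Polynomial.X ^ p - Polynomial.X : Polynomial F) ≠ 0 := by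
    intro h0
    rw [h0, Polynomial.natDegree_zero] at h1
    exact hp.out.ne_zero h1.symm
  have h3 : Fintype.card F ≤ p := by
    classical
    have h4 : (Finset.univ : Finset F).val ≤ (Polynomial.X ^ p - Polynomial.X : Polynomial F).roots := by
      rw [Finset.val_le_iff_val_subset]
      intro x _
      rw [Polynomial.mem_roots h2]
      simp [h x]
    have h5 := Multiset.card_le_card h4
    exact h5.trans ((Polynomial.card_roots' _).trans h1.le)
  obtain ⟨n, hpr, hn⟩ := FiniteField.card F p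
  rw [hn] at h3 ⊢
  have h6 : (n : ℕ) ≤ 1 := by
    by_contra hcon
    push Not at hcon
    have := Nat.pow_lt_pow_right hp.out.one_lt hcon
    rw [pow_one] at this
    omega
  have h7 : (n : ℕ) = 1 := le_antisymm h6 n.pos
  rw [h7, pow_one]

/-- **Unitary or quadratic form from `tr(g)^{p^k} = tr(g⁻¹)` (odd dimension).** -/
theorem form_of_trace [Finite F] (hodd : Odd (Fintype.card ι)) (h1 : Fintype.card ι ≠ 1) {P : Subgroup (GL ι F)}
    (hP : ActsAbsolutelyIrreducibly (matrixSet P))
    (hno : ∀ F₀ : Subfield F, F₀ ≠ ⊤ → ¬ RealisableOver F₀ (matrixSet P)) (p : ℕ) [hp : Fact p.Prime] [CharP F p] (k : ℕ)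
    (h : ∀ g : P, (((g : GL ι F) : Matrix ι ι F).trace) ^ p ^ k = ((((g : P)⁻¹ : P) : GL ι F) : Matrix ι ι F).trace) :
    (∃ Q : (ι → F) → F, IsNondegenerateQuadraticForm Q ∧ FixesQuadForm (matrixSet P) Q) ∨
    ((∀ x : F, x ^ (p ^ (2 * k)) = x) ∧ (¬ ∀ x : F, x ^ p ^ k = x) ∧
      ∃ (σ : F ≃+* F) (f : (ι → F) → (ι → F) → F), IsUnitaryForm σ f ∧ FixesForm (matrixSet P) f) := by
  have hne : Nonempty ι := by
    rw [← Fintype.card_pos_iff]
    exact hodd.pos
  have h2 : ∀ x : F, x ^ p ^ (2 * k) = x := by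
    apply pow_eq_of_trace hP hno
    intro g
    rw [two_mul, pow_add, pow_mul, h, h, inv_inv]
  by_cases h3 : ∀ x : F, x ^ p ^ k = x
  · left
    refine OddForm.quad_of_real hodd h1 hP fun g hg => ?_
    have := h ⟨g, hg⟩
    rw [h3] at this
    exact this.symm
  · right
    refine ⟨h2, h3, ?_⟩
    have hbij : Function.Bijective (iterateFrobenius F p k) := by
      have := iterateFrobenius_inj F p k
      exact ⟨this, Finite.injective_iff_surjective.1 this⟩
    let σ : F ≃+* F := RingEquiv.ofBijective (iterateFrobenius F p k) hbij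
    have hσ : ∀ x, σ x = x ^ p ^ k := fun x => iterateFrobenius_def p k x
    refine ⟨σ, ?_⟩
    apply H906.exists_unitary_of_trace hP σ
    · intro hr
      apply h3
      intro x
      rw [← hσ, hr]
      rfl
    · intro a
      rw [hσ, hσ, ← pow_mul, ← pow_add, ← two_mul, h2]
    · intro g hg
      rw [hσ]
      exact (h ⟨g, hg⟩).symm

end general

section core

variable {F : Type*} [Field F] [Finite F] {H P : Subgroup (GL (Fin 5) F)}

theorem commutator_top {G : Type*} [Group G] {P : Subgroup G} (h : ⁅P, P⁆ = P) : commutator P = ⊤ := by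
  have h1 : (commutator P).map P.subtype = (⊤ : Subgroup P).map P.subtype := by
    rw [commutator_def, Subgroup.map_commutator, ← MonoidHom.range_eq_map, Subgroup.range_subtype, h]
  exact Subgroup.map_injective P.subtype_injective h1

/-- In dimension five the core has no centre as soon as `25` does not divide the order of the simple group. -/
theorem center_bot (hc : IsResidualCore H P) (h25 : ¬ 25 ∣ Nat.card (P ⧸ (scalars (Fin 5) F).subgroupOf P)) :
    (scalars (Fin 5) F).subgroupOf P = ⊥ := by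
  set Z := (scalars (Fin 5) F).subgroupOf P with hZ
  have hperf : commutator P = ⊤ := commutator_top hc.perfect
  have hzc : Z ≤ Subgroup.center P := by
    intro z hz
    rw [hZ, Subgroup.mem_subgroupOf, mem_scalars_iff] at hz
    obtain ⟨c, hcz⟩ := hz
    rw [Subgroup.mem_center_iff]
    intro g
    apply Subtype.ext
    apply Units.ext
    rw [Subgroup.coe_mul, Subgroup.coe_mul, Units.val_mul, Units.val_mul, hcz]
    rw [Matrix.mul_smul, Matrix.smul_mul, mul_one, one_mul]
  have hperfQ : commutator (P ⧸ Z) = ⊤ := by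
    rw [commutator_def, ← Subgroup.map_top_of_surjective (QuotientGroup.mk' Z) (QuotientGroup.mk'_surjective Z),
      ← Subgroup.map_commutator, ← commutator_def, hperf]
  have hprime : Fact (Nat.Prime 5) := ⟨by norm_num⟩
  have hcyc : ∀ S : Sylow 5 (P ⧸ Z), IsCyclic S := by
    intro S
    have h1 := S.card_eq_multiplicity
    have h2 : (Nat.card (P ⧸ Z)).factorization 5 ≤ 1 := by
      by_contra hcon
      push Not at hcon
      apply h25
      have h3 : 5 ^ 2 ∣ Nat.card (P ⧸ Z) :=
        (pow_dvd_pow 5 hcon).trans (Nat.ordProj_dvd _ _)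
      exact h3
    have h4 : Nat.card S ∣ 5 := by
      rw [h1]
      exact (pow_dvd_pow 5 h2).trans (by norm_num)
    rcases (Nat.dvd_prime (by norm_num : Nat.Prime 5)).1 h4 with h5 | h5
    · have : Subsingleton S := by
        rw [Nat.card_eq_one_iff_unique] at h5
        exact h5.1
      infer_instance
    · exact isCyclic_of_prime_card (p := 5) h5
  have hker : (QuotientGroup.mk' Z).ker = Z := QuotientGroup.ker_mk' Z
  have h102 := Cfsg.Agent.S0102.result (G := P ⧸ Z) (H := P) hperfQ (p := 5) hcyc (QuotientGroup.mk' Z)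
    (QuotientGroup.mk'_surjective Z) (by rw [hker]; exact hzc) hperf
  rw [hker] at h102
  -- every element of `Z` has order dividing five
  rw [Subgroup.eq_bot_iff_forall]
  intro z hz
  have hz' := hz
  rw [hZ, Subgroup.mem_subgroupOf, mem_scalars_iff] at hz'
  obtain ⟨c, hcz⟩ := hz'
  have hdet : (z : GL (Fin 5) F) ∈ specialLinear (Fin 5) F := by
    have h1 : ∀ x : P, (Matrix.GeneralLinearGroup.det (x : GL (Fin 5) F)) = 1 := by
      have h2 : (Matrix.GeneralLinearGroup.det.comp P.subtype).ker = ⊤ := by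
        rw [eq_top_iff, ← hperf]
        exact Abelianization.commutator_subset_ker _
      intro x
      have : x ∈ (Matrix.GeneralLinearGroup.det.comp P.subtype).ker := by rw [h2]; trivial
      exact this
    exact h1 z
  have hc5 : (c : F) ^ 5 = 1 := by
    have h1 : Matrix.GeneralLinearGroup.det (z : GL (Fin 5) F) = 1 := hdet
    have h2 : (((z : GL (Fin 5) F) : Matrix (Fin 5) (Fin 5) F)).det = 1 := by
      rw [← Matrix.GeneralLinearGroup.val_det_apply, h1, Units.val_one]
    rw [hcz, Matrix.det_smul, Matrix.det_one, Fintype.card_fin, mul_one] at h2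
    exact h2
  have hz5 : z ^ 5 = 1 := by
    apply Subtype.ext
    apply Units.ext
    rw [Subgroup.coe_pow, Units.val_pow_eq_pow_val, hcz, smul_pow, hc5, one_pow, one_smul]
    rfl
  by_contra hne
  apply h102
  have hord : orderOf (⟨z, hz⟩ : Z) = 5 := by
    apply orderOf_eq_prime
    · exact Subtype.ext hz5
    · intro h; exact hne (congrArg Subtype.val h)
  exact (dvd_of_eq hord.symm).trans (orderOf_dvd_natCard _)

/-- The core is isomorphic to its simple quotient. -/
noncomputable def coreEquiv (hc : IsResidualCore H P) (h25 : ¬ 25 ∣ Nat.card (P ⧸ (scalars (Fin 5) F).subgroupOf P)) :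
    P ≃* (P ⧸ (scalars (Fin 5) F).subgroupOf P) :=
  QuotientGroup.quotientBot.symm.trans (QuotientGroup.quotientMulEquivOfEq (center_bot hc h25).symm)

end core

end Cfsg.Agent.H911.Five
end
end

-- part: H915/LD
section
set_option linter.all false
open scoped Cfsg.Agent.FastGrp

/-!
# Interface of the low-dimensional representations hub (helper915)

`P ≤ GL(ι, F)`, `F` finite of characteristic `p`.

* `Core P` : perfect, non-abelian simple modulo scalars, absolutely irreducible, over no proper subfield;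
  `Soc P = P / scalars`; `tr`;
* `SD P` : `tr g⁻¹ = tr g`; `Fr P Q` : `tr g ^ Q = tr g`; `Cj P Q` : `tr g ^ Q = tr g⁻¹` on `P`;
  `SD.of_reg`, `Fr.of_reg`, `Cj.of_reg` : it is enough to check elements of order prime to `p`;
* `FixQ P`, `FixA P`, `FixU P` : `P` fixes a non-degenerate quadratic, alternating, unitary form;
* `Core.forms_of_sd` : `SD P` ⟹ `FixQ P ∨ FixA P`;
* `Core.pow_eq` : `Fr P (p^k)` ⟹ `x^(p^k) = x` on `F`; `Core.card_eq` : `Fr P p` ⟹ `|F| = p`;
* `Core.forms_of_cj` : `Cj P (p^k)` ⟹ `SD P`, or `x^(p^2k) = x` on `F`, not `x^(p^k) = x`, and `FixU P`;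
* `linear_core`, `unitary_core` : the residual classes give a core that is not `SD` (linear case: not `Cj` either);
* `Core.card_scalars_dvd`, `Core.scalar_pow`, `Core.scalars_eq_bot`, `Core.equiv_of_coprime`, `Core.pr`.
-/

set_option autoImplicit false
set_option linter.unusedSectionVars false

namespace Cfsg.Agent.H915.LD

open Cfsg Cfsg.Geo Matrix

universe u v w

section general

variable {ι : Type} [Fintype ι] [DecidableEq ι] {F : Type u} [Field F] {P : Subgroup (GL ι F)}

/-- The conditions of `IsResidualCore` that do not mention `H`. -/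
structure Core (P : Subgroup (GL ι F)) : Prop where
  perfect : ⁅P, P⁆ = P
  simple : IsSimpleGroup (P ⧸ (scalars ι F).subgroupOf P)
  nonabelian : ¬ IsMulCommutative (P ⧸ (scalars ι F).subgroupOf P)
  absIrred : ActsAbsolutelyIrreducibly (matrixSet P)
  no_subfield : ∀ F₀ : Subfield F, F₀ ≠ ⊤ → ¬ RealisableOver F₀ (matrixSet P)

theorem core_of_residual {H P : Subgroup (GL ι F)} (h : IsResidualCore H P) : Core P :=
  ⟨h.perfect, h.simple, h.nonabelian, h.absIrred, h.no_subfield⟩

/-- `P` modulo scalars -/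
abbrev Soc (P : Subgroup (GL ι F)) : Type u := P ⧸ (scalars ι F).subgroupOf P

/-- the trace of a matrix in `GL` -/
def tr (g : GL ι F) : F := (g : Matrix ι ι F).trace

/-- self-dual -/
def SD (P : Subgroup (GL ι F)) : Prop := ∀ g ∈ P, tr g⁻¹ = tr g

/-- traces fixed by `x ↦ x^Q` -/
def Fr (P : Subgroup (GL ι F)) (Q : ℕ) : Prop := ∀ g ∈ P, tr g ^ Q = tr g

/-- `x ↦ x^Q` turns the representation into the dual -/
def Cj (P : Subgroup (GL ι F)) (Q : ℕ) : Prop := ∀ g ∈ P, tr g ^ Q = tr g⁻¹

/-- `P` fixes a non-degenerate quadratic form -/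
def FixQ (P : Subgroup (GL ι F)) : Prop :=
  ∃ Q : (ι → F) → F, IsNondegenerateQuadraticForm Q ∧ FixesQuadForm (matrixSet P) Q

/-- `P` fixes a non-degenerate alternating form -/
def FixA (P : Subgroup (GL ι F)) : Prop :=
  ∃ f : (ι → F) → (ι → F) → F, IsSymplecticForm f ∧ FixesForm (matrixSet P) f

/-- `P` fixes a non-degenerate unitary form -/
def FixU (P : Subgroup (GL ι F)) : Prop :=
  ∃ (σ : F ≃+* F) (f : (ι → F) → (ι → F) → F), IsUnitaryForm σ f ∧ FixesForm (matrixSet P) f

theorem tr_mul_comm (a b : GL ι F) : tr (a * b) = tr (b * a) := by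
  unfold tr
  rw [Units.val_mul, Units.val_mul, Matrix.trace_mul_comm]

theorem tr_conj (a g : GL ι F) : tr (a * g * a⁻¹) = tr g := by
  rw [tr_mul_comm, ← mul_assoc, inv_mul_cancel, one_mul]

theorem tr_of_isConj {a b : P} (h : IsConj a b) : tr (a : GL ι F) = tr (b : GL ι F) := H911.Five.trace_conj h

/-- conjugate modulo a scalar -/
theorem tr_smul {a b : GL ι F} {c : F} (h : (b : Matrix ι ι F) = c • (a : Matrix ι ι F)) : tr b = c * tr a := by
  unfold tr
  rw [h, Matrix.trace_smul, smul_eq_mul]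

section finite

variable [Finite F] (p : ℕ) [hp : Fact p.Prime] [CharP F p]

/-- It is enough to check elements of order prime to `p`. -/
theorem SD.of_reg (h : ∀ g ∈ P, ¬ p ∣ orderOf g → tr g⁻¹ = tr g) : SD P := by
  intro g hg
  have h1 := H911.Five.trace_reg (P := P) p (RingHom.id F) (fun g => g⁻¹) (fun g k => by rw [inv_pow]) (by
    intro g hg
    rw [← Subgroup.orderOf_coe] at hg
    exact (h g g.2 hg).symm) ⟨g, hg⟩
  exact h1.symm

theorem Fr.of_reg {k : ℕ} (h : ∀ g ∈ P, ¬ p ∣ orderOf g → tr g ^ p ^ k = tr g) : Fr P (p ^ k) := by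
  intro g hg
  have h1 := H911.Five.trace_reg (P := P) p (iterateFrobenius F p k) (fun g => g) (fun g k => rfl) (by
    intro g hg
    rw [← Subgroup.orderOf_coe] at hg
    rw [iterateFrobenius_def]
    exact h g g.2 hg) ⟨g, hg⟩
  rw [iterateFrobenius_def] at h1
  exact h1

theorem Cj.of_reg {k : ℕ} (h : ∀ g ∈ P, ¬ p ∣ orderOf g → tr g ^ p ^ k = tr g⁻¹) : Cj P (p ^ k) := by
  intro g hg
  have h1 := H911.Five.trace_reg (P := P) p (iterateFrobenius F p k) (fun g => g⁻¹) (fun g k => by rw [inv_pow]) (by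
    intro g hg
    rw [← Subgroup.orderOf_coe] at hg
    rw [iterateFrobenius_def]
    exact h g g.2 hg) ⟨g, hg⟩
  rw [iterateFrobenius_def] at h1
  exact h1

theorem Fr.of_reg' (h : ∀ g ∈ P, ¬ p ∣ orderOf g → tr g ^ p = tr g) : Fr P p := by
  have h1 := Fr.of_reg (P := P) p (k := 1) (by rw [pow_one]; exact h)
  rwa [pow_one] at h1

theorem Cj.of_reg' (h : ∀ g ∈ P, ¬ p ∣ orderOf g → tr g ^ p = tr g⁻¹) : Cj P p := by
  have h1 := Cj.of_reg (P := P) p (k := 1) (by rw [pow_one]; exact h)
  rwa [pow_one] at h1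

/-- the trace of a `p^k`-th power -/
theorem tr_pow_char (g : GL ι F) (k : ℕ) : tr (g ^ p ^ k) = tr g ^ p ^ k := by
  unfold tr
  rw [Units.val_pow_eq_pow_val]
  exact H911.Base.trace_pow_char_pow p _ k

end finite

theorem Cj.fr {Q : ℕ} (h : Cj P Q) : Fr P (Q * Q) := by
  intro g hg
  rw [pow_mul, h g hg, h _ (inv_mem hg), inv_inv]

theorem Cj.of_fr_sd {Q : ℕ} (h : Fr P Q) (h' : SD P) : Cj P Q := fun g hg => by rw [h g hg, h' g hg]

theorem SD.of_fr_cj {Q : ℕ} (h : Fr P Q) (h' : Cj P Q) : SD P := fun g hg => by rw [← h' g hg, h g hg]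

theorem Fr.of_sd_cj {Q : ℕ} (h : SD P) (h' : Cj P Q) : Fr P Q := fun g hg => by rw [h' g hg, h g hg]

theorem Fr.mul {Q R : ℕ} (h : Fr P Q) (h' : Fr P R) : Fr P (Q * R) := fun g hg => by rw [pow_mul, h g hg, h' g hg]

theorem Fr.pow {Q : ℕ} (h : Fr P Q) (k : ℕ) : Fr P (Q ^ k) := by
  induction k with
  | zero => intro g hg; simp
  | succ k ih => rw [pow_succ]; exact ih.mul h

/-! ### the core -/

theorem Core.nonempty (hC : Core P) : Nonempty ι := by
  by_contra h
  rw [not_nonempty_iff] at h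
  apply hC.nonabelian
  have h1 : Subsingleton (GL ι F) := inferInstance
  have h2 : Subsingleton (P ⧸ (scalars ι F).subgroupOf P) := by
    constructor
    intro a b
    induction a using QuotientGroup.induction_on with
    | H a =>
      induction b using QuotientGroup.induction_on with
      | H b => rw [Subsingleton.elim a b]
  exact ⟨⟨fun a b => Subsingleton.elim _ _⟩⟩

theorem Core.two_le (hC : Core P) : 2 ≤ Fintype.card ι := by
  have hne := hC.nonempty
  by_contra h
  have h1 : Fintype.card ι = 1 := by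
    have := Fintype.card_pos (α := ι)
    omega
  apply hC.nonabelian
  obtain ⟨i, hi⟩ := Fintype.card_eq_one_iff.1 h1
  have h2 : Subsingleton (P ⧸ (scalars ι F).subgroupOf P) := by
    constructor
    have key : ∀ a : P, (a : P ⧸ (scalars ι F).subgroupOf P) = 1 := by
      intro a
      rw [QuotientGroup.eq_one_iff, Subgroup.mem_subgroupOf, mem_scalars_iff]
      have h3 : ((a : GL ι F) : Matrix ι ι F) i i ≠ 0 := by
        intro h0
        have h4 : ((a : GL ι F) : Matrix ι ι F) = 0 := by
          ext x y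
          rw [hi x, hi y, h0]; rfl
        have h5 : (((a : GL ι F)⁻¹ : GL ι F) : Matrix ι ι F) * ((a : GL ι F) : Matrix ι ι F) = 1 := by
          rw [← Units.val_mul, inv_mul_cancel, Units.val_one]
        rw [h4, Matrix.mul_zero] at h5
        have h6 := congrFun (congrFun h5 i) i
        rw [Matrix.one_apply_eq] at h6
        exact zero_ne_one h6
      refine ⟨Units.mk0 _ h3, ?_⟩
      ext x y
      rw [hi x, hi y]
      simp
    intro a b
    induction a using QuotientGroup.induction_on with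
    | H a =>
      induction b using QuotientGroup.induction_on with
      | H b => rw [key a, key b]
  exact ⟨⟨fun a b => Subsingleton.elim _ _⟩⟩

theorem Core.commutator_top (hC : Core P) : commutator P = ⊤ := H911.Five.commutator_top hC.perfect

theorem Core.det (hC : Core P) {g : GL ι F} (hg : g ∈ P) : Matrix.GeneralLinearGroup.det g = 1 := by
  have h2 : (Matrix.GeneralLinearGroup.det.comp P.subtype).ker = ⊤ := by
    rw [eq_top_iff, ← hC.commutator_top]
    exact Abelianization.commutator_subset_ker _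
  have h3 : (⟨g, hg⟩ : P) ∈ (Matrix.GeneralLinearGroup.det.comp P.subtype).ker := by rw [h2]; trivial
  exact h3

theorem Core.le_sl (hC : Core P) : P ≤ specialLinear ι F := fun _ hg => hC.det hg

/-- a scalar in `P` has `c^n = 1` -/
theorem Core.scalar_pow (hC : Core P) {g : GL ι F} (hg : g ∈ P) {c : F}
    (hc : (g : Matrix ι ι F) = c • (1 : Matrix ι ι F)) : c ^ Fintype.card ι = 1 := by
  have h2 : ((g : Matrix ι ι F)).det = 1 := by
    rw [← Matrix.GeneralLinearGroup.val_det_apply, hC.det hg, Units.val_one]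
  rw [hc, Matrix.det_smul, Matrix.det_one, mul_one] at h2
  exact h2

theorem Core.pow_card (hC : Core P) {z : P} (hz : z ∈ (scalars ι F).subgroupOf P) : z ^ Fintype.card ι = 1 := by
  rw [Subgroup.mem_subgroupOf, mem_scalars_iff] at hz
  obtain ⟨c, hc⟩ := hz
  have h1 := hC.scalar_pow z.2 hc
  apply Subtype.ext
  apply Units.ext
  rw [Subgroup.coe_pow, Units.val_pow_eq_pow_val, hc, smul_pow, h1, one_pow, one_smul]
  rfl

theorem scalars_le_center : (scalars ι F).subgroupOf P ≤ Subgroup.center P := by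
  intro z hz
  rw [Subgroup.mem_subgroupOf, mem_scalars_iff] at hz
  obtain ⟨c, hcz⟩ := hz
  rw [Subgroup.mem_center_iff]
  intro g
  apply Subtype.ext
  apply Units.ext
  rw [Subgroup.coe_mul, Subgroup.coe_mul, Units.val_mul, Units.val_mul, hcz]
  rw [Matrix.mul_smul, Matrix.smul_mul, mul_one, one_mul]

/-- the map onto the simple group -/
def toSoc (P : Subgroup (GL ι F)) : P →* Soc P := QuotientGroup.mk' _

theorem toSoc_surjective (P : Subgroup (GL ι F)) : Function.Surjective (toSoc P) := QuotientGroup.mk'_surjective _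

theorem ker_toSoc (P : Subgroup (GL ι F)) : (toSoc P).ker = (scalars ι F).subgroupOf P := QuotientGroup.ker_mk' _

theorem ker_toSoc_le (P : Subgroup (GL ι F)) : (toSoc P).ker ≤ Subgroup.center P := by
  rw [ker_toSoc]; exact scalars_le_center

theorem ker_comp {T : Type v} [Group T] (e : Soc P ≃* T) :
    (e.toMonoidHom.comp (toSoc P)).ker = (scalars ι F).subgroupOf P := by
  refine Eq.trans ?_ (ker_toSoc P)
  ext x
  rw [MonoidHom.mem_ker, MonoidHom.mem_ker, MonoidHom.comp_apply]
  exact e.map_eq_one_iff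

/-- conjugate in `Soc P` : conjugate up to a scalar in `P` -/
theorem exists_of_toSoc_eq {a b : P} (h : toSoc P a = toSoc P b) :
    ∃ c : Fˣ, ((b : GL ι F) : Matrix ι ι F) = (c : F) • ((a : GL ι F) : Matrix ι ι F) := by
  have h1 : a⁻¹ * b ∈ (toSoc P).ker := by
    rw [MonoidHom.mem_ker, map_mul, map_inv, h, inv_mul_cancel]
  rw [ker_toSoc, Subgroup.mem_subgroupOf, mem_scalars_iff] at h1
  obtain ⟨c, hc⟩ := h1
  refine ⟨c, ?_⟩
  have h2 : ((b : GL ι F) : Matrix ι ι F) = ((a : GL ι F) : Matrix ι ι F) * ((a⁻¹ * b : P) : GL ι F).1 := by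
    rw [← Units.val_mul, ← Subgroup.coe_mul, mul_inv_cancel_left]
  rw [h2, hc, Matrix.mul_smul, Matrix.mul_one]

section cover

variable {T : Type v} [Group T]

theorem Core.card_scalars_dvd (hC : Core P) (e : Soc P ≃* T) {A : Type w} [CommGroup A] (hA : HasSchurMultiplier T A) :
    Nat.card ((scalars ι F).subgroupOf P) ∣ Nat.card A := by
  have h1 := ker_comp e
  have h2 := H95.StemCover.card_ker_dvd hA hC.commutator_top (e.toMonoidHom.comp (toSoc P))
    (e.surjective.comp (toSoc_surjective P)) (by rw [h1]; exact scalars_le_center)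
  rwa [h1] at h2

/-- the centre is trivial if the order of the multiplier is prime to the degree -/
theorem Core.scalars_eq_bot (hC : Core P) (e : Soc P ≃* T) {A : Type w} [CommGroup A] (hA : HasSchurMultiplier T A)
    (hcop : (Nat.card A).Coprime (Fintype.card ι)) : (scalars ι F).subgroupOf P = ⊥ := by
  rw [Subgroup.eq_bot_iff_forall]
  intro z hz
  have h1 := hC.pow_card hz
  have h2 : z ^ Nat.card A = 1 := by
    have h3 : z ^ Nat.card ((scalars ι F).subgroupOf P) = 1 := by
      have h4 : (⟨z, hz⟩ : (scalars ι F).subgroupOf P) ^ Nat.card ((scalars ι F).subgroupOf P) = 1 := pow_card_eq_one'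
      exact congrArg Subtype.val h4
    obtain ⟨m, hm⟩ := hC.card_scalars_dvd e hA
    rw [hm, pow_mul, h3, one_pow]
  have h3 : orderOf z ∣ 1 := by
    have h4 := Nat.dvd_gcd (orderOf_dvd_of_pow_eq_one h2) (orderOf_dvd_of_pow_eq_one h1)
    rwa [hcop] at h4
  rw [Nat.dvd_one, orderOf_eq_one_iff] at h3
  exact h3

/-- then `P` is isomorphic to the simple group -/
theorem Core.equiv_of_coprime (hC : Core P) (e : Soc P ≃* T) {A : Type w} [CommGroup A] (hA : HasSchurMultiplier T A)
    (hcop : (Nat.card A).Coprime (Fintype.card ι)) :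
    ∃ e' : P ≃* T, ∀ x, e' x = e (toSoc P x) := by
  have h1 := hC.scalars_eq_bot e hA hcop
  have h2 : Function.Injective (e.toMonoidHom.comp (toSoc P)) := by
    rw [← MonoidHom.ker_eq_bot_iff]
    exact (ker_comp e).trans h1
  exact ⟨MulEquiv.ofBijective _ ⟨h2, e.surjective.comp (toSoc_surjective P)⟩, fun x => rfl⟩

end cover

section finite

variable [Finite F]

/-- `Fr P (p^k)` ⟹ `x^(p^k) = x` on `F` -/
theorem Core.pow_eq (hC : Core P) (p : ℕ) [hp : Fact p.Prime] [CharP F p] {k : ℕ} (h : Fr P (p ^ k)) (x : F) :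
    x ^ p ^ k = x :=
  H911.Five.pow_eq_of_trace hC.absIrred hC.no_subfield p k (fun g => h g g.2) x

theorem Core.card_eq [Fintype F] (hC : Core P) (p : ℕ) [hp : Fact p.Prime] [CharP F p] (h : Fr P p) :
    Fintype.card F = p := by
  apply H911.Five.card_eq_of_pow p
  have h1 : Fr P (p ^ 1) := by rw [pow_one]; exact h
  have h2 := hC.pow_eq p h1
  rwa [pow_one] at h2

/-- `Fr P (p^k)`, `k ≠ 0` ⟹ `|F| ≤ p^k` -/
theorem Core.card_le [Fintype F] (hC : Core P) (p : ℕ) [hp : Fact p.Prime] [CharP F p] {k : ℕ} (hk : k ≠ 0)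
    (h : Fr P (p ^ k)) : Fintype.card F ≤ p ^ k := by
  have h1 := hC.pow_eq p h
  have hlt : 1 < p ^ k := Nat.one_lt_pow hk hp.out.one_lt
  have h2 := FiniteField.X_pow_card_sub_X_natDegree_eq F hlt
  have h3 : (Polynomial.X ^ p ^ k - Polynomial.X : Polynomial F) ≠ 0 := by
    intro h0
    rw [h0, Polynomial.natDegree_zero] at h2
    omega
  classical
  have h4 : (Finset.univ : Finset F).val ≤ (Polynomial.X ^ p ^ k - Polynomial.X : Polynomial F).roots := by
    rw [Finset.val_le_iff_val_subset]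
    intro x _
    rw [Polynomial.mem_roots h3]
    simp [h1 x]
  have h5 := Multiset.card_le_card h4
  exact h5.trans ((Polynomial.card_roots' _).trans h2.le)

/-- a symmetric invariant form in characteristic two is alternating -/
theorem alternating_of_char_two (h2 : (2 : F) = 0) (h1 : 2 ≤ Fintype.card ι) (hirr : ActsIrreducibly (matrixSet P))
    {f : (ι → F) → (ι → F) → F} (hf : IsBilinearForm f) (hfix : FixesForm (matrixSet P) f)
    (hs : ∀ u v, f u v = f v u) (v : ι → F) : f v v = 0 := by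
  have hadd : ∀ u v, f (u + v) (u + v) = f u u + f v v := by
    intro u v
    rw [hf.add_left, hf.add_right, hf.add_right, hs v u]
    linear_combination (f u v) * h2
  have f_zero : f 0 0 = 0 := by
    have := hf.smul_left 0 0 0
    rw [zero_mul, zero_smul] at this
    exact this
  let W : Submodule F (ι → F) :=
    { carrier := {v | f v v = 0}
      add_mem' := fun {u v} hu hv => by
        change f (u + v) (u + v) = 0
        rw [hadd, show f u u = 0 from hu, show f v v = 0 from hv, add_zero]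
      zero_mem' := f_zero
      smul_mem' := fun c v hv => by
        change f (c • v) (c • v) = 0
        rw [hf.smul_left, hf.smul_right, show f v v = 0 from hv, mul_zero, mul_zero] }
  rcases hirr W (by
    intro s hs' v hv
    obtain ⟨w, hw, rfl⟩ := hv
    rw [Matrix.toLin'_apply]
    change f (s *ᵥ w) (s *ᵥ w) = 0
    rw [hfix s hs' w w]
    exact hw) with h | h
  · exfalso
    have hinj : ∀ v, f v v = 0 → v = 0 := by
      intro v hv
      have h3 : v ∈ W := hv
      rw [h] at h3
      simpa using h3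
    obtain ⟨i, j, hij⟩ := Fintype.exists_pair_of_one_lt_card (α := ι) (by omega)
    have : Fintype F := Fintype.ofFinite F
    have hp2 : CharP F 2 := CharTwo.of_one_ne_zero_of_two_eq_zero one_ne_zero h2
    have hsq : ∀ x : F, ∃ y, y * y = x := by
      intro x
      have h4 : Function.Injective (frobenius F 2) := frobenius_inj F 2
      obtain ⟨y, hy⟩ := Finite.injective_iff_surjective.1 h4 x
      exact ⟨y, by rw [← hy, frobenius_def, pow_two]⟩
    set a := f (Pi.single i 1) (Pi.single i 1) with ha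
    set b := f (Pi.single j 1) (Pi.single j 1) with hb
    have ha0 : a ≠ 0 := by
      intro h5
      have h6 := congrFun (hinj _ h5) i
      simp at h6
    obtain ⟨y, hy⟩ := hsq (b / a)
    have h7 : f (y • Pi.single i 1 + Pi.single j 1) (y • Pi.single i 1 + Pi.single j 1) = 0 := by
      rw [hadd, hf.smul_left, hf.smul_right, ← ha, ← hb, ← mul_assoc, hy, div_mul_cancel₀ _ ha0]
      linear_combination b * h2
    have h8 := congrFun (hinj _ h7) j
    simp [hij.symm] at h8
  · have : v ∈ W := by rw [h]; trivial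
    exact this

/-- **Self-dual cores fix a quadratic or an alternating form.** -/
theorem Core.forms_of_sd (hC : Core P) (h : SD P) : FixQ P ∨ FixA P := by
  have hne := hC.nonempty
  obtain ⟨f, hf, hn, hfix, hsym⟩ := H906.exists_bilinear_of_trace hC.absIrred h
  by_cases h2 : (2 : F) = 0
  · right
    have hneg : ∀ x : F, -x = x := by
      intro x
      have : (2 : F) * x = 0 := by rw [h2, zero_mul]
      linear_combination -this
    have hs : ∀ u v, f u v = f v u := by
      rcases hsym with h | h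
      · exact h
      · intro u v
        rw [h, hneg]
    exact ⟨f, ⟨hf, fun v w => by rw [hneg, hs], alternating_of_char_two h2 hC.two_le hC.absIrred.1 hf hfix hs, hn⟩, hfix⟩
  · rcases hsym with h | h
    · exact Or.inl ⟨fun v => f v v, H920.isNondegenerateQuadraticForm_of_symm h2 hf hn h, fun s hs v => hfix s hs v v⟩
    · right
      refine ⟨f, ⟨hf, h, fun v => ?_, hn⟩, hfix⟩
      have h3 := h v v
      have h4 : (2 : F) * f v v = 0 := by linear_combination h3
      exact (mul_eq_zero.1 h4).resolve_left h2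

/-- in odd dimension: a quadratic form -/
theorem Core.fixQ_of_sd (hC : Core P) (hodd : Odd (Fintype.card ι)) (h : SD P) : FixQ P :=
  H911.OddForm.quad_of_real hodd (by have := hC.two_le; omega) hC.absIrred h

theorem Core.fixU_of_cj (hC : Core P) (p : ℕ) [hp : Fact p.Prime] [CharP F p] {k : ℕ} (h : Cj P (p ^ k))
    (hsd : ¬ SD P) : (∀ x : F, x ^ p ^ (2 * k) = x) ∧ (¬ ∀ x : F, x ^ p ^ k = x) ∧ FixU P := by
  have hne := hC.nonempty
  have h2 : ∀ x : F, x ^ p ^ (2 * k) = x := by
    apply hC.pow_eq p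
    rw [two_mul, pow_add]
    exact h.fr
  have h3 : ¬ ∀ x : F, x ^ p ^ k = x := fun h3 => hsd fun g hg => by rw [← h g hg, h3]
  refine ⟨h2, h3, ?_⟩
  have hbij : Function.Bijective (iterateFrobenius F p k) := by
    have := iterateFrobenius_inj F p k
    exact ⟨this, Finite.injective_iff_surjective.1 this⟩
  let σ : F ≃+* F := RingEquiv.ofBijective (iterateFrobenius F p k) hbij
  have hσ : ∀ x, σ x = x ^ p ^ k := fun x => iterateFrobenius_def p k x
  refine ⟨σ, ?_⟩
  apply H906.exists_unitary_of_trace hC.absIrred σ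
  · intro hr
    apply h3
    intro x
    rw [← hσ, hr]
    rfl
  · intro a
    rw [hσ, hσ, ← pow_mul, ← pow_add, ← two_mul, h2]
  · intro g hg
    rw [hσ]
    exact (h g hg).symm

end finite

end general

/-! ### the residual classes -/

section classes

variable {ι : Type} [Fintype ι] [DecidableEq ι] {F : Type u} [Field F] [Finite F] {H : Subgroup (GL ι F)}

/-- **Linear case**: the core is neither self-dual nor conjugate-dual. -/
theorem linear_core (hS : InLinearResidualClass H) :
    ∃ P : Subgroup (GL ι F), IsResidualCore H P ∧ Core P ∧ ¬ SD P ∧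
      ∀ (p : ℕ) (_ : Fact p.Prime) (_ : CharP F p) (k : ℕ), ¬ Cj P (p ^ k) := by
  obtain ⟨P, hP, h1, h2, h3⟩ := hS
  have hC := core_of_residual hP
  have hsd : ¬ SD P := fun h => (hC.forms_of_sd h).elim h1 h2
  exact ⟨P, hP, hC, hsd, fun p _ _ k hk => h3 (hC.fixU_of_cj p hk hsd).2.2⟩

/-- **Unitary case**: the core is not self-dual. -/
theorem unitary_core (hS : InUnitaryResidualClass H) :
    ∃ P : Subgroup (GL ι F), IsResidualCore H P ∧ Core P ∧ ¬ SD P := by
  obtain ⟨P, hP, h1, h2⟩ := hS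
  have hC := core_of_residual hP
  exact ⟨P, hP, hC, fun h => (hC.forms_of_sd h).elim h1 h2⟩

/-- unitary case: `Fr P p` is impossible -/
theorem not_fr_of_card [Fintype F] {P : Subgroup (GL ι F)} (hC : Core P) (p : ℕ) [hp : Fact p.Prime] [CharP F p] {q : ℕ}
    (hF : Fintype.card F = q ^ 2) : ¬ Fr P p := by
  intro h
  have h1 := hC.card_eq p h
  rw [hF] at h1
  have h2 : q ∣ p := ⟨q, by rw [← h1, pow_two]⟩
  rcases (Nat.dvd_prime hp.out).1 h2 with h3 | h3
  · subst h3
    exact hp.out.one_lt.ne (by rw [← h1, one_pow])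
  · subst h3
    have := hp.out.one_lt
    nlinarith

/-- unitary case: `Fr P (p^2)` gives `q = p` -/
theorem q_eq_of_fr [Fintype F] {P : Subgroup (GL ι F)} (hC : Core P) (p : ℕ) [hp : Fact p.Prime] [CharP F p] {q : ℕ}
    (hF : Fintype.card F = q ^ 2) (h : Fr P (p ^ 2)) : q = p := by
  have h1 := hC.card_le p two_ne_zero h
  rw [hF] at h1
  have h2 : q ≤ p := by
    by_contra h3
    push Not at h3
    have := Nat.pow_lt_pow_left h3 two_ne_zero
    omega
  have h3 : p ∣ Fintype.card F := by
    obtain ⟨n, -, hn⟩ := FiniteField.card F p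
    rw [hn]
    exact dvd_pow_self _ n.pos.ne'
  rw [hF] at h3
  exact le_antisymm h2 (Nat.le_of_dvd (by
    rcases Nat.eq_zero_or_pos q with h0 | h0
    · rw [h0] at hF
      exact absurd hF (Fintype.card_pos (α := F)).ne'
    · exact h0) (hp.out.dvd_of_dvd_pow h3))

theorem q_eq_of_cj [Fintype F] {P : Subgroup (GL ι F)} (hC : Core P) (p : ℕ) [hp : Fact p.Prime] [CharP F p] {q : ℕ}
    (hF : Fintype.card F = q ^ 2) (h : Cj P p) : q = p :=
  q_eq_of_fr hC p hF (by rw [pow_two]; exact h.fr)

end classes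

/-! ### projective representations -/

section pr

variable {n : ℕ} {F : Type u} [Field F] [Finite F] {P : Subgroup (GL (Fin n) F)} {T : Type v} [Group T]

theorem Core.pr (_hC : Core P) (e : Soc P ≃* T) {r : ℕ}
    (hr : (Nat.card ((scalars (Fin n) F).subgroupOf P)).Coprime r) : H912.Bd.PR F n r T := by
  have h1 := ker_comp e
  refine ⟨P, inferInstance, e.toMonoidHom.comp (toSoc P), P.subtype, e.surjective.comp (toSoc_surjective P), ?_, ?_, ?_⟩
  · intro x hx y
    have h2 : x ∈ (e.toMonoidHom.comp (toSoc P)).ker := hx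
    rw [h1] at h2
    exact ((Subgroup.mem_center_iff.1 (scalars_le_center h2)) y).symm
  · rw [h1]; exact hr
  · rw [(MonoidHom.ker_eq_bot_iff _).2 P.subtype_injective]
    exact bot_le

end pr

end Cfsg.Agent.H915.LD
end

-- part: H908/TrFrob
section
set_option linter.all false
open scoped Cfsg.Agent.FastGrp

/-!
# Traces and `p`-regular elements (any dimension)

`trace_pow_char`: `tr(M ^ p) = tr(M) ^ p` in characteristic `p`.
`card_eq_of_reg`: all traces of `p`-regular elements in the prime field => the field is prime (no subfield).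
`forms_of_reg`: `tr(h) ^ (p ^ b) = tr(h⁻¹)` for all `p`-regular `h` => a quadratic, symplectic or unitary form.
-/

set_option autoImplicit false
set_option linter.unusedSectionVars false

namespace Cfsg.Agent.H908

open Cfsg Cfsg.Geo Polynomial
open scoped MatrixGroups Matrix
open Cfsg.Agent.H906 (realisable_of_trace exists_unitary_of_trace exists_bilinear_of_trace)

section

variable {ι : Type} [Fintype ι] [DecidableEq ι] {F : Type*} [Field F]

theorem charpoly_pow_char (p : ℕ) [hp : Fact p.Prime] [CharP F p] (M : Matrix ι ι F) :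
    (M ^ p).charpoly = M.charpoly.map (frobenius F p) := by
  cases (isEmpty_or_nonempty ι).symm
  · apply Polynomial.expand_injective hp.out.pos
    rw [← Polynomial.map_expand, Polynomial.map_frobenius_expand]
    unfold Matrix.charpoly
    have h1 : (Polynomial.expand F p) (Matrix.charmatrix (M ^ p)).det =
        (((Polynomial.expand F p : F[X] →+* F[X])).mapMatrix (Matrix.charmatrix (M ^ p))).det := by
      rw [← RingHom.map_det]
      rfl
    rw [h1, ← Matrix.det_pow]
    congr 1
    refine matPolyEquiv.injective ?_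
    rw [matPolyEquiv_eq_X_pow_sub_C, map_pow, map_pow, Matrix.matPolyEquiv_charmatrix,
      sub_pow_char_of_commute]
    exact (C M).commute_X
  · have h1 : ∀ N : Matrix ι ι F, N.charpoly = 1 := fun N => by
      unfold Matrix.charpoly
      exact Matrix.det_isEmpty
    rw [h1, h1, Polynomial.map_one]

theorem trace_pow_char (p : ℕ) [hp : Fact p.Prime] [CharP F p] (M : Matrix ι ι F) :
    (M ^ p).trace = M.trace ^ p := by
  cases isEmpty_or_nonempty ι
  · simp [Matrix.trace, zero_pow hp.out.ne_zero]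
  · rw [Matrix.trace_eq_neg_charpoly_coeff, Matrix.trace_eq_neg_charpoly_coeff, charpoly_pow_char p,
      Polynomial.coeff_map, ← frobenius_def, map_neg]

theorem trace_pow_char_pow (p : ℕ) [hp : Fact p.Prime] [CharP F p] (M : Matrix ι ι F) (k : ℕ) :
    (M ^ p ^ k).trace = M.trace ^ p ^ k := by
  induction k with
  | zero => simp
  | succ k ih => rw [pow_succ, pow_mul, trace_pow_char p, ih, ← pow_mul]

/-- There is an exponent `N` such that `g ↦ g ^ N` preserves traces and has `p`-regular values. -/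
theorem exists_reg_pow [Finite F] (p : ℕ) [hp : Fact p.Prime] [CharP F p] :
    ∃ N : ℕ, ∀ g : GL ι F, ((g ^ N : GL ι F) : Matrix ι ι F).trace =
      (g : Matrix ι ι F).trace ∧ (orderOf (g ^ N)).Coprime p := by
  classical
  have := Fintype.ofFinite F
  have hfinG : Finite (GL ι F) := inferInstance
  obtain ⟨b, hb0, hb⟩ := FiniteField.card F p
  set c := Nat.card (GL ι F) with hc
  refine ⟨(p ^ (b : ℕ)) ^ c, fun g => ⟨?_, ?_⟩⟩
  · rw [Units.val_pow_eq_pow_val, ← pow_mul, trace_pow_char_pow p, pow_mul, ← hb]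
    exact FiniteField.pow_card_pow _ _
  · have ho : 0 < orderOf g := orderOf_pos g
    obtain ⟨a, o', hnd, ho'⟩ := Nat.exists_eq_pow_mul_and_not_dvd ho.ne' p hp.out.ne_one
    have hac : a ≤ c := by
      have h1 : a < p ^ a := Nat.lt_pow_self hp.out.one_lt
      have h2 : p ^ a ≤ orderOf g := by
        rw [ho']
        exact Nat.le_mul_of_pos_right _ (Nat.pos_of_ne_zero (by rintro rfl; exact hnd (dvd_zero _)))
      have h3 : orderOf g ≤ c := Nat.le_of_dvd Nat.card_pos (orderOf_dvd_natCard g)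
      omega
    have hdvd : p ^ a ∣ (p ^ (b : ℕ)) ^ c :=
      (pow_dvd_pow p hac).trans (pow_dvd_pow_of_dvd (dvd_pow_self p b.2.ne') c)
    obtain ⟨e, he⟩ := hdvd
    have h1 : (g ^ (p ^ (b : ℕ)) ^ c) ^ o' = 1 := by
      rw [← pow_mul, he, mul_right_comm, ← ho', pow_mul, pow_orderOf_eq_one, one_pow]
    exact Nat.Coprime.coprime_dvd_left (orderOf_dvd_of_pow_eq_one h1)
      ((Nat.coprime_comm.1 ((Nat.Prime.coprime_iff_not_dvd hp.out).2 hnd)))

variable {P : Subgroup (GL ι F)}

/-- A trace identity `tr(g) ^ m = tr(g⁻¹)` follows from `p`-regular elements. -/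
theorem trace_inv_of_reg [Finite F] (p : ℕ) [hp : Fact p.Prime] [CharP F p] (m : ℕ)
    (h : ∀ g ∈ P, (orderOf g).Coprime p →
      (g : Matrix ι ι F).trace ^ m = ((g⁻¹ : GL ι F) : Matrix ι ι F).trace) :
    ∀ g ∈ P, (g : Matrix ι ι F).trace ^ m = ((g⁻¹ : GL ι F) : Matrix ι ι F).trace := by
  obtain ⟨N, hN⟩ := exists_reg_pow (ι := ι) (F := F) p
  intro g hg
  obtain ⟨h1, h2⟩ := hN g
  obtain ⟨h3, -⟩ := hN g⁻¹
  have := h _ (P.pow_mem hg N) h2
  rwa [h1, ← inv_pow, h3] at this

/-- a real absolutely irreducible group in odd characteristic fixes a quadratic or a symplectic form. -/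
theorem quad_or_symp_of_real (h2 : (2 : F) ≠ 0) [Nonempty ι] (hP : ActsAbsolutelyIrreducibly (matrixSet P))
    (htr : ∀ g ∈ P, ((g⁻¹ : GL ι F) : Matrix ι ι F).trace = ((g : Matrix ι ι F).trace)) :
    (∃ Q : (ι → F) → F, IsNondegenerateQuadraticForm Q ∧ FixesQuadForm (matrixSet P) Q) ∨
    (∃ f : (ι → F) → (ι → F) → F, IsSymplecticForm f ∧ FixesForm (matrixSet P) f) := by
  obtain ⟨f, hf, hn, hfix, hsym | hskew⟩ := exists_bilinear_of_trace hP htr
  · left
    have hpol : ∀ u v, QuadraticMap.polar (fun v => f v v * 2⁻¹) u v = f u v := by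
      intro u v
      simp only [QuadraticMap.polar, hf.add_left, hf.add_right]
      rw [hsym v u]
      field_simp
      ring
    refine ⟨fun v => f v v * 2⁻¹, ⟨?_, ?_, ?_⟩, ?_⟩
    · intro c v
      simp only [hf.smul_left, hf.smul_right]
      ring
    · have : QuadraticMap.polar (fun v => f v v * 2⁻¹) = f := by
        funext u v; exact hpol u v
      rw [this]; exact hf
    · have : QuadraticMap.polar (fun v => f v v * 2⁻¹) = f := by
        funext u v; exact hpol u v
      rw [this]; exact hn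
    · intro s hs v
      simp only
      rw [hfix s hs]
  · right
    refine ⟨f, ⟨hf, hskew, ?_, hn⟩, hfix⟩
    intro v
    have := hskew v v
    have h3 : (2 : F) * f v v = 0 := by linear_combination this
    exact (mul_eq_zero.1 h3).resolve_left h2

end

end Cfsg.Agent.H908
end

-- part: H936/Reix
section
prune_inst 0x10000000000000
set_option linter.all false
open scoped Cfsg.Agent.FastGrp

/-!
# Reindexing of cores

`gr F e : GL ι F ≃* GL κ F` for `e : ι ≃ κ`; `rx e P = P.map (gr F e)`; `socEquiv e P : Soc P ≃* Soc (rx e P)`;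
`core_rx`, `sd_rx`, `fr_rx`, `cj_rx`.
-/

set_option autoImplicit false

universe u v

namespace Cfsg.Agent.H936.Reix

open Cfsg Cfsg.Geo Matrix Cfsg.Agent.H915.LD

section

variable {ι κ : Type} [Fintype ι] [DecidableEq ι] [Fintype κ] [DecidableEq κ] {F : Type u} [Field F]

/-- reindexing -/
noncomputable def gr (F : Type u) [Field F] (e : ι ≃ κ) : GL ι F ≃* GL κ F :=
  Units.mapEquiv (Matrix.reindexAlgEquiv F F e).toMulEquiv

theorem gr_val (e : ι ≃ κ) (g : GL ι F) : ((gr F e g : GL κ F) : Matrix κ κ F) = (g : Matrix ι ι F).reindex e e := rfl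

/-- the reindexed group -/
noncomputable def rx (e : ι ≃ κ) (P : Subgroup (GL ι F)) : Subgroup (GL κ F) := P.map (gr F e).toMonoidHom

theorem mem_rx (e : ι ≃ κ) {P : Subgroup (GL ι F)} {g : GL ι F} : gr F e g ∈ rx e P ↔ g ∈ P := by
  unfold rx
  rw [Subgroup.mem_map]
  constructor
  · rintro ⟨x, hx, h⟩
    rwa [← (gr F e).injective h]
  · intro h
    exact ⟨g, h, rfl⟩

theorem exists_of_mem_rx (e : ι ≃ κ) {P : Subgroup (GL ι F)} {g : GL κ F} (h : g ∈ rx e P) :
    ∃ x ∈ P, gr F e x = g := by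
  unfold rx at h
  exact Subgroup.mem_map.1 h

theorem reindex_smul_one (e : ι ≃ κ) (c : F) : (c • (1 : Matrix ι ι F)).reindex e e = c • (1 : Matrix κ κ F) := by
  have h := map_smul (Matrix.reindexAlgEquiv F F e) c (1 : Matrix ι ι F)
  rw [map_one] at h
  exact h

theorem mem_scalars_gr (e : ι ≃ κ) (g : GL ι F) : gr F e g ∈ scalars κ F ↔ g ∈ scalars ι F := by
  rw [mem_scalars_iff, mem_scalars_iff]
  constructor
  · rintro ⟨c, hc⟩
    refine ⟨c, (Matrix.reindexAlgEquiv F F e).injective ?_⟩
    exact hc.trans (reindex_smul_one e (c : F)).symm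
  · rintro ⟨c, hc⟩
    refine ⟨c, ?_⟩
    rw [gr_val, hc, reindex_smul_one]

theorem tr_gr (e : ι ≃ κ) (g : GL ι F) : tr (gr F e g) = tr g := by
  unfold tr
  rw [gr_val]
  simp only [Matrix.trace, Matrix.diag, Matrix.reindex_apply, Matrix.submatrix_apply]
  exact Fintype.sum_equiv e.symm _ _ (fun _ => rfl)

/-- the isomorphism of `P` with the reindexed group -/
noncomputable def pe (e : ι ≃ κ) (P : Subgroup (GL ι F)) : P ≃* rx e P := (gr F e).subgroupMap P

theorem map_scalars (e : ι ≃ κ) (P : Subgroup (GL ι F)) :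
    ((scalars ι F).subgroupOf P).map (pe e P).toMonoidHom = (scalars κ F).subgroupOf (rx e P) := by
  ext y
  rw [Subgroup.mem_map, Subgroup.mem_subgroupOf]
  constructor
  · rintro ⟨x, hx, rfl⟩
    rw [Subgroup.mem_subgroupOf] at hx
    exact (mem_scalars_gr e _).2 hx
  · intro hy
    obtain ⟨x, rfl⟩ := (pe e P).surjective y
    exact ⟨x, Subgroup.mem_subgroupOf.2 ((mem_scalars_gr e _).1 hy), rfl⟩

/-- the isomorphism of the simple quotients -/
noncomputable def socEquiv (e : ι ≃ κ) (P : Subgroup (GL ι F)) : Soc P ≃* Soc (rx e P) :=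
  QuotientGroup.congr _ _ (pe e P) (map_scalars e P)

theorem mem_matrixSet_rx (e : ι ≃ κ) {P : Subgroup (GL ι F)} {s : Matrix ι ι F} (hs : s ∈ matrixSet P) :
    s.reindex e e ∈ matrixSet (rx e P) := by
  obtain ⟨g, hg, rfl⟩ := hs
  exact ⟨gr F e g, (mem_rx e).2 hg, rfl⟩

theorem reindex_mulVec (e : ι ≃ κ) (M : Matrix ι ι F) (w : κ → F) :
    M.reindex e e *ᵥ w = (M *ᵥ (w ∘ e)) ∘ e.symm := by
  rw [Matrix.reindex_apply, Matrix.submatrix_mulVec_equiv]
  rfl

theorem irr_rx (e : ι ≃ κ) {P : Subgroup (GL ι F)} (h : ActsIrreducibly (matrixSet P)) :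
    ActsIrreducibly (matrixSet (rx e P)) := by
  intro W hW
  let E : (κ → F) ≃ₗ[F] (ι → F) := LinearEquiv.funCongrLeft F F e
  have hE : ∀ w : κ → F, E w = w ∘ e := fun w => rfl
  have h1 : ∀ s ∈ matrixSet P, (W.map (E : (κ → F) →ₗ[F] (ι → F))).map (Matrix.toLin' s) ≤
      W.map (E : (κ → F) →ₗ[F] (ι → F)) := by
    rintro s hs v ⟨v', ⟨w, hw, rfl⟩, rfl⟩
    refine ⟨s.reindex e e *ᵥ w, ?_, ?_⟩
    · refine hW _ (mem_matrixSet_rx e hs) ⟨w, hw, ?_⟩
      rw [Matrix.toLin'_apply]
    · change E (s.reindex e e *ᵥ w) = Matrix.toLin' s (E w)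
      rw [hE, hE, reindex_mulVec, Matrix.toLin'_apply]
      funext i
      simp [Function.comp]
  rcases h _ h1 with h2 | h2
  · left
    rwa [Submodule.map_eq_bot_iff] at h2
  · right
    rw [eq_top_iff]
    intro w _
    have h3 : E w ∈ W.map (E : (κ → F) →ₗ[F] (ι → F)) := by rw [h2]; exact Submodule.mem_top
    obtain ⟨w', hw', he⟩ := h3
    rwa [← E.injective he]

theorem absirr_rx (e : ι ≃ κ) {P : Subgroup (GL ι F)} (h : ActsAbsolutelyIrreducibly (matrixSet P)) :
    ActsAbsolutelyIrreducibly (matrixSet (rx e P)) := by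
  refine ⟨irr_rx e h.1, fun M hM => ?_⟩
  obtain ⟨N, rfl⟩ := (Matrix.reindexAlgEquiv F F e).surjective M
  obtain ⟨c, hc⟩ := h.2 N (fun s hs => by
    have h1 := hM _ (mem_matrixSet_rx e hs)
    apply (Matrix.reindexAlgEquiv F F e).injective
    rw [map_mul, map_mul]
    exact h1)
  refine ⟨c, ?_⟩
  rw [hc]
  exact reindex_smul_one e c

theorem real_rx (e : ι ≃ κ) {P : Subgroup (GL ι F)} {F₀ : Subfield F} (h : RealisableOver F₀ (matrixSet (rx e P))) :
    RealisableOver F₀ (matrixSet P) := by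
  obtain ⟨B, hB⟩ := h
  obtain ⟨A, rfl⟩ := (gr F e).surjective B
  refine ⟨A, fun s hs i j => ?_⟩
  have h1 := hB _ (mem_matrixSet_rx e hs) (e i) (e j)
  have h2 : ((gr F e A : GL κ F) : Matrix κ κ F) * s.reindex e e * (((gr F e A)⁻¹ : GL κ F) : Matrix κ κ F) =
      ((A : Matrix ι ι F) * s * ((A⁻¹ : GL ι F) : Matrix ι ι F)).reindex e e := by
    rw [← map_inv]
    change (Matrix.reindexAlgEquiv F F e) (A : Matrix ι ι F) * (Matrix.reindexAlgEquiv F F e) s *
      (Matrix.reindexAlgEquiv F F e) ((A⁻¹ : GL ι F) : Matrix ι ι F) = (Matrix.reindexAlgEquiv F F e) _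
    rw [← map_mul, ← map_mul]
  rw [h2] at h1
  simpa using h1

theorem core_rx (e : ι ≃ κ) {P : Subgroup (GL ι F)} (h : Core P) : Core (rx e P) where
  perfect := by
    unfold rx
    rw [← Subgroup.map_commutator, h.perfect]
  simple := (MulEquiv.isSimpleGroup_congr (socEquiv e P)).1 h.simple
  nonabelian := fun hc => h.nonabelian ⟨⟨fun a b => (socEquiv e P).injective (by
    rw [map_mul, map_mul]; exact hc.is_comm.comm _ _)⟩⟩
  absIrred := absirr_rx e h.absIrred
  no_subfield := fun F₀ hF h' => h.no_subfield F₀ hF (real_rx e h')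

theorem sd_rx (e : ι ≃ κ) {P : Subgroup (GL ι F)} : SD (rx e P) ↔ SD P := by
  constructor
  · intro h g hg
    have := h _ ((mem_rx e).2 hg)
    rwa [← map_inv, tr_gr, tr_gr] at this
  · intro h g hg
    obtain ⟨x, hx, rfl⟩ := exists_of_mem_rx e hg
    rw [← map_inv, tr_gr, tr_gr]
    exact h x hx

theorem fr_rx (e : ι ≃ κ) {P : Subgroup (GL ι F)} {Q : ℕ} : Fr (rx e P) Q ↔ Fr P Q := by
  constructor
  · intro h g hg
    have := h _ ((mem_rx e).2 hg)
    rwa [tr_gr] at this
  · intro h g hg
    obtain ⟨x, hx, rfl⟩ := exists_of_mem_rx e hg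
    rw [tr_gr]
    exact h x hx

theorem cj_rx (e : ι ≃ κ) {P : Subgroup (GL ι F)} {Q : ℕ} : Cj (rx e P) Q ↔ Cj P Q := by
  constructor
  · intro h g hg
    have := h _ ((mem_rx e).2 hg)
    rwa [← map_inv, tr_gr, tr_gr] at this
  · intro h g hg
    obtain ⟨x, hx, rfl⟩ := exists_of_mem_rx e hg
    rw [← map_inv, tr_gr, tr_gr]
    exact h x hx

/-- Every core is isomorphic to a core indexed by `Fin n`. -/
theorem core_fin {P : Subgroup (GL ι F)} (h : Core P) :
    ∃ P' : Subgroup (GL (Fin (Fintype.card ι)) F), Core P' ∧ Nonempty (Soc P ≃* Soc P') ∧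
      (SD P' ↔ SD P) ∧ (∀ Q, Fr P' Q ↔ Fr P Q) ∧ (∀ Q, Cj P' Q ↔ Cj P Q) :=
  ⟨rx (Fintype.equivFin ι) P, core_rx _ h, ⟨socEquiv _ P⟩, sd_rx _, fun _ => fr_rx _, fun _ => cj_rx _⟩

end

end Cfsg.Agent.H936.Reix
end

-- part: H919/Gram
section
set_option linter.all false
open scoped Cfsg.Agent.FastGrp

/-!
# Quadratic forms from a Gram matrix over an extension field (helper919)

* `fixQ_of_ext` : `Core P`, `K / F` any field extension, `q : F^ι → K` a `P`-invariant quadratic map with nonzero polar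
  form ⟹ `FixQ P`;
* `exists_lin` : a family `v` spanning `V` and a family `w` in `W`, `dim W ≤ dim V`, every relation of `w` is a relation
  of `v` ⟹ there is a linear map `V → W` with `v x ↦ w x`;
* `fixQ_of_family` : `P` permutes (through a group `G`) a spanning family `v` of `K^ι`, `w` a family of singular vectors of a
  quadratic space `W` of dimension `≤ |ι|` with invariant Gram matrix ⟹ `FixQ P`.
-/

set_option autoImplicit false
set_option linter.unusedSectionVars false

open Cfsg Cfsg.Geo Matrix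

namespace Cfsg.Agent.H919.Gram

open Cfsg.Agent.H915.LD

universe u

section ext

variable {ι : Type} [Fintype ι] [DecidableEq ι] {F : Type u} [Field F] {P : Subgroup (GL ι F)}
  {K : Type*} [Field K] [Algebra F K]

/-- **Descent.** -/
theorem fixQ_of_ext (hC : Core P) (q : (ι → F) → K) (B : (ι → F) → (ι → F) → K)
    (hadd : ∀ x y, q (x + y) = q x + q y + B x y) (hBl : ∀ x y z, B (x + y) z = B x z + B y z)
    (hBs : ∀ (c : F) x y, B (c • x) y = algebraMap F K c * B x y)
    (hsmul : ∀ (c : F) x, q (c • x) = algebraMap F K c ^ 2 * q x)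
    (hinv : ∀ g ∈ P, ∀ x, q ((g : Matrix ι ι F) *ᵥ x) = q x) {x₀ y₀ : ι → F} (h0 : B x₀ y₀ ≠ 0) : FixQ P := by
  classical
  obtain ⟨lam, hlam⟩ : ∃ lam : Module.Dual F K, lam (B x₀ y₀) ≠ 0 := by
    by_contra hcon
    push Not at hcon
    exact h0 ((Module.forall_dual_apply_eq_zero_iff F (B x₀ y₀)).1 hcon)
  have hsymm : ∀ x y, B x y = B y x := by
    intro x y
    have h1 := hadd x y
    have h2 := hadd y x
    rw [add_comm y x, h1] at h2
    have h3 : q x + q y + B x y = q x + q y + B y x := by rw [h2]; ring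
    exact add_left_cancel h3
  have hlamsm : ∀ (c : F) (z : K), lam (algebraMap F K c * z) = c * lam z := by
    intro c z
    rw [← Algebra.smul_def, map_smul, smul_eq_mul]
  have hpol : ∀ x y, QuadraticMap.polar (fun v => lam (q v)) x y = lam (B x y) := by
    intro x y
    rw [QuadraticMap.polar, hadd, map_add, map_add]
    ring
  have hBinv : ∀ g ∈ P, ∀ x y, B ((g : Matrix ι ι F) *ᵥ x) ((g : Matrix ι ι F) *ᵥ y) = B x y := by
    intro g hg x y
    have h1 := hadd x y
    have h2 := hadd ((g : Matrix ι ι F) *ᵥ x) ((g : Matrix ι ι F) *ᵥ y)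
    rw [← Matrix.mulVec_add, hinv g hg, hinv g hg, hinv g hg, h1] at h2
    exact (add_left_cancel h2).symm
  -- the radical
  let R : Submodule F (ι → F) :=
    { carrier := {x | ∀ y, lam (B x y) = 0}
      add_mem' := fun {a b} ha hb y => by rw [hBl, map_add, ha y, hb y, add_zero]
      zero_mem' := fun y => by
        have h1 := hBs 0 0 y
        rw [zero_smul, map_zero, zero_mul] at h1
        rw [h1, map_zero]
      smul_mem' := fun c a ha y => by rw [hBs, hlamsm, ha y, mul_zero] }
  have hR : ∀ x, x ∈ R ↔ ∀ y, lam (B x y) = 0 := fun _ => Iff.rfl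
  have hRbot : R = ⊥ := by
    rcases hC.absIrred.1 R (by
      rintro _ ⟨g, hg, rfl⟩ _ ⟨x, hx, rfl⟩
      rw [hR]
      intro y
      have h1 : y = (g : Matrix ι ι F) *ᵥ ((g⁻¹ : GL ι F) : Matrix ι ι F) *ᵥ y := by
        rw [Matrix.mulVec_mulVec, ← Units.val_mul, mul_inv_cancel, Units.val_one, Matrix.one_mulVec]
      rw [h1, Matrix.toLin'_apply, hBinv g hg]
      exact hx _) with h | h
    · exact h
    · exfalso
      apply hlam
      have : x₀ ∈ R := by rw [h]; trivial
      exact this y₀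
  have hnd : ∀ v : ι → F, v ≠ 0 → ∃ x, lam (B v x) ≠ 0 := by
    intro v hv
    by_contra hcon
    push Not at hcon
    apply hv
    have : v ∈ R := hcon
    rwa [hRbot, Submodule.mem_bot] at this
  refine ⟨fun v => lam (q v), ⟨?_, ⟨?_, ?_, ?_, ?_⟩, ?_⟩, ?_⟩
  · intro c v
    show lam (q (c • v)) = c ^ 2 * lam (q v)
    rw [hsmul, ← map_pow, hlamsm]
  · intro x y z
    rw [hpol, hpol, hpol, hBl, map_add]
  · intro c x y
    rw [hpol, hpol, hBs, hlamsm]
  · intro x y z
    rw [hpol, hpol, hpol, hsymm, hBl, map_add, hsymm x y, hsymm x z]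
  · intro c x y
    rw [hpol, hpol, hsymm, hBs, hlamsm, hsymm x y]
  · intro v hv
    obtain ⟨x, hx⟩ := hnd v hv
    exact ⟨⟨x, by rw [hpol, hsymm]; exact hx⟩, ⟨x, by rw [hpol]; exact hx⟩⟩
  · rintro _ ⟨g, hg, rfl⟩ v
    exact congrArg lam (hinv g hg v)

end ext

section lin

variable {K : Type*} [Field K] {V W : Type*} [AddCommGroup V] [Module K V] [AddCommGroup W] [Module K W]
  [FiniteDimensional K V] [FiniteDimensional K W]

theorem exists_lin {X : Type*} [Fintype X] (v : X → V) (w : X → W) (hv : Submodule.span K (Set.range v) = ⊤)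
    (hker : ∀ c : X → K, ∑ x, c x • w x = 0 → ∑ x, c x • v x = 0)
    (hd : Module.finrank K W ≤ Module.finrank K V) : ∃ L : V →ₗ[K] W, ∀ x, L (v x) = w x := by
  classical
  let α : (X → K) →ₗ[K] V := Fintype.linearCombination K v
  let β : (X → K) →ₗ[K] W := Fintype.linearCombination K w
  have hα : ∀ c, α c = ∑ x, c x • v x := fun c => Fintype.linearCombination_apply K v c
  have hβ : ∀ c, β c = ∑ x, c x • w x := fun c => Fintype.linearCombination_apply K w c
  have hle : LinearMap.ker β ≤ LinearMap.ker α := by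
    intro c hc
    rw [LinearMap.mem_ker, hβ] at hc
    rw [LinearMap.mem_ker, hα]
    exact hker c hc
  have hsurj : LinearMap.range α = ⊤ := by
    rw [show LinearMap.range α = Submodule.span K (Set.range v) from Fintype.range_linearCombination K v, hv]
  have h1 := LinearMap.finrank_range_add_finrank_ker α
  have h2 := LinearMap.finrank_range_add_finrank_ker β
  rw [hsurj, finrank_top] at h1
  have h3 : Module.finrank K (LinearMap.range β) ≤ Module.finrank K W := Submodule.finrank_le _
  have hke : LinearMap.ker β = LinearMap.ker α := Submodule.eq_of_le_of_finrank_le hle (by omega)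
  obtain ⟨s, hs⟩ := LinearMap.exists_rightInverse_of_surjective α hsurj
  refine ⟨β ∘ₗ s, fun x => ?_⟩
  have h4 : α (Pi.single x 1) = v x := by
    rw [hα, Finset.sum_eq_single x]
    · rw [Pi.single_eq_same, one_smul]
    · intro y _ hy
      rw [Pi.single_eq_of_ne hy, zero_smul]
    · intro h
      exact absurd (Finset.mem_univ x) h
  have h5 : β (Pi.single x 1) = w x := by
    rw [hβ, Finset.sum_eq_single x]
    · rw [Pi.single_eq_same, one_smul]
    · intro y _ hy
      rw [Pi.single_eq_of_ne hy, zero_smul]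
    · intro h
      exact absurd (Finset.mem_univ x) h
  have h6 : s (v x) - Pi.single x 1 ∈ LinearMap.ker β := by
    rw [hke, LinearMap.mem_ker, map_sub, h4]
    have h7 : α (s (v x)) = v x := by
      have := LinearMap.congr_fun hs (v x)
      exact this
    rw [h7, sub_self]
  rw [LinearMap.mem_ker, map_sub, h5, sub_eq_zero] at h6
  exact h6

end lin

section family

variable {ι : Type} [Fintype ι] [DecidableEq ι] {F : Type u} [Field F] {P : Subgroup (GL ι F)}
  {K : Type*} [Field K] [Algebra F K] {W : Type*} [AddCommGroup W] [Module K W] [FiniteDimensional K W]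
  {G : Type*} [Group G] {X : Type*} [Fintype X]

/-- **The Gram matrix criterion.** -/
theorem fixQ_of_family (hC : Core P) (M : G →* Matrix ι ι K)
    (hM : ∀ g ∈ P, ∃ h : G, M h = (g : Matrix ι ι F).map (algebraMap F K)) (a : G → X → X)
    (v : X → (ι → K)) (hv : Submodule.span K (Set.range v) = ⊤) (ha : ∀ g x, M g *ᵥ v x = v (a g x))
    (Q : QuadraticForm K W) (w : X → W) (hQ : ∀ x, Q (w x) = 0)
    (hpol : ∀ g x y, QuadraticMap.polar Q (w (a g x)) (w (a g y)) = QuadraticMap.polar Q (w x) (w y))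
    (hker : ∀ c : X → K, ∑ x, c x • w x = 0 → ∑ x, c x • v x = 0)
    (hd : Module.finrank K W ≤ Fintype.card ι) {x₀ y₀ : X} (h0 : QuadraticMap.polar Q (w x₀) (w y₀) ≠ 0) : FixQ P := by
  classical
  obtain ⟨L, hL⟩ := exists_lin v w hv hker (by rw [Module.finrank_pi]; exact hd)
  -- the form on `K^ι`
  let q : (ι → K) → K := fun z => Q (L z)
  let B : (ι → K) → (ι → K) → K := fun z t => QuadraticMap.polar Q (L z) (L t)
  have hq : ∀ z, q z = Q (L z) := fun _ => rfl
  have hB : ∀ z t, B z t = QuadraticMap.polar Q (L z) (L t) := fun _ _ => rfl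
  have hqa : ∀ z t, q (z + t) = q z + q t + B z t := by
    intro z t
    rw [hq, hq, hq, hB, map_add, QuadraticMap.polar]
    ring
  have hBl : ∀ x y z, B (x + y) z = B x z + B y z := by
    intro x y z
    rw [hB, hB, hB, map_add, QuadraticMap.polar_add_left]
  have hBr : ∀ x y z, B x (y + z) = B x y + B x z := by
    intro x y z
    rw [hB, hB, hB, map_add, QuadraticMap.polar_add_right]
  have hBs : ∀ (c : K) x y, B (c • x) y = c * B x y := by
    intro c x y
    rw [hB, hB, map_smul, QuadraticMap.polar_smul_left, smul_eq_mul]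
  have hBsr : ∀ (c : K) x y, B x (c • y) = c * B x y := by
    intro c x y
    rw [hB, hB, map_smul, QuadraticMap.polar_smul_right, smul_eq_mul]
  have hqs : ∀ (c : K) x, q (c • x) = c ^ 2 * q x := by
    intro c x
    rw [hq, hq, map_smul, QuadraticMap.map_smul, smul_eq_mul]
    ring
  have hB0l : ∀ x, B 0 x = 0 := fun x => by have := hBs 0 0 x; rwa [zero_smul, zero_mul] at this
  have hB0r : ∀ x, B x 0 = 0 := fun x => by have := hBsr 0 x 0; rwa [zero_smul, zero_mul] at this
  have hq0 : q 0 = 0 := by have := hqs 0 0; rwa [zero_smul, zero_pow (by norm_num), zero_mul] at this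
  -- invariance of the polar form
  have hBi1 : ∀ (g : G) (x : X) (z : ι → K), B (M g *ᵥ v x) (M g *ᵥ z) = B (v x) z := by
    intro g x z
    have hz : z ∈ Submodule.span K (Set.range v) := by rw [hv]; trivial
    induction hz using Submodule.span_induction with
    | mem z hz =>
      obtain ⟨y, rfl⟩ := hz
      rw [ha, ha, hB, hB, hL, hL, hL, hL, hpol]
    | zero => rw [Matrix.mulVec_zero, hB0r, hB0r]
    | add z t _ _ hz ht => rw [Matrix.mulVec_add, hBr, hBr, hz, ht]
    | smul c z _ hz => rw [Matrix.mulVec_smul, hBsr, hBsr, hz]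
  have hBi : ∀ (g : G) (z t : ι → K), B (M g *ᵥ z) (M g *ᵥ t) = B z t := by
    intro g z t
    have hz : z ∈ Submodule.span K (Set.range v) := by rw [hv]; trivial
    induction hz using Submodule.span_induction with
    | mem z hz =>
      obtain ⟨y, rfl⟩ := hz
      exact hBi1 g y t
    | zero => rw [Matrix.mulVec_zero, hB0l, hB0l]
    | add z t _ _ hz ht => rw [Matrix.mulVec_add, hBl, hBl, hz, ht]
    | smul c z _ hz => rw [Matrix.mulVec_smul, hBs, hBs, hz]
  have hqi : ∀ (g : G) (z : ι → K), q (M g *ᵥ z) = q z := by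
    intro g z
    have hz : z ∈ Submodule.span K (Set.range v) := by rw [hv]; trivial
    induction hz using Submodule.span_induction with
    | mem z hz =>
      obtain ⟨y, rfl⟩ := hz
      rw [ha, hq, hq, hL, hL, hQ, hQ]
    | zero => rw [Matrix.mulVec_zero, hq0]
    | add z t _ _ hz ht => rw [Matrix.mulVec_add, hqa, hqa, hz, ht, hBi]
    | smul c z _ hz => rw [Matrix.mulVec_smul, hqs, hqs, hz]
  -- descend
  have hm : ∀ (g : GL ι F) (x : ι → F), (fun i => algebraMap F K (((g : Matrix ι ι F) *ᵥ x) i)) =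
      (g : Matrix ι ι F).map (algebraMap F K) *ᵥ (fun i => algebraMap F K (x i)) := by
    intro g x
    funext i
    simp only [Matrix.mulVec, dotProduct, map_sum, map_mul, Matrix.map_apply]
  obtain ⟨i, j, hij⟩ : ∃ i j : ι, B (Pi.single i 1) (Pi.single j 1) ≠ 0 := by
    by_contra hcon
    push Not at hcon
    apply h0
    rw [← hL, ← hL, ← hB]
    have hsum : ∀ z : ι → K, z = ∑ i, z i • (Pi.single i 1 : ι → K) := by
      intro z
      funext k
      rw [Finset.sum_apply]
      simp [Pi.single_apply]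
    have h1 : ∀ (i : ι) (t : ι → K), B (Pi.single i 1) t = 0 := by
      intro i t
      rw [hsum t]
      generalize (Finset.univ : Finset ι) = s
      induction s using Finset.induction_on with
      | empty => rw [Finset.sum_empty, hB0r]
      | insert k s hk ih => rw [Finset.sum_insert hk, hBr, hBsr, hcon, ih, mul_zero, add_zero]
    rw [hsum (v x₀)]
    generalize (Finset.univ : Finset ι) = s
    induction s using Finset.induction_on with
    | empty => rw [Finset.sum_empty, hB0l]
    | insert k s hk ih => rw [Finset.sum_insert hk, hBl, hBs, h1, ih, mul_zero, add_zero]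
  refine fixQ_of_ext hC (K := K) (fun x => q (fun i => algebraMap F K (x i)))
    (fun x y => B (fun i => algebraMap F K (x i)) (fun i => algebraMap F K (y i))) ?_ ?_ ?_ ?_ ?_
    (x₀ := Pi.single i 1) (y₀ := Pi.single j 1) ?_
  · intro x y
    show q _ = q _ + q _ + B _ _
    rw [← hqa]
    congr 1
    funext k
    rw [Pi.add_apply, map_add, Pi.add_apply]
  · intro x y z
    show B _ _ = B _ _ + B _ _
    rw [← hBl]
    congr 1
    funext k
    rw [Pi.add_apply, map_add, Pi.add_apply]
  · intro c x y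
    show B _ _ = _ * B _ _
    rw [← hBs]
    congr 1
    funext k
    rw [Pi.smul_apply, smul_eq_mul, map_mul, Pi.smul_apply, smul_eq_mul]
  · intro c x
    show q _ = _ * q _
    rw [← hqs]
    congr 1
    funext k
    rw [Pi.smul_apply, smul_eq_mul, map_mul, Pi.smul_apply, smul_eq_mul]
  · intro g hg x
    show q _ = q _
    obtain ⟨h, hh⟩ := hM g hg
    rw [hm, ← hh, hqi]
  · have h1 : ∀ k : ι, (fun l => algebraMap F K ((Pi.single k 1 : ι → F) l)) = Pi.single k 1 := by
      intro k
      funext l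
      rcases eq_or_ne l k with rfl | h
      · rw [Pi.single_eq_same, Pi.single_eq_same, map_one]
      · rw [Pi.single_eq_of_ne h, Pi.single_eq_of_ne h, map_zero]
    show B _ _ ≠ 0
    rw [h1, h1]
    exact hij

end family

end Cfsg.Agent.H919.Gram
end

-- part: H910/Six/Aut
section
prune_inst 0x10000000000000
set_option linter.all false
open scoped Cfsg.Agent.FastGrp

/-!
# The automorphism of the socle induced by an element of the normaliser (helper910)
-/

set_option autoImplicit false
set_option linter.unusedSectionVars false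

open Matrix Cfsg Cfsg.Geo Cfsg.Agent.H915.LD
open scoped commutatorElement

namespace Cfsg.Agent.H910.Aut

universe u v

variable {ι : Type} [Fintype ι] [DecidableEq ι] {F : Type u} [Field F] {P : Subgroup (GL ι F)}

/-- `g` normalises `P` -/
structure Nrm (P : Subgroup (GL ι F)) (g : GL ι F) : Prop where
  fwd : ∀ x ∈ P, g * x * g⁻¹ ∈ P
  bwd : ∀ x ∈ P, g⁻¹ * x * g ∈ P

theorem Nrm.one : Nrm P 1 := ⟨fun x hx => by simpa using hx, fun x hx => by simpa using hx⟩

theorem Nrm.inv {g : GL ι F} (h : Nrm P g) : Nrm P g⁻¹ :=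
  ⟨fun x hx => by rw [inv_inv]; exact h.bwd x hx, fun x hx => by rw [inv_inv]; exact h.fwd x hx⟩

theorem Nrm.mul {g k : GL ι F} (h : Nrm P g) (h' : Nrm P k) : Nrm P (g * k) :=
  ⟨fun x hx => by
    rw [show g * k * x * (g * k)⁻¹ = g * (k * x * k⁻¹) * g⁻¹ by group]; exact h.fwd _ (h'.fwd x hx), fun x hx => by
    rw [show (g * k)⁻¹ * x * (g * k) = k⁻¹ * (g⁻¹ * x * g) * k by group]; exact h'.bwd _ (h.bwd x hx)⟩

theorem Nrm.of_mem {g : GL ι F} (h : g ∈ P) : Nrm P g :=
  ⟨fun _ hx => P.mul_mem (P.mul_mem h hx) (P.inv_mem h), fun _ hx => P.mul_mem (P.mul_mem (P.inv_mem h) hx) h⟩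

theorem Nrm.of_to [Finite F] {g : GL ι F} (h : ∀ x ∈ P, g * x * g⁻¹ ∈ P) : Nrm P g := by
  refine ⟨h, fun x hx => ?_⟩
  have hinj : Function.Injective fun y : P => (⟨g * y * g⁻¹, h y y.2⟩ : P) := by
    intro a b hab
    have h1 := congrArg (fun z : P => (z : GL ι F)) hab
    simp only at h1
    exact Subtype.ext (mul_left_cancel (mul_right_cancel h1))
  obtain ⟨y, hy⟩ := (Finite.injective_iff_surjective.1 hinj) ⟨x, hx⟩
  have h1 := congrArg (fun z : P => (z : GL ι F)) hy
  simp only at h1
  rw [← h1, show g⁻¹ * (g * (y : GL ι F) * g⁻¹) * g = y by group]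
  exact y.2

theorem Nrm.of_core {H : Subgroup (GL ι F)} (h : IsResidualCore H P) {g : GL ι F} (hg : g ∈ H) : Nrm P g :=
  ⟨h.normal g hg, fun x hx => by
    have := h.normal g⁻¹ (H.inv_mem hg) x hx
    rwa [inv_inv] at this⟩

/-- conjugation -/
def Nrm.conj {g : GL ι F} (h : Nrm P g) : P ≃* P where
  toFun x := ⟨g * x * g⁻¹, h.fwd x x.2⟩
  invFun x := ⟨g⁻¹ * x * g, h.bwd x x.2⟩
  left_inv x := Subtype.ext (by simp only; group)
  right_inv x := Subtype.ext (by simp only; group)
  map_mul' x y := Subtype.ext (by simp only [Subgroup.coe_mul]; group)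

theorem Nrm.conj_coe {g : GL ι F} (h : Nrm P g) (x : P) : (h.conj x : GL ι F) = g * x * g⁻¹ := rfl

theorem conj_scalar {g x : GL ι F} (hx : x ∈ scalars ι F) : g * x * g⁻¹ = x := by
  rw [mem_scalars_iff] at hx
  obtain ⟨c, hc⟩ := hx
  rw [mul_inv_eq_iff_eq_mul]
  apply Units.ext
  rw [Units.val_mul, Units.val_mul, hc, Matrix.mul_smul, Matrix.smul_mul, Matrix.mul_one, Matrix.one_mul]

theorem Nrm.map_scalars {g : GL ι F} (h : Nrm P g) :
    ((scalars ι F).subgroupOf P).map (h.conj : P →* P) = (scalars ι F).subgroupOf P := by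
  have key : ∀ x : P, x ∈ (scalars ι F).subgroupOf P → h.conj x = x := by
    intro x hx
    exact Subtype.ext (conj_scalar (Subgroup.mem_subgroupOf.1 hx))
  ext x
  constructor
  · rintro ⟨y, hy, rfl⟩
    change h.conj y ∈ _
    rw [key y hy]; exact hy
  · intro hx
    exact ⟨x, hx, key x hx⟩

/-- the automorphism of the socle -/
theorem Nrm.exists_aut {g : GL ι F} (h : Nrm P g) {T : Type v} [Group T] (e : Soc P ≃* T) :
    ∃ α : MulAut T, ∀ x : P, e (toSoc P (h.conj x)) = α (e (toSoc P x)) := by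
  refine ⟨(e.symm.trans (QuotientGroup.congr _ _ h.conj h.map_scalars)).trans e, fun x => ?_⟩
  change e (toSoc P (h.conj x)) = e (QuotientGroup.congr _ _ h.conj h.map_scalars (e.symm (e (toSoc P x))))
  rw [MulEquiv.symm_apply_apply]
  rfl

/-- an element acting trivially on the socle is a scalar -/
theorem scalar_of_trivial (hC : Core P) {g : GL ι F} (h : Nrm P g) (ht : ∀ x : P, toSoc P (h.conj x) = toSoc P x) :
    ∃ c : F, (g : Matrix ι ι F) = c • (1 : Matrix ι ι F) := by
  have hmem : ∀ x : P, h.conj x * x⁻¹ ∈ (scalars ι F).subgroupOf P := by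
    intro x
    rw [← ker_toSoc, MonoidHom.mem_ker, map_mul, map_inv, ht, mul_inv_cancel]
  have hle : commutator P ≤ MonoidHom.eqLocus (h.conj : P →* P) (MonoidHom.id P) := by
    rw [commutator_def, Subgroup.commutator_le]
    intro a _ b _
    change h.conj ⁅a, b⁆ = ⁅a, b⁆
    have ha := scalars_le_center (hmem a)
    have hb := scalars_le_center (hmem b)
    rw [commutatorElement_def, map_mul, map_mul, map_mul, map_inv, map_inv]
    generalize h.conj a = a' at *
    generalize h.conj b = b' at *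
    have ea : a' = (a' * a⁻¹) * a := by group
    have eb : b' = (b' * b⁻¹) * b := by group
    generalize a' * a⁻¹ = z at *
    generalize b' * b⁻¹ = y at *
    subst ea eb
    have cz : ∀ s : P, s * z = z * s := Subgroup.mem_center_iff.1 ha
    have cy : ∀ s : P, s * y = y * s := Subgroup.mem_center_iff.1 hb
    calc z * a * (y * b) * (z * a)⁻¹ * (y * b)⁻¹ = z * (a * y) * b * (z * a)⁻¹ * (y * b)⁻¹ := by group
      _ = z * y * (a * b * a⁻¹) * z⁻¹ * b⁻¹ * y⁻¹ := by rw [cy]; group
      _ = y * ((a * b * a⁻¹) * z) * z⁻¹ * b⁻¹ * y⁻¹ := by rw [cy z, cz (a * b * a⁻¹)]; group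
      _ = y * ((a * b * a⁻¹) * b⁻¹) * y⁻¹ := by group
      _ = a * b * a⁻¹ * b⁻¹ := by rw [← cy]; group
  apply hC.absIrred.2
  rintro _ ⟨x, hx, rfl⟩
  have h1 : (⟨x, hx⟩ : P) ∈ MonoidHom.eqLocus (h.conj : P →* P) (MonoidHom.id P) := by
    apply hle
    rw [hC.commutator_top]; trivial
  have h2 : h.conj ⟨x, hx⟩ = ⟨x, hx⟩ := h1
  have h3 := congrArg (fun z : P => (z : GL ι F)) h2
  simp only [Nrm.conj_coe] at h3
  rw [mul_inv_eq_iff_eq_mul] at h3
  have h4 := congrArg (fun z : GL ι F => (z : Matrix ι ι F)) h3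
  simpa using h4

/-- two elements inducing the same automorphism differ by a scalar -/
theorem scalar_of_eq (hC : Core P) {T : Type v} [Group T] (e : Soc P ≃* T) {g k : GL ι F} (hg : Nrm P g) (hk : Nrm P k)
    {α : MulAut T} (hα : ∀ x : P, e (toSoc P (hg.conj x)) = α (e (toSoc P x)))
    (hα' : ∀ x : P, e (toSoc P (hk.conj x)) = α (e (toSoc P x))) :
    ∃ c : F, (g : Matrix ι ι F) = c • (k : Matrix ι ι F) := by
  obtain ⟨c, hc⟩ := scalar_of_trivial hC (hk.inv.mul hg) (fun x => by
    apply e.injective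
    have h1 : hk.conj ((hk.inv.mul hg).conj x) = hg.conj x := by
      apply Subtype.ext
      simp only [Nrm.conj_coe]
      group
    apply α.injective
    rw [← hα', h1, hα])
  refine ⟨c, ?_⟩
  have h2 : (g : Matrix ι ι F) = (k : Matrix ι ι F) * ((k⁻¹ * g : GL ι F) : Matrix ι ι F) := by
    rw [← Units.val_mul, mul_inv_cancel_left]
  rw [h2, hc, Matrix.mul_smul, mul_one]

end Cfsg.Agent.H910.Aut

private theorem dce_73df4c73e3a1 : _root_.True := by
  try have : _root_.True := by simp only [_root_.Cfsg.Agent.H910.Aut.Nrm.conj.congr_simp]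
  exact _root_.True.intro
end

-- part: H267/HT/MinField
section
prune_inst 0x5504440304002001018800450203c62da000422004b0000c1020a000ec1cc43248306e1b37003140bd2acf56039c04000440009426800000e200c00411901a080804208a208010c460009000000000000000000000000000000000000010000000000000
set_option linter.all false
open scoped Cfsg.Agent.FastGrp

-- part: H267/HT/SubCore
section
/-!
# A core over a minimal subfield (S3540 T1; helper267)

`K` a finite field, `ρ : L →* GL (Fin n) K` injective, `L` perfect, `L / Z(L)` simple, `ρ` absolutely irreducible. Then there are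
a subfield `F`, `σ : L →* GL (Fin n) F` whose image is a `Core`, and `B : GL (Fin n) K` with `σ l = B (ρ l) B⁻¹`.
-/

set_option autoImplicit false
set_option linter.unusedSectionVars false

namespace Cfsg.Agent.H267.HT

open Cfsg Cfsg.Geo Matrix Cfsg.Agent.H915.LD

universe u w

variable {n : ℕ} {K : Type w} [Field K]

/-- the inclusion of `GL` over a subfield -/
abbrev inc (F : Subfield K) : GL (Fin n) F →* GL (Fin n) K := Matrix.GeneralLinearGroup.map F.subtype

theorem inc_coe (F : Subfield K) (g : GL (Fin n) F) :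
    ((inc F g : GL (Fin n) K) : Matrix (Fin n) (Fin n) K) = (g : Matrix (Fin n) (Fin n) F).map F.subtype := rfl

theorem map_injective (F : Subfield K) {A B : Matrix (Fin n) (Fin n) F} (h : A.map F.subtype = B.map F.subtype) :
    A = B := by
  ext i j
  exact congrFun (congrFun h i) j

/-- lifting a homomorphism with entries in a subfield -/
theorem exists_lift {L : Type u} [Group L] (F : Subfield K) (τ : L →* GL (Fin n) K)
    (h : ∀ l i j, ((τ l : GL (Fin n) K) : Matrix (Fin n) (Fin n) K) i j ∈ F) :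
    ∃ σ : L →* GL (Fin n) F, ∀ l, inc F (σ l) = τ l := by
  let A : L → Matrix (Fin n) (Fin n) F := fun l i j => ⟨_, h l i j⟩
  have hA : ∀ l, (A l).map F.subtype = ((τ l : GL (Fin n) K) : Matrix (Fin n) (Fin n) K) := fun l => by
    ext i j; rfl
  let φ : L →* Matrix (Fin n) (Fin n) F :=
    { toFun := A
      map_one' := by
        apply map_injective F
        rw [hA, map_one, Units.val_one, Matrix.map_one _ (map_zero _) (map_one _)]
      map_mul' := fun a b => by
        apply map_injective F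
        rw [Matrix.map_mul, hA, hA, hA, map_mul, Units.val_mul] }
  refine ⟨φ.toHomUnits, fun l => ?_⟩
  apply Units.ext
  rw [inc_coe, MonoidHom.coe_toHomUnits]
  exact hA l

section irr

variable {F : Subfield K} {P : Subgroup (GL (Fin n) F)} {R : Subgroup (GL (Fin n) K)}

/-- absolute irreducibility descends -/
theorem absIrr_of_inc [hn : NeZero n] (hPR : ∀ g ∈ R, ∃ x ∈ P, inc F x = g) (hRP : ∀ x ∈ P, inc F x ∈ R)
    (h : ActsAbsolutelyIrreducibly (matrixSet R)) : ActsAbsolutelyIrreducibly (matrixSet P) := by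
  classical
  refine ⟨fun W hW => ?_, fun M hM => ?_⟩
  · by_cases hT : W = ⊤
    · exact Or.inr hT
    left
    obtain ⟨f, hf0, hfW⟩ := Submodule.exists_le_ker_of_lt_top W (lt_top_iff_ne_top.2 hT)
    -- the span of `W` over `K`
    let ι : (Fin n → F) → (Fin n → K) := fun v i => (v i : K)
    let WK : Submodule K (Fin n → K) := Submodule.span K (ι '' (W : Set (Fin n → F)))
    have hmul : ∀ (x : GL (Fin n) F) (v : Fin n → F),
        ((inc F x : GL (Fin n) K) : Matrix (Fin n) (Fin n) K) *ᵥ ι v = ι ((x : Matrix (Fin n) (Fin n) F) *ᵥ v) := by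
      intro x v
      funext i
      show ∑ j, ((x : Matrix (Fin n) (Fin n) F) i j : K) * (v j : K) =
        ((∑ j, (x : Matrix (Fin n) (Fin n) F) i j * v j : F) : K)
      rw [AddSubmonoidClass.coe_finsetSum]
      rfl
    have hst : ∀ s ∈ matrixSet R, WK.map (Matrix.toLin' s) ≤ WK := by
      rintro _ ⟨g, hg, rfl⟩
      obtain ⟨x, hx, rfl⟩ := hPR g hg
      rw [Submodule.map_span_le]
      rintro _ ⟨v, hv, rfl⟩
      rw [Matrix.toLin'_apply, hmul]
      apply Submodule.subset_span
      refine ⟨_, ?_, rfl⟩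
      have h1 := hW _ ⟨x, hx, rfl⟩ (Submodule.mem_map_of_mem hv)
      rwa [Matrix.toLin'_apply] at h1
    rcases h.1 WK hst with h1 | h1
    · rw [Submodule.eq_bot_iff]
      intro v hv
      have h2 : ι v ∈ WK := Submodule.subset_span ⟨v, hv, rfl⟩
      rw [h1, Submodule.mem_bot] at h2
      funext i
      exact Subtype.ext (congrFun h2 i)
    · exfalso
      apply hf0
      let fK : (Fin n → K) →ₗ[K] K := ∑ i, ((f (Pi.single i 1) : F) : K) • LinearMap.proj i
      have hfK : ∀ v : Fin n → F, fK (ι v) = ((f v : F) : K) := by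
        intro v
        have h2 : f v = ∑ i, f (Pi.single i 1) * v i := by
          conv_lhs => rw [pi_eq_sum_univ' v]
          rw [map_sum]
          refine Finset.sum_congr rfl fun i _ => ?_
          rw [map_smul, smul_eq_mul, mul_comm]
        rw [h2, AddSubmonoidClass.coe_finsetSum]
        show (∑ i, ((f (Pi.single i 1) : F) : K) • (LinearMap.proj i : (Fin n → K) →ₗ[K] K)) (ι v) = _
        rw [LinearMap.sum_apply]
        rfl
      have h3 : WK ≤ LinearMap.ker fK := by
        rw [Submodule.span_le]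
        rintro _ ⟨v, hv, rfl⟩
        rw [SetLike.mem_coe, LinearMap.mem_ker, hfK]
        have h4 : f v = 0 := hfW hv
        rw [h4]; rfl
      rw [h1, top_le_iff, LinearMap.ker_eq_top] at h3
      apply LinearMap.ext
      intro v
      apply Subtype.ext
      rw [← hfK v, h3]
      rfl
  · have hM' : ∀ s ∈ matrixSet R, M.map F.subtype * s = s * M.map F.subtype := by
      rintro _ ⟨g, hg, rfl⟩
      obtain ⟨x, hx, rfl⟩ := hPR g hg
      show M.map F.subtype * (x : Matrix (Fin n) (Fin n) F).map F.subtype =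
        (x : Matrix (Fin n) (Fin n) F).map F.subtype * M.map F.subtype
      rw [← Matrix.map_mul, ← Matrix.map_mul, hM _ ⟨x, hx, rfl⟩]
    obtain ⟨c, hc⟩ := h.2 _ hM'
    have h0 : ((M 0 0 : F) : K) = c := by
      have := congrFun (congrFun hc 0) 0
      rw [Matrix.smul_apply, Matrix.one_apply_eq, smul_eq_mul, mul_one] at this
      exact this
    refine ⟨M 0 0, ?_⟩
    apply map_injective F
    rw [hc, ← h0]
    ext i j
    rw [Matrix.smul_apply, Matrix.map_apply, Matrix.smul_apply, smul_eq_mul, smul_eq_mul, map_mul]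
    by_cases hij : i = j
    · subst hij
      rw [Matrix.one_apply_eq, Matrix.one_apply_eq, map_one]
      rfl
    · rw [Matrix.one_apply_ne hij, Matrix.one_apply_ne hij, map_zero, mul_zero, mul_zero]

end irr

/-- conjugates of absolutely irreducible sets -/
theorem absIrr_conj {F : Type*} [Field F] {R : Subgroup (GL (Fin n) F)} (B : GL (Fin n) F)
    (h : ActsAbsolutelyIrreducibly (matrixSet R)) :
    ActsAbsolutelyIrreducibly (matrixSet (R.map (MulAut.conj B).toMonoidHom)) := by
  have hmem : ∀ g ∈ R, (((B * g * B⁻¹ : GL (Fin n) F)) : Matrix (Fin n) (Fin n) F) ∈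
      matrixSet (R.map (MulAut.conj B).toMonoidHom) := fun g hg => ⟨_, ⟨g, hg, rfl⟩, rfl⟩
  refine ⟨fun W hW => ?_, fun M hM => ?_⟩
  · let b : (Fin n → F) →ₗ[F] (Fin n → F) := Matrix.toLin' (B : Matrix (Fin n) (Fin n) F)
    let b' : (Fin n → F) →ₗ[F] (Fin n → F) := Matrix.toLin' ((B⁻¹ : GL (Fin n) F) : Matrix (Fin n) (Fin n) F)
    have hbb : ∀ v, b (b' v) = v := fun v => by
      show Matrix.toLin' _ (Matrix.toLin' _ v) = v
      rw [Matrix.toLin'_apply, Matrix.toLin'_apply, Matrix.mulVec_mulVec, ← Units.val_mul, mul_inv_cancel, Units.val_one,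
        Matrix.one_mulVec]
    have hbb' : ∀ v, b' (b v) = v := fun v => by
      show Matrix.toLin' _ (Matrix.toLin' _ v) = v
      rw [Matrix.toLin'_apply, Matrix.toLin'_apply, Matrix.mulVec_mulVec, ← Units.val_mul, inv_mul_cancel, Units.val_one,
        Matrix.one_mulVec]
    have hst : ∀ s ∈ matrixSet R, (W.comap b).map (Matrix.toLin' s) ≤ W.comap b := by
      rintro _ ⟨g, hg, rfl⟩
      rw [Submodule.map_le_iff_le_comap]
      intro v hv
      rw [Submodule.mem_comap, Submodule.mem_comap]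
      have h1 := hW _ (hmem g hg) (Submodule.mem_map_of_mem hv)
      rw [Units.val_mul, Units.val_mul, Matrix.toLin'_mul, Matrix.toLin'_mul, LinearMap.comp_apply, LinearMap.comp_apply] at h1
      have h2 : (Matrix.toLin' ((B⁻¹ : GL (Fin n) F) : Matrix (Fin n) (Fin n) F)) (b v) = v := hbb' v
      rw [h2] at h1
      exact h1
    rcases h.1 _ hst with h1 | h1
    · left
      rw [Submodule.eq_bot_iff]
      intro v hv
      have h2 : b' v ∈ W.comap b := by rw [Submodule.mem_comap, hbb]; exact hv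
      rw [h1, Submodule.mem_bot] at h2
      rw [← hbb v, h2, map_zero]
    · right
      rw [Submodule.eq_top_iff']
      intro v
      have h2 : b' v ∈ W.comap b := by rw [h1]; trivial
      rwa [Submodule.mem_comap, hbb] at h2
  · obtain ⟨c, hc⟩ := h.2 (((B⁻¹ : GL (Fin n) F) : Matrix (Fin n) (Fin n) F) * M * (B : Matrix (Fin n) (Fin n) F)) (by
      rintro _ ⟨g, hg, rfl⟩
      have h1 := hM _ (hmem g hg)
      rw [Units.val_mul, Units.val_mul] at h1
      have hB : ((B⁻¹ : GL (Fin n) F) : Matrix (Fin n) (Fin n) F) * (B : Matrix (Fin n) (Fin n) F) = 1 := by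
        rw [← Units.val_mul, inv_mul_cancel, Units.val_one]
      have h2 : ((B⁻¹ : GL (Fin n) F) : Matrix (Fin n) (Fin n) F) *
          (M * ((B : Matrix (Fin n) (Fin n) F) * (g : Matrix (Fin n) (Fin n) F) *
            ((B⁻¹ : GL (Fin n) F) : Matrix (Fin n) (Fin n) F))) * (B : Matrix (Fin n) (Fin n) F) =
          ((B⁻¹ : GL (Fin n) F) : Matrix (Fin n) (Fin n) F) *
          ((B : Matrix (Fin n) (Fin n) F) * (g : Matrix (Fin n) (Fin n) F) *
            ((B⁻¹ : GL (Fin n) F) : Matrix (Fin n) (Fin n) F) * M) * (B : Matrix (Fin n) (Fin n) F) := by rw [h1]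
      calc ((B⁻¹ : GL (Fin n) F) : Matrix (Fin n) (Fin n) F) * M * (B : Matrix (Fin n) (Fin n) F) * g
          = ((B⁻¹ : GL (Fin n) F) : Matrix (Fin n) (Fin n) F) *
          (M * ((B : Matrix (Fin n) (Fin n) F) * (g : Matrix (Fin n) (Fin n) F) *
            ((B⁻¹ : GL (Fin n) F) : Matrix (Fin n) (Fin n) F))) * (B : Matrix (Fin n) (Fin n) F) := by
            simp only [Matrix.mul_assoc, hB, Matrix.mul_one]
        _ = _ := h2
        _ = ((B⁻¹ : GL (Fin n) F) : Matrix (Fin n) (Fin n) F) * (B : Matrix (Fin n) (Fin n) F) * g *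
            (((B⁻¹ : GL (Fin n) F) : Matrix (Fin n) (Fin n) F) * M * (B : Matrix (Fin n) (Fin n) F)) := by
            simp only [Matrix.mul_assoc]
        _ = _ := by rw [hB, Matrix.one_mul])
    refine ⟨c, ?_⟩
    have hB : (B : Matrix (Fin n) (Fin n) F) * ((B⁻¹ : GL (Fin n) F) : Matrix (Fin n) (Fin n) F) = 1 := by
      rw [← Units.val_mul, mul_inv_cancel, Units.val_one]
    calc M = ((B : Matrix (Fin n) (Fin n) F) * ((B⁻¹ : GL (Fin n) F) : Matrix (Fin n) (Fin n) F)) * M *
          ((B : Matrix (Fin n) (Fin n) F) * ((B⁻¹ : GL (Fin n) F) : Matrix (Fin n) (Fin n) F)) := by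
          rw [hB, Matrix.one_mul, Matrix.mul_one]
      _ = (B : Matrix (Fin n) (Fin n) F) * (((B⁻¹ : GL (Fin n) F) : Matrix (Fin n) (Fin n) F) * M *
          (B : Matrix (Fin n) (Fin n) F)) * ((B⁻¹ : GL (Fin n) F) : Matrix (Fin n) (Fin n) F) := by
          simp only [Matrix.mul_assoc]
      _ = c • 1 := by
          rw [hc, Matrix.mul_smul, Matrix.mul_one, Matrix.smul_mul, hB]

end Cfsg.Agent.H267.HT
end

-- part: H267/HT/MinField
section
/-!
# A core over a minimal subfield, continued (S3540 T1; helper267)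
-/

set_option autoImplicit false
set_option linter.unusedSectionVars false

namespace Cfsg.Agent.H267.HT

open Cfsg Cfsg.Geo Matrix Cfsg.Agent.H915.LD

universe u w

variable {n : ℕ} {K : Type w} [Field K]

/-- a minimal subfield over which a set of matrices is realisable -/
theorem exists_min_subfield [Finite K] {ι : Type} [Fintype ι] [DecidableEq ι] (S : Set (Matrix ι ι K)) :
    ∃ F : Subfield K, RealisableOver F S ∧ ∀ F' : Subfield K, F' < F → ¬ RealisableOver F' S := by
  classical
  have hT : RealisableOver (⊤ : Subfield K) S := ⟨1, fun s _ i j => Subfield.mem_top _⟩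
  have key : ∀ m : ℕ, ∀ F : Subfield K, Nat.card F = m → RealisableOver F S →
      ∃ F : Subfield K, RealisableOver F S ∧ ∀ F' : Subfield K, F' < F → ¬ RealisableOver F' S := by
    intro m
    induction m using Nat.strong_induction_on with
    | _ m ih =>
      intro F hF hS
      by_cases h : ∃ F' : Subfield K, F' < F ∧ RealisableOver F' S
      · obtain ⟨F', h1, h2⟩ := h
        refine ih (Nat.card F') ?_ F' rfl h2
        rw [← hF]
        have h3 : (F' : Set K) ⊂ (F : Set K) := h1
        have h4 := Set.ncard_lt_ncard h3 (Set.toFinite _)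
        rwa [← Nat.card_coe_set_eq, ← Nat.card_coe_set_eq] at h4
      · push Not at h
        exact ⟨F, hS, h⟩
  exact key _ ⊤ rfl hT

/-- commuting with an absolutely irreducible group -/
theorem mem_scalars_of_central {F : Type*} [Field F] {P : Subgroup (GL (Fin n) F)}
    (h : ActsAbsolutelyIrreducibly (matrixSet P)) {x : GL (Fin n) F} (hx : ∀ y ∈ P, x * y = y * x) :
    x ∈ scalars (Fin n) F := by
  rw [mem_scalars_iff]
  obtain ⟨c, hc⟩ := h.2 (x : Matrix (Fin n) (Fin n) F) (by
    rintro _ ⟨y, hy, rfl⟩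
    rw [← Units.val_mul, ← Units.val_mul, hx y hy])
  by_cases hn : Nonempty (Fin n)
  · obtain ⟨i⟩ := hn
    have hc0 : c ≠ 0 := by
      rintro rfl
      rw [zero_smul] at hc
      have h1 : ((x⁻¹ : GL (Fin n) F) : Matrix (Fin n) (Fin n) F) * (x : Matrix (Fin n) (Fin n) F) = 1 := by
        rw [← Units.val_mul, inv_mul_cancel, Units.val_one]
      rw [hc, Matrix.mul_zero] at h1
      have h2 := congrFun (congrFun h1 i) i
      rw [Matrix.one_apply_eq] at h2
      exact zero_ne_one h2
    exact ⟨Units.mk0 c hc0, hc⟩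
  · refine ⟨1, ?_⟩
    ext i
    exact (hn ⟨i⟩).elim

theorem scalar_central {F : Type*} [Field F] {x : GL (Fin n) F} (hx : x ∈ scalars (Fin n) F) (y : GL (Fin n) F) :
    x * y = y * x := by
  rw [mem_scalars_iff] at hx
  obtain ⟨c, hc⟩ := hx
  apply Units.ext
  rw [Units.val_mul, Units.val_mul, hc, Matrix.smul_mul, Matrix.mul_smul, Matrix.one_mul, Matrix.mul_one]

variable {L : Type u} [Group L]

/-- the socle of the image is `L / Z(L)` -/
theorem exists_soc_equiv {F : Type*} [Field F] {σ : L →* GL (Fin n) F} (hσ : Function.Injective σ)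
    (h : ActsAbsolutelyIrreducibly (matrixSet σ.range)) :
    Nonempty (Soc σ.range ≃* L ⧸ Subgroup.center L) := by
  let e : L ≃* σ.range := MonoidHom.ofInjective hσ
  have he : ∀ l, ((e l : σ.range) : GL (Fin n) F) = σ l := fun l => rfl
  refine ⟨(QuotientGroup.congr (Subgroup.center L) ((scalars (Fin n) F).subgroupOf σ.range) e ?_).symm⟩
  ext x
  obtain ⟨l, rfl⟩ := e.surjective x
  constructor
  · rintro ⟨z, hz, hzl⟩
    have hz' : z = l := e.injective hzl
    subst hz'
    rw [Subgroup.mem_subgroupOf, he]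
    refine mem_scalars_of_central h ?_
    rintro _ ⟨m, rfl⟩
    rw [← map_mul, ← map_mul, Subgroup.mem_center_iff.1 hz m]
  · intro hx
    rw [Subgroup.mem_subgroupOf, he] at hx
    refine ⟨l, Subgroup.mem_center_iff.2 fun m => ?_, rfl⟩
    apply hσ
    rw [map_mul, map_mul]
    exact (scalar_central hx _).symm

/-- **A core over a minimal subfield.** -/
theorem exists_core_of_rep [Finite K] [NeZero n] (hperf : commutator L = ⊤) (hs : IsSimpleGroup (L ⧸ Subgroup.center L))
    (hna : ∃ a b : L, a * b ≠ b * a) {ρ : L →* GL (Fin n) K} (hρ : Function.Injective ρ)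
    (h : ActsAbsolutelyIrreducibly (matrixSet ρ.range)) :
    ∃ (F : Subfield K) (σ : L →* GL (Fin n) F) (B : GL (Fin n) K), Function.Injective σ ∧ Core σ.range ∧
      Nonempty (Soc σ.range ≃* L ⧸ Subgroup.center L) ∧ ∀ l, inc F (σ l) = B * ρ l * B⁻¹ := by
  obtain ⟨F, ⟨B, hB⟩, hmin⟩ := exists_min_subfield (matrixSet ρ.range)
  obtain ⟨σ, hσ⟩ := exists_lift F ((MulAut.conj B).toMonoidHom.comp ρ) (fun l i j => by
    show ((B * ρ l * B⁻¹ : GL (Fin n) K) : Matrix (Fin n) (Fin n) K) i j ∈ F
    rw [Units.val_mul, Units.val_mul]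
    exact hB _ ⟨_, ⟨l, rfl⟩, rfl⟩ i j)
  have hσ' : ∀ l, inc F (σ l) = B * ρ l * B⁻¹ := hσ
  have hinj : Function.Injective σ := by
    intro a b hab
    apply hρ
    have h1 := hσ' a
    rw [hab, hσ' b] at h1
    exact (mul_left_cancel (mul_right_cancel h1)).symm
  have hirr : ActsAbsolutelyIrreducibly (matrixSet σ.range) := by
    refine absIrr_of_inc (R := ρ.range.map (MulAut.conj B).toMonoidHom) ?_ ?_ (absIrr_conj B h)
    · rintro _ ⟨_, ⟨l, rfl⟩, rfl⟩
      exact ⟨σ l, ⟨l, rfl⟩, hσ' l⟩
    · rintro _ ⟨l, rfl⟩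
      exact ⟨ρ l, ⟨l, rfl⟩, (hσ' l).symm⟩
  obtain ⟨e⟩ := exists_soc_equiv hinj hirr
  have hperf' : ⁅σ.range, σ.range⁆ = σ.range := by
    rw [MonoidHom.range_eq_map, ← Subgroup.map_commutator]
    congr 1
  refine ⟨F, σ, B, hinj, ⟨hperf', ?_, ?_, hirr, ?_⟩, ⟨e⟩, hσ'⟩
  · have := hs
    exact e.isSimpleGroup
  · intro hc
    obtain ⟨a, b, hab⟩ := hna
    apply hab
    -- the quotient is commutative, so `L = [L, L]` is central
    have hc' : IsMulCommutative (L ⧸ Subgroup.center L) := ⟨⟨fun x y => by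
      apply e.symm.injective
      rw [map_mul, map_mul]
      exact hc.1.1 _ _⟩⟩
    have h1 : commutator L ≤ Subgroup.center L := by
      rw [commutator_def, Subgroup.commutator_le]
      intro x _ y _
      rw [← QuotientGroup.eq_one_iff]
      have h2 : ((x : L ⧸ Subgroup.center L)) * y = y * x := hc'.1.1 _ _
      show ((x * y * x⁻¹ * y⁻¹ : L) : L ⧸ Subgroup.center L) = 1
      rw [QuotientGroup.mk_mul, QuotientGroup.mk_mul, QuotientGroup.mk_mul, QuotientGroup.mk_inv, QuotientGroup.mk_inv, h2,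
        mul_inv_cancel_right, mul_inv_cancel]
    rw [hperf] at h1
    exact (Subgroup.mem_center_iff.1 (h1 (Subgroup.mem_top b)) a)
  · rintro F₁ hF₁ ⟨C, hC⟩
    have hlt : F₁.map F.subtype < F := by
      refine lt_of_le_of_ne ?_ ?_
      · rintro _ ⟨x, -, rfl⟩
        exact x.2
      · intro heq
        apply hF₁
        refine eq_top_iff.2 fun x _ => ?_
        have h1 : (x : K) ∈ F₁.map F.subtype := by rw [heq]; exact x.2
        obtain ⟨y, hy, hxy⟩ := h1
        have : y = x := Subtype.ext hxy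
        rw [← this]
        exact hy
    refine hmin _ hlt ⟨inc F C * B, ?_⟩
    rintro _ ⟨_, ⟨l, rfl⟩, rfl⟩ i j
    have h1 := hC _ ⟨_, ⟨l, rfl⟩, rfl⟩ i j
    refine ⟨_, h1, ?_⟩
    have h2 : inc F (C * σ l * C⁻¹) = inc F C * B * ρ l * (inc F C * B)⁻¹ := by
      rw [map_mul, map_mul, map_inv, hσ']
      group
    have h3 : ((inc F (C * σ l * C⁻¹) : GL (Fin n) K) : Matrix (Fin n) (Fin n) K) i j =
        ((inc F C * B * ρ l * (inc F C * B)⁻¹ : GL (Fin n) K) : Matrix (Fin n) (Fin n) K) i j := by rw [h2]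
    exact h3

end Cfsg.Agent.H267.HT
end

private theorem dce_6b28c694d5aa : _root_.True := by
  try have : _root_.True := by simp only [_root_.Cfsg.Geo.RealisableOver.congr_simp]
  exact _root_.True.intro
end
end
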