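import Mathlib
import Cfsg.Agent.Prune
set_option linter.all false
prune_inst 0x7f00000000000000000000000000000000000000000000000000000000000000000000000000000000000000000000000000000000000000000000000000000000000000000000000000000000000000003fffffffffffffffffffffffffffbeffbdffffffff
open scoped Cfsg.Agent.FastGrp

/-!
# Traces of `p`-th powers in characteristic `p` (helper906)
-/

set_option autoImplicit false

namespace Cfsg.Agent.H906

open Polynomial Matrix

variable {n : Type*} [DecidableEq n] [Fintype n]

theorem charpoly_pow_char {K : Type*} [Field K] (p : ℕ) [hp : Fact p.Prime] [CharP K p] (M : Matrix n n K) :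
    (M ^ p).charpoly = M.charpoly.map (frobenius K p) := by
  cases (isEmpty_or_nonempty n).symm
  · apply Polynomial.expand_injective hp.out.pos
    rw [← Polynomial.map_expand, Polynomial.map_frobenius_expand]
    unfold charpoly
    rw [AlgHom.map_det, ← coe_detMonoidHom, ← (detMonoidHom : Matrix n n K[X] →* K[X]).map_pow]
    apply congr_arg det
    refine matPolyEquiv.injective ?_
    rw [map_pow, matPolyEquiv_charmatrix, sub_pow_char_of_commute, ← C_pow]
    · exact (id (matPolyEquiv_eq_X_pow_sub_C p M) :)
    · exact (C M).commute_X
  · have h1 : ∀ N : Matrix n n K, N.charpoly = 1 := fun N => by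
      rw [charpoly, det_isEmpty]
    rw [h1, h1, Polynomial.map_one]

theorem trace_pow_char {K : Type*} [Field K] (p : ℕ) [hp : Fact p.Prime] [CharP K p] (M : Matrix n n K) :
    (M ^ p).trace = M.trace ^ p := by
  cases isEmpty_or_nonempty n
  · rw [Matrix.trace, Matrix.trace]; simp [hp.out.ne_zero]
  rw [Matrix.trace_eq_neg_charpoly_coeff, Matrix.trace_eq_neg_charpoly_coeff, charpoly_pow_char, coeff_map,
    frobenius_def]
  rcases hp.out.eq_two_or_odd' with h | h
  · subst h
    rw [neg_pow, CharTwo.neg_eq]
    simp
  · rw [h.neg_pow]

end Cfsg.Agent.H906
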