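import Cfsg.Agent.UThreeGen.Recog
import Cfsg.Agent.Prune
set_option linter.all false
prune_inst 0x7f00000000000000000000000000000000000000000000000000000000000000000000000000000000000000000000000000000000000000000000000000000000000000000000000000000000000000003fffffffffffffffffffffffffffbeffbdffffffff
open scoped Cfsg.Agent.FastGrp

/-!
# The order of the unipotent group of `SU₃(m)` (helper906)
-/

set_option autoImplicit false

namespace Cfsg.Agent.H906

open Cfsg.Agent.UThreeGen.MatGroup

variable {K : Type*} [Field K] {σ : K →+* K} [hσ : Fact (∀ x, σ (σ x) = x)]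

/-- The trace `b ↦ b + σ b`. -/
def trHom (σ : K →+* K) : K →+ K where
  toFun b := b + σ b
  map_zero' := by simp
  map_add' x y := by rw [map_add]; ring

/-- The first coordinate. -/
def aHom (σ : K →+* K) [hσ : Fact (∀ x, σ (σ x) = x)] : HG σ →* Multiplicative K where
  toFun x := Multiplicative.ofAdd x.a
  map_one' := rfl
  map_mul' _ _ := rfl

lemma card_trHom [Finite K] {m : ℕ} (hm : 1 < m) (hs : ∀ x, σ x = x ^ m) (hF : Nat.card K = m ^ 2) :
    Nat.card (trHom σ).ker = m ∧ ∀ c, σ c = c → ∃ b, b + σ b = c := by
  classical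
  have := Fintype.ofFinite K
  have h1 : Nat.card (trHom σ).ker ≤ m := by
    let p : Polynomial K := Polynomial.X ^ m + Polynomial.X
    have hdeg : p.natDegree = m := by
      have : (Polynomial.X : Polynomial K).degree < (Polynomial.X ^ m : Polynomial K).degree := by
        rw [Polynomial.degree_X_pow, Polynomial.degree_X]
        exact_mod_cast hm
      rw [Polynomial.natDegree_add_eq_left_of_degree_lt this, Polynomial.natDegree_X_pow]
    have hp0 : p ≠ 0 := by
      intro h
      rw [h, Polynomial.natDegree_zero] at hdeg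
      omega
    have hsub : ((trHom σ).ker : Set K) ⊆ (p.roots.toFinset : Set K) := by
      intro x hx
      have hx' : x + σ x = 0 := hx
      rw [hs] at hx'
      simp only [Finset.mem_coe, Multiset.mem_toFinset, Polynomial.mem_roots hp0, Polynomial.IsRoot, p,
        Polynomial.eval_add, Polynomial.eval_pow, Polynomial.eval_X]
      rw [add_comm]; exact hx'
    calc Nat.card (trHom σ).ker = Nat.card ((trHom σ).ker : Set K) := rfl
      _ ≤ Nat.card (p.roots.toFinset : Set K) := Nat.card_mono (Finset.finite_toSet _) hsub
      _ = p.roots.toFinset.card := by rw [Nat.card_coe_set_eq, Set.ncard_coe_finset]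
      _ ≤ p.roots.card := Multiset.toFinset_card_le _
      _ ≤ p.natDegree := Polynomial.card_roots' p
      _ = m := hdeg
  -- fixed elements
  let S : Set K := {x | σ x = x}
  have hS : Nat.card S ≤ m := by
    let p : Polynomial K := Polynomial.X ^ m - Polynomial.X
    have hdeg : p.natDegree = m := by
      have : (Polynomial.X : Polynomial K).degree < (Polynomial.X ^ m : Polynomial K).degree := by
        rw [Polynomial.degree_X_pow, Polynomial.degree_X]
        exact_mod_cast hm
      rw [Polynomial.natDegree_sub_eq_left_of_natDegree_lt (Polynomial.natDegree_lt_natDegree (by simp) this),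
        Polynomial.natDegree_X_pow]
    have hp0 : p ≠ 0 := by
      intro h
      rw [h, Polynomial.natDegree_zero] at hdeg
      omega
    have hsub : S ⊆ (p.roots.toFinset : Set K) := by
      intro x hx
      have hx' : σ x = x := hx
      rw [hs] at hx'
      simp only [Finset.mem_coe, Multiset.mem_toFinset, Polynomial.mem_roots hp0, Polynomial.IsRoot, p,
        Polynomial.eval_sub, Polynomial.eval_pow, Polynomial.eval_X]
      rw [hx', sub_self]
    calc Nat.card S ≤ Nat.card (p.roots.toFinset : Set K) := Nat.card_mono (Finset.finite_toSet _) hsub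
      _ = p.roots.toFinset.card := by rw [Nat.card_coe_set_eq, Set.ncard_coe_finset]
      _ ≤ p.roots.card := Multiset.toFinset_card_le _
      _ ≤ p.natDegree := Polynomial.card_roots' p
      _ = m := hdeg
  have hrs : ((trHom σ).range : Set K) ⊆ S := by
    rintro _ ⟨b, rfl⟩
    change σ (b + σ b) = b + σ b
    rw [map_add, sig, add_comm]
  have hr : Nat.card (trHom σ).range ≤ Nat.card S := Nat.card_mono (Set.toFinite _) hrs
  have hprod : Nat.card (trHom σ).ker * Nat.card (trHom σ).range = m ^ 2 := by
    rw [← hF, AddSubgroup.card_eq_card_quotient_mul_card_addSubgroup (trHom σ).ker,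
      Nat.card_congr (QuotientAddGroup.quotientKerEquivRange (trHom σ)).toEquiv, mul_comm]
  have hk : Nat.card (trHom σ).ker = m := by
    apply le_antisymm h1
    by_contra hlt
    push Not at hlt
    have h2 : Nat.card (trHom σ).ker * Nat.card (trHom σ).range ≤
        Nat.card (trHom σ).ker * m := Nat.mul_le_mul_left _ (hr.trans hS)
    have h3 : Nat.card (trHom σ).ker * m < m * m := Nat.mul_lt_mul_of_pos_right hlt (by omega)
    rw [hprod, sq] at h2
    omega
  refine ⟨hk, fun c hc => ?_⟩
  have hrm : Nat.card (trHom σ).range = m := by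
    rw [hk, sq] at hprod
    exact Nat.eq_of_mul_eq_mul_left (by omega) hprod
  have heq : ((trHom σ).range : Set K) = S := by
    apply Set.eq_of_subset_of_ncard_le hrs _ (Set.toFinite _)
    change Nat.card S ≤ Nat.card (trHom σ).range
    omega
  have : c ∈ ((trHom σ).range : Set K) := by rw [heq]; exact hc
  obtain ⟨b, hb⟩ := this
  exact ⟨b, hb⟩

lemma aHom_surjective [Finite K] {m : ℕ} (hm : 1 < m) (hs : ∀ x, σ x = x ^ m)
    (hF : Nat.card K = m ^ 2) (a : K) : ∃ x : HG σ, x.a = a := by
  obtain ⟨b, hb⟩ := (card_trHom hm hs hF).2 (a * σ a) (by rw [map_mul, sig, mul_comm])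
  exact ⟨⟨a, b, hb⟩, rfl⟩

theorem card_HG [Finite K] {m : ℕ} (hm : 1 < m) (hs : ∀ x, σ x = x ^ m)
    (hF : Nat.card K = m ^ 2) : Nat.card (HG σ) = m ^ 3 := by
  have hsurj : Function.Surjective (aHom σ) := fun a => by
    obtain ⟨x, hx⟩ := aHom_surjective hm hs hF (Multiplicative.toAdd a)
    exact ⟨x, by change Multiplicative.ofAdd x.a = a; rw [hx]; rfl⟩
  have h1 : Nat.card (HG σ) = Nat.card (HG σ ⧸ (aHom σ).ker) * Nat.card (aHom σ).ker :=
    Subgroup.card_eq_card_quotient_mul_card_subgroup _
  have h2 : Nat.card (HG σ ⧸ (aHom σ).ker) = m ^ 2 := by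
    rw [Nat.card_congr (QuotientGroup.quotientKerEquivOfSurjective (aHom σ) hsurj).toEquiv]
    exact hF
  have h3 : Nat.card (aHom σ).ker = m := by
    rw [← (card_trHom hm hs hF).1]
    refine Nat.card_congr
      { toFun := fun x => ⟨x.1.b, ?_⟩
        invFun := fun b => ⟨⟨0, b.1, ?_⟩, ?_⟩
        left_inv := ?_
        right_inv := ?_ }
    · have hx : x.1.a = 0 := x.2
      have := x.1.h
      rw [hx, zero_mul] at this
      exact this
    · have hb : b.1 + σ b.1 = 0 := b.2
      rw [hb, zero_mul]
    · rfl
    · intro x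
      apply Subtype.ext
      have hx : x.1.a = 0 := x.2
      ext
      · exact hx.symm
      · rfl
    · intro b
      rfl
  rw [h1, h2, h3]
  ring

end Cfsg.Agent.H906
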