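import Cfsg.Agent.H906.ThreeByThree_m3
import Cfsg.Agent.H906.U3Def
import Cfsg.Agent.H906.U3Card
import Cfsg.Agent.S0254
import Cfsg.Agent.S0255
import Cfsg.Agent.S1764
import Cfsg.Agent.Lib.Cores
import Mathlib
import Cfsg.Prelude.Def_Transfer
import Cfsg.Agent.S0205
import Cfsg.Agent.H890.Y1Odd
import Cfsg.Agent.H912.CrossList_m3
import Cfsg.Agent.OddCyclic.T1SzFacts
import Cfsg.Agent.FastGrp
import Cfsg.Agent.Prune
set_option linter.all false

section
prune_inst 0x7f00000000000000000000000000000000000000000000000000000000000000000000000000000000000000000000000000000000000000000000000000000000000000000000000000000000000000003fffffffffffffffffffffffffffbeffbdffffffff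

-- part: H906/CoreFinal_mg
section
set_option linter.all false
open scoped Cfsg.Agent.FastGrp

-- part: H906/TrA6
section
/-!
# `A₆ = L₂(9)` in dimension three, characteristic different from three (helper906)
-/

set_option autoImplicit false
set_option linter.unusedSectionVars false

namespace Cfsg.Agent.H906

open Cfsg Cfsg.Geo
open scoped MatrixGroups Matrix

variable {F : Type*} [Field F] {P : Subgroup (GL (Fin 3) F)}

section Gen

variable {Γ : Type*} [Group Γ] {Φ : (P ⧸ (scalars (Fin 3) F).subgroupOf P) ≃* Γ}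

/-- Only the identity commutes, on the level of lifts, with a Heisenberg pair. -/
theorem heis_one {e f z : Γ} {c : Fˣ} (h : Br Φ e f c) (hc : c ≠ 1) (h1 : Br Φ z e 1) (h2 : Br Φ z f 1) :
    z = 1 := by
  obtain ⟨x, hx⟩ := pr_surjective Φ e
  obtain ⟨y, hy⟩ := pr_surjective Φ f
  obtain ⟨w, hw⟩ := pr_surjective Φ z
  have hcF : (c : F) ^ 3 = 1 := by rw [← Units.val_pow_eq_pow_val, h.pow_three, Units.val_one]
  have hcF1 : (c : F) ≠ 1 := fun h => hc (Units.ext (by rw [h, Units.val_one]))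
  obtain ⟨s, hs⟩ := heis_scalar hcF hcF1 (x := (x : GL (Fin 3) F)) (y := (y : GL (Fin 3) F)) (z := (w : GL (Fin 3) F))
    (by
      have := h x y hx hy
      rwa [Units.val_mul, Units.val_mul] at this)
    (h1.comm_of_one hw hx) (h2.comm_of_one hw hy)
  have hs0 : s ≠ 0 := by
    rintro rfl
    rw [zero_smul] at hs
    exact (Units.ne_zero (w : GL (Fin 3) F)) hs
  rw [← hw]
  exact (pr_eq_one Φ).2 ((mem_scalars_iff _).2 ⟨Units.mk0 s hs0, hs⟩)

/-- An element with a non-trivial commutator scalar has trace zero. -/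
theorem trace_eq_zero_of_br {e f : Γ} {c : Fˣ} (h : Br Φ e f c) (hc : c ≠ 1) {a : P} (ha : pr Φ a = e) :
    ((a : GL (Fin 3) F) : Matrix (Fin 3) (Fin 3) F).trace = 0 := by
  obtain ⟨b, hb⟩ := pr_surjective Φ f
  have h1 := h a b ha hb
  have h2 : ((a : GL (Fin 3) F) : Matrix (Fin 3) (Fin 3) F) =
      (c : F) • (((b : GL (Fin 3) F) * a * (b : GL (Fin 3) F)⁻¹ : GL (Fin 3) F) : Matrix (Fin 3) (Fin 3) F) := by
    rw [Units.val_mul, ← Matrix.smul_mul, ← h1, ← Units.val_mul]
    congr 1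
    group
  have h3 := congrArg Matrix.trace h2
  rw [Matrix.trace_smul, trace_conj, smul_eq_mul] at h3
  have h4 : ((c : F) - 1) * ((a : GL (Fin 3) F) : Matrix (Fin 3) (Fin 3) F).trace = 0 := by
    rw [sub_mul, one_mul, ← h3, sub_self]
  refine (mul_eq_zero.1 h4).resolve_left fun h5 => hc (Units.ext ?_)
  rw [Units.val_one]
  exact sub_eq_zero.1 h5

/-- Trace of a lift of a conjugate. -/
lemma trace_zero_of_conj {e : Γ} (h : ∀ a : P, pr Φ a = e → ((a : GL (Fin 3) F) : Matrix (Fin 3) (Fin 3) F).trace = 0)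
    {x y : Γ} (hy : y * x * y⁻¹ = e) {a : P} (ha : pr Φ a = x) :
    ((a : GL (Fin 3) F) : Matrix (Fin 3) (Fin 3) F).trace = 0 := by
  obtain ⟨b, hb⟩ := pr_surjective Φ y
  have h1 := h (b * a * b⁻¹) (by rw [map_mul, map_mul, map_inv, ha, hb, hy])
  rw [← h1]
  exact (trace_conj (b : GL (Fin 3) F) (a : GL (Fin 3) F)).symm

/-- Lifts of the same exponent prime to three of conjugate elements are conjugate. -/
theorem trace_eq_of_pow (hdet : P ≤ specialLinear (Fin 3) F) {n : ℕ} (hn : n.Coprime 3) {a b : P}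
    (ha : a ^ n = 1) (hb : b ^ n = 1) (h : ∃ y : Γ, y * pr Φ a * y⁻¹ = pr Φ b) :
    ((a : GL (Fin 3) F) : Matrix (Fin 3) (Fin 3) F).trace = ((b : GL (Fin 3) F) : Matrix (Fin 3) (Fin 3) F).trace := by
  obtain ⟨y, hy⟩ := h
  obtain ⟨c, rfl⟩ := pr_surjective Φ y
  -- `w` is the scalar difference
  set! w : P := (c * a * c⁻¹) * b⁻¹ with hw
  have hw1 : (w : GL (Fin 3) F) ∈ scalars (Fin 3) F := by
    rw [← pr_eq_one Φ, hw, map_mul, map_mul, map_mul, map_inv, map_inv, hy, mul_inv_cancel]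
  have hwc : ∀ g : P, w * g = g * w := by
    intro g
    have := scalars_le_center (P := P) (F := F) (Subgroup.mem_subgroupOf.2 hw1)
    rw [Subgroup.mem_center_iff] at this
    exact (this g).symm
  have h3 : w ^ 3 = 1 := Subtype.ext (scalar_pow_three hdet w.2 hw1)
  have hn1 : w ^ n = 1 := by
    have e1 : c * a * c⁻¹ = w * b := by rw [hw]; group
    have e2 : (c * a * c⁻¹) ^ n = 1 := by rw [conj_pow, ha]; group
    rw [e1, (show Commute w b from hwc b).mul_pow, hb, mul_one] at e2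
    exact e2
  have hw0 : w = 1 := by
    have h4 : orderOf w ∣ Nat.gcd n 3 := Nat.dvd_gcd (orderOf_dvd_of_pow_eq_one hn1) (orderOf_dvd_of_pow_eq_one h3)
    rw [hn] at h4
    exact orderOf_eq_one_iff.1 (Nat.dvd_one.1 h4)
  have h5 : c * a * c⁻¹ = b := by
    rw [hw] at hw0
    exact mul_inv_eq_one.1 hw0
  rw [← h5]
  exact (trace_conj (c : GL (Fin 3) F) (a : GL (Fin 3) F)).symm

/-- Splitting off a scalar. -/
theorem exists_split (hdet : P ≤ specialLinear (Fin 3) F) {n j : ℕ} (hj : 3 ∣ 1 + j * n) (g : P)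
    (hg : pr Φ g ^ n = 1) :
    ∃ (ζ : F) (g₀ : P), ζ ^ 3 = 1 ∧ g₀ ^ n = 1 ∧ pr Φ g₀ = pr Φ g ∧ (∃ k : ℕ, g₀ = g ^ k) ∧
      ((g : GL (Fin 3) F) : Matrix (Fin 3) (Fin 3) F) = ζ • ((g₀ : GL (Fin 3) F) : Matrix (Fin 3) (Fin 3) F) := by
  have hs : ((g ^ n : P) : GL (Fin 3) F) ∈ scalars (Fin 3) F := by rw [← pr_eq_one Φ, map_pow, hg]
  have h3 : (g ^ n) ^ 3 = 1 := Subtype.ext (scalar_pow_three hdet (g ^ n).2 hs)
  have hsj : (((g ^ n) ^ j : P) : GL (Fin 3) F) ∈ scalars (Fin 3) F := by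
    rw [Subgroup.coe_pow]; exact Subgroup.pow_mem _ hs j
  -- `g₀ = g ^ (1 + j n)`
  refine ?_
  have hsj' : ((((g ^ n) ^ j)⁻¹ : P) : GL (Fin 3) F) ∈ scalars (Fin 3) F := by
    rw [Subgroup.coe_inv]; exact Subgroup.inv_mem _ hsj
  obtain ⟨ζ, hζ⟩ := (mem_scalars_iff _).1 hsj'
  have hζ3 : (((g ^ n) ^ j)⁻¹ : P) ^ 3 = 1 := by
    rw [inv_pow, ← pow_mul, mul_comm, pow_mul, h3, one_pow, inv_one]
  refine ⟨ζ, g ^ (1 + j * n), ?_, ?_, ?_, ⟨_, rfl⟩, ?_⟩
  · have h4 := congrArg (fun z : P => ((z : GL (Fin 3) F) : Matrix (Fin 3) (Fin 3) F)) hζ3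
    simp only [Subgroup.coe_pow, Units.val_pow_eq_pow_val, hζ] at h4
    rw [_root_.smul_pow, one_pow] at h4
    have h5 := congrFun (congrFun h4 0) 0
    simpa only [_root_.Fin.isValue, _root_.Matrix.smul_apply, _root_.Matrix.one_apply_eq, _root_.smul_eq_mul, _root_.mul_one, _root_.OneMemClass.coe_one, _root_.Units.val_one] using h5
  · obtain ⟨m, hm⟩ := hj
    rw [hm, ← pow_mul, mul_assoc, mul_comm m n, ← mul_assoc, mul_comm 3 n, pow_mul, pow_mul, h3, one_pow]
  · rw [pow_add, pow_one, mul_comm j n, pow_mul, map_mul, map_pow, map_pow, hg, one_pow, mul_one]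
  · have h6 : g = (((g ^ n) ^ j)⁻¹ : P) * g ^ (1 + j * n) := by
      rw [pow_add, pow_one, mul_comm j n, pow_mul]
      have hc : Commute g ((g ^ n) ^ j) := (Commute.refl g).pow_right n |>.pow_right j
      rw [hc.eq]; group
    conv_lhs => rw [h6]
    rw [Subgroup.coe_mul, Units.val_mul, hζ, Matrix.smul_mul, Matrix.one_mul]

end Gen

/-- The elements of `PSL₂(9)`. -/
lemma L2_nine_elements {K : Type*} [Field K] [Finite K] [CharP K 3] (hK : Nat.card K = 9)
    (x : Matrix.ProjectiveSpecialLinearGroup (Fin 2) K) :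
    (∃ y, ∃ b : K, y * x * y⁻¹ = unP K (Multiplicative.ofAdd b)) ∨
    ((∃ y, y * x * y⁻¹ = x⁻¹) ∧ (x ^ 4 = 1 ∨ x ^ 5 = 1)) := by
  have h3p : Fact (Nat.Prime 3) := ⟨by norm_num⟩
  have h30 : (3 : K) = 0 := by exact_mod_cast CharP.cast_eq_zero K 3
  obtain ⟨s, rfl⟩ := QuotientGroup.mk_surjective x
  by_cases ht : (s.1 0 0 + s.1 1 1) ^ 2 - 4 = 0
  · exact Or.inl (mk_conj_un s ht 3)
  · right
    constructor
    · obtain ⟨h, hh⟩ := SL2_conj_inv s ht
      refine ⟨QuotientGroup.mk h, ?_⟩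
      rw [← QuotientGroup.mk_inv, ← QuotientGroup.mk_mul, ← QuotientGroup.mk_mul, hh, QuotientGroup.mk_inv]
    · set t := s.1 0 0 + s.1 1 1 with htdef
      have hpow : t ^ 9 = t := by
        have := Fintype.ofFinite K
        have h1 := FiniteField.pow_card t
        rwa [← Nat.card_eq_fintype_card, hK] at h1
      have hprod : t * ((t ^ 2 - 4) * ((t ^ 2 + 1) * (t ^ 4 + 1))) = 0 := by
        linear_combination hpow - (t ^ 7 + t ^ 5 + t ^ 3 + t) * h30
      rcases mul_eq_zero.1 hprod with h | h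
      · left
        apply mk_pow_eq_one s 4 1 (one_pow 2)
        rw [SL2_four, ← htdef, h]
        simp only [_root_.ne_eq, _root_.OfNat.ofNat_ne_zero, _root_.not_false_eq_true, _root_.zero_pow, _root_.MulZeroClass.mul_zero, _root_.sub_self, _root_.zero_smul, _root_.zero_sub, _root_.neg_smul, _root_.one_smul, _root_.sub_neg_eq_add, _root_.zero_add]
      · rcases (mul_eq_zero.1 h).resolve_left ht |> mul_eq_zero.1 with h | h
        · left
          apply mk_pow_eq_one s 4 (-1) (by ring)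
          rw [SL2_four, ← htdef]
          have e1 : t ^ 3 - 2 * t = 0 := by linear_combination t * h - t * h30
          have e2 : t ^ 2 - 1 = 1 := by linear_combination h - h30
          rw [e1, e2, zero_smul, zero_sub, neg_smul]
        · right
          apply mk_pow_eq_one s 5 (-(t ^ 3 - 2 * t)) (by
            linear_combination (t ^ 2 - 4) * h + (t ^ 2 + 1) * h30)
          rw [SL2_five, ← htdef]
          have e1 : t ^ 4 - 3 * t ^ 2 + 1 = 0 := by linear_combination h - t ^ 2 * h30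
          rw [e1, zero_smul, zero_sub, neg_smul]

end Cfsg.Agent.H906
end

-- part: H906/TrA6b
section
/-!
# `A₆ = L₂(9)` in dimension three, characteristic different from three: conclusion (helper906)
-/

set_option autoImplicit false
set_option linter.unusedSectionVars false

namespace Cfsg.Agent.H906

open Cfsg Cfsg.Geo
open scoped MatrixGroups Matrix

variable {F : Type*} [Field F] {P : Subgroup (GL (Fin 3) F)}

lemma card_cases [Finite F] (p : ℕ) [hp : Fact p.Prime] [CharP F p] (h : ∀ x : F, x ^ p ^ 2 = x) :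
    Nat.card F = p ∨ Nat.card F = p ^ 2 := by
  have := Fintype.ofFinite F
  obtain ⟨e, he0, he⟩ := FiniteField.card F p
  rw [← Nat.card_eq_fintype_card] at he
  have h11 : 1 < p ^ 2 := by have := hp.out.two_le; nlinarith only [this]
  have h6 := card_le_of_pow_eq (m := p ^ 2) h11 h
  have h7 : Nat.card F ≤ p ^ 2 := by
    have h8 : 0 < p ^ 2 - 1 := by omega
    have h9 := Nat.le_of_dvd h8 h6
    have h10 : 0 < Nat.card F := Nat.card_pos
    omega
  rw [he] at h7 ⊢
  have h8 : (e : ℕ) ≤ 2 := (Nat.pow_le_pow_iff_right hp.out.one_lt).1 h7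
  have h10 : 0 < (e : ℕ) := e.pos
  have h12 : (e : ℕ) = 1 ∨ (e : ℕ) = 2 := by omega
  rcases h12 with h | h
  · left; rw [h, pow_one]
  · right; rw [h]

lemma card_of_pow_prime [Finite F] (p : ℕ) [hp : Fact p.Prime] [CharP F p] (h : ∀ x : F, x ^ p = x) :
    Nat.card F = p := by
  have := Fintype.ofFinite F
  obtain ⟨e, he0, he⟩ := FiniteField.card F p
  rw [← Nat.card_eq_fintype_card] at he
  have h6 := card_le_of_pow_eq hp.out.two_le h
  have h7 : Nat.card F - 1 ≤ p - 1 := Nat.le_of_dvd (by have := hp.out.two_le; omega) h6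
  have h8 : p ≤ Nat.card F := by
    rw [he]
    calc p = p ^ 1 := (pow_one p).symm
      _ ≤ p ^ (e : ℕ) := Nat.pow_le_pow_right hp.out.pos e.2
  have := hp.out.two_le
  omega

/-- Splitting of the elements of `3.A₆`. -/
theorem L2_nine_split [Finite F] (hperf : ⁅P, P⁆ = P) {K : Type*} [Field K] [Finite K] (hK : Nat.card K = 9)
    (h3F : (3 : F) ≠ 0)
    (Φ : (P ⧸ (scalars (Fin 3) F).subgroupOf P) ≃* Matrix.ProjectiveSpecialLinearGroup (Fin 2) K) (g : P) :
    (((g : GL (Fin 3) F) : Matrix (Fin 3) (Fin 3) F).trace = 0 ∧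
      (((g : GL (Fin 3) F)⁻¹ : GL (Fin 3) F) : Matrix (Fin 3) (Fin 3) F).trace = 0) ∨
    ∃ (ζ : F) (g₀ : P), ζ ^ 3 = 1 ∧ (g₀ ^ 4 = 1 ∨ g₀ ^ 5 = 1) ∧ (∃ k : ℕ, g₀ = g ^ k) ∧
      ((g : GL (Fin 3) F) : Matrix (Fin 3) (Fin 3) F).trace = ζ * ((g₀ : GL (Fin 3) F) : Matrix (Fin 3) (Fin 3) F).trace ∧
      (((g : GL (Fin 3) F)⁻¹ : GL (Fin 3) F) : Matrix (Fin 3) (Fin 3) F).trace =
        ζ ^ 2 * ((g₀ : GL (Fin 3) F) : Matrix (Fin 3) (Fin 3) F).trace ∧
      (((g₀ : GL (Fin 3) F)⁻¹ : GL (Fin 3) F) : Matrix (Fin 3) (Fin 3) F).trace =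
        ((g₀ : GL (Fin 3) F) : Matrix (Fin 3) (Fin 3) F).trace ∧ pr Φ g₀ = pr Φ g := by
  have h3p : Fact (Nat.Prime 3) := ⟨by norm_num⟩
  have := Fintype.ofFinite K
  have hchar : CharP K 3 := by
    obtain ⟨q, hq⟩ := CharP.exists K
    obtain ⟨n, hqp, hn⟩ := FiniteField.card K q
    rw [← Nat.card_eq_fintype_card, hK] at hn
    have h1 : q ∣ 3 ^ 2 := by
      rw [show (3 ^ 2 : ℕ) = 9 by norm_num, hn]; exact dvd_pow_self q n.2.ne'
    have h2 := hqp.dvd_of_dvd_pow h1
    rwa [(Nat.prime_dvd_prime_iff_eq hqp h3p.out).1 h2] at hq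
  have h30 : (3 : K) = 0 := by exact_mod_cast CharP.cast_eq_zero K 3
  have h20 : (2 : K) ≠ 0 := by
    intro h
    have : (1 : K) = 0 := by linear_combination h30 - h
    exact one_ne_zero this
  have hdet := le_specialLinear hperf
  -- the Heisenberg pair
  have hpair : ∃ s ∈ EP K, ∃ t ∈ EP K, ∃ c : Fˣ, c ≠ 1 ∧ Br Φ s t c := by
    rcases crossL2 hdet 3 (by exact_mod_cast h3F) h20 Φ with ⟨-, h⟩ | ⟨-, -, h⟩
    · exfalso; rw [hK] at h; omega
    · exact h
  obtain ⟨s, hs, t, ht, c, hc, hst⟩ := hpair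
  have hzero : ∀ e ∈ EP K, e ≠ 1 → ∀ a : P, pr Φ a = e →
      ((a : GL (Fin 3) F) : Matrix (Fin 3) (Fin 3) F).trace = 0 := by
    intro e he he1 a ha
    obtain ⟨k, hk⟩ := Br.exists_of_comm (Φ := Φ) (EP_comm e he s hs)
    obtain ⟨l, hl⟩ := Br.exists_of_comm (Φ := Φ) (EP_comm e he t ht)
    by_cases hk1 : k = 1
    · by_cases hl1 : l = 1
      · exfalso
        rw [hk1] at hk
        rw [hl1] at hl
        exact he1 (heis_one hst hc hk hl)
      · exact trace_eq_zero_of_br hl hl1 ha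
    · exact trace_eq_zero_of_br hk hk1 ha
  have hunip : ∀ a : P, (∃ y, ∃ b : K, y * pr Φ a * y⁻¹ = unP K (Multiplicative.ofAdd b)) → pr Φ a ≠ 1 →
      ((a : GL (Fin 3) F) : Matrix (Fin 3) (Fin 3) F).trace = 0 := by
    rintro a ⟨y, b, hy⟩ ha1
    refine trace_zero_of_conj (hzero _ ⟨_, rfl⟩ ?_) hy rfl
    rw [← hy]
    intro h
    apply ha1
    calc pr Φ a = y⁻¹ * (y * pr Φ a * y⁻¹) * y := by group
      _ = 1 := by rw [h]; group
  -- the split case
  have hsplit : ((∃ y, y * pr Φ g * y⁻¹ = (pr Φ g)⁻¹) ∧ (pr Φ g ^ 4 = 1 ∨ pr Φ g ^ 5 = 1)) →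
      ∃ (ζ : F) (g₀ : P), ζ ^ 3 = 1 ∧ (g₀ ^ 4 = 1 ∨ g₀ ^ 5 = 1) ∧ (∃ k : ℕ, g₀ = g ^ k) ∧
      ((g : GL (Fin 3) F) : Matrix (Fin 3) (Fin 3) F).trace = ζ * ((g₀ : GL (Fin 3) F) : Matrix (Fin 3) (Fin 3) F).trace ∧
      (((g : GL (Fin 3) F)⁻¹ : GL (Fin 3) F) : Matrix (Fin 3) (Fin 3) F).trace =
        ζ ^ 2 * ((g₀ : GL (Fin 3) F) : Matrix (Fin 3) (Fin 3) F).trace ∧
      (((g₀ : GL (Fin 3) F)⁻¹ : GL (Fin 3) F) : Matrix (Fin 3) (Fin 3) F).trace =
        ((g₀ : GL (Fin 3) F) : Matrix (Fin 3) (Fin 3) F).trace ∧ pr Φ g₀ = pr Φ g := by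
    rintro ⟨⟨y, hy⟩, hn⟩
    obtain ⟨n, j, hnj, hn3, hn45, hgn⟩ : ∃ n j : ℕ, 3 ∣ 1 + j * n ∧ n.Coprime 3 ∧ (n = 4 ∨ n = 5) ∧ pr Φ g ^ n = 1 := by
      rcases hn with h | h
      · exact ⟨4, 2, by norm_num, by norm_num, Or.inl rfl, h⟩
      · exact ⟨5, 1, by norm_num, by norm_num, Or.inr rfl, h⟩
    obtain ⟨ζ, g₀, hζ, hg₀, hpr, hk, hval⟩ := exists_split (Φ := Φ) hdet hnj g hgn
    have hreal : (((g₀ : GL (Fin 3) F)⁻¹ : GL (Fin 3) F) : Matrix (Fin 3) (Fin 3) F).trace =
        ((g₀ : GL (Fin 3) F) : Matrix (Fin 3) (Fin 3) F).trace := by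
      have h1 := trace_eq_of_pow (Φ := Φ) hdet hn3 (a := g₀) (b := g₀⁻¹) hg₀ (by rw [inv_pow, hg₀, inv_one])
        ⟨y, by rw [map_inv, hpr]; exact hy⟩
      exact h1.symm
    have hinv : (((g : GL (Fin 3) F)⁻¹ : GL (Fin 3) F) : Matrix (Fin 3) (Fin 3) F) =
        ζ ^ 2 • (((g₀ : GL (Fin 3) F)⁻¹ : GL (Fin 3) F) : Matrix (Fin 3) (Fin 3) F) := by
      have h1 : ((g : GL (Fin 3) F) : Matrix (Fin 3) (Fin 3) F) *
          (ζ ^ 2 • (((g₀ : GL (Fin 3) F)⁻¹ : GL (Fin 3) F) : Matrix (Fin 3) (Fin 3) F)) = 1 := by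
        rw [hval, Matrix.smul_mul, Matrix.mul_smul, smul_smul, ← Units.val_mul, mul_inv_cancel, Units.val_one,
          ← pow_succ', hζ, one_smul]
      calc (((g : GL (Fin 3) F)⁻¹ : GL (Fin 3) F) : Matrix (Fin 3) (Fin 3) F)
          = (((g : GL (Fin 3) F)⁻¹ : GL (Fin 3) F) : Matrix (Fin 3) (Fin 3) F) *
            (((g : GL (Fin 3) F) : Matrix (Fin 3) (Fin 3) F) *
              (ζ ^ 2 • (((g₀ : GL (Fin 3) F)⁻¹ : GL (Fin 3) F) : Matrix (Fin 3) (Fin 3) F))) := by rw [h1, mul_one]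
        _ = _ := by rw [← mul_assoc, ← Units.val_mul, inv_mul_cancel, Units.val_one, one_mul]
    refine ⟨ζ, g₀, hζ, ?_, hk, ?_, ?_, hreal, hpr⟩
    · rcases hn45 with h | h
      · left; rw [← h]; exact hg₀
      · right; rw [← h]; exact hg₀
    · rw [hval, Matrix.trace_smul, smul_eq_mul]
    · rw [hinv, Matrix.trace_smul, smul_eq_mul, hreal]
  rcases L2_nine_elements hK (pr Φ g) with h | h
  · by_cases h1 : pr Φ g = 1
    · right
      apply hsplit
      rw [h1]
      exact ⟨⟨1, by simp only [_root_.mul_one, _root_.inv_one]⟩, Or.inl (one_pow 4)⟩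
    · left
      refine ⟨hunip g h h1, ?_⟩
      obtain ⟨y, b, hy⟩ := h
      refine hunip g⁻¹ ⟨y, -b, ?_⟩ (by rw [map_inv]; exact inv_ne_one.2 h1)
      rw [map_inv]
      have h4 : y * (pr Φ g)⁻¹ * y⁻¹ = (y * pr Φ g * y⁻¹)⁻¹ := by group
      rw [h4, hy, ← map_inv]
      rfl
  · exact Or.inr (hsplit h)

end Cfsg.Agent.H906
end

-- part: H906/TrA6c
section
/-!
# `A₆ = L₂(9)` in dimension three: conclusion (helper906)
-/

set_option autoImplicit false
set_option linter.unusedSectionVars false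

namespace Cfsg.Agent.H906

open Cfsg Cfsg.Geo
open scoped MatrixGroups Matrix

variable {F : Type*} [Field F] {P : Subgroup (GL (Fin 3) F)}

lemma fixed_pow [Finite F] (p : ℕ) [hp : Fact p.Prime] (hF : Nat.card F = p ^ 2) (σ : F ≃+* F)
    (hσ : σ ≠ RingEquiv.refl F) {x : F} (hx : σ x = x) : x ^ p = x := by
  classical
  have := Fintype.ofFinite F
  let S : Subfield F := (σ : F →+* F).eqLocusField (RingHom.id F)
  have hxS : x ∈ S := hx
  have h1 : Nat.card F = Nat.card S ^ Module.finrank S F := Module.natCard_eq_pow_finrank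
  have h2 : Nat.card S ∣ p ^ 2 := by
    rw [← hF, h1]
    refine dvd_pow_self _ ?_
    have : 0 < Module.finrank S F := Module.finrank_pos
    omega
  obtain ⟨j, hj, hcard⟩ := (Nat.dvd_prime_pow hp.out).1 h2
  have h3 : 1 < Nat.card S := Finite.one_lt_card
  have hj0 : j ≠ 0 := by rintro rfl; rw [hcard, pow_zero] at h3; omega
  have hj2 : j ≠ 2 := by
    rintro rfl
    apply hσ
    have h4 : (S : Set F) = Set.univ := by
      apply Set.eq_of_subset_of_ncard_le (Set.subset_univ _) _ (Set.toFinite _)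
      rw [Set.ncard_univ, hF, ← hcard]
      exact le_of_eq rfl
    ext y
    have h5 : y ∈ (S : Set F) := by rw [h4]; exact Set.mem_univ y
    exact h5
  have hj1 : j = 1 := by omega
  rw [hj1, pow_one] at hcard
  have h6 := FiniteField.pow_card (⟨x, hxS⟩ : S)
  rw [← Nat.card_eq_fintype_card, hcard] at h6
  exact congrArg Subtype.val h6

/-- Elements of order five of `PSL₂(9)`. -/
lemma exists_five_nine {K : Type*} [Field K] [Finite K] [CharP K 3] (hK : Nat.card K = 9) :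
    ∃ x : Matrix.ProjectiveSpecialLinearGroup (Fin 2) K, x ^ 5 = 1 ∧ x ≠ 1 ∧ ∃ y, y * x * y⁻¹ = x⁻¹ := by
  have h30 : (3 : K) = 0 := by exact_mod_cast CharP.cast_eq_zero K 3
  obtain ⟨u, hu⟩ := IsCyclic.exists_generator (α := Kˣ)
  have hord : orderOf u = 8 := by
    rw [orderOf_eq_card_of_forall_mem_zpowers hu, Nat.card_units, hK]
  set t : K := (u : K) with ht
  have ht4 : t ^ 4 + 1 = 0 := by
    have h1 : (t ^ 4 - 1) * (t ^ 4 + 1) = 0 := by
      have h2 : t ^ 8 = 1 := by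
        rw [ht, ← Units.val_pow_eq_pow_val, ← hord, pow_orderOf_eq_one, Units.val_one]
      linear_combination h2
    refine (mul_eq_zero.1 h1).resolve_left fun h2 => ?_
    have h3 : u ^ 4 = 1 := Units.ext (by rw [Units.val_pow_eq_pow_val, Units.val_one]; exact sub_eq_zero.1 h2)
    have h4 := orderOf_dvd_of_pow_eq_one h3
    rw [hord] at h4
    norm_num at h4
  obtain ⟨s, hs⟩ : ∃ s : SL(2, K), s.1 = !![t, -1; 1, 0] :=
    ⟨⟨!![t, -1; 1, 0], by rw [Matrix.det_fin_two]; simp⟩, rfl⟩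
  have htr : s.1 0 0 + s.1 1 1 = t := by rw [hs]; simp
  have h5 : (QuotientGroup.mk s : Matrix.ProjectiveSpecialLinearGroup (Fin 2) K) ^ 5 = 1 := by
    apply mk_pow_eq_one s 5 (-(t ^ 3 - 2 * t)) (by
      linear_combination (t ^ 2 - 4) * ht4 + (t ^ 2 + 1) * h30)
    rw [SL2_five, htr]
    have e1 : t ^ 4 - 3 * t ^ 2 + 1 = 0 := by linear_combination ht4 - t ^ 2 * h30
    rw [e1, zero_smul, zero_sub, neg_smul]
  have h1 : (QuotientGroup.mk s : Matrix.ProjectiveSpecialLinearGroup (Fin 2) K) ≠ 1 := by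
    intro h
    have h2 := (QuotientGroup.eq_one_iff s).1 h
    rw [Matrix.SpecialLinearGroup.mem_center_iff] at h2
    obtain ⟨r, -, hr⟩ := h2
    have h3 := congrFun (congrFun hr 1) 0
    rw [hs] at h3
    simp at h3
  refine ⟨QuotientGroup.mk s, h5, h1, ?_⟩
  rcases L2_nine_elements hK (QuotientGroup.mk s) with ⟨y, b, hy⟩ | ⟨h, -⟩
  · exfalso
    apply h1
    have h3 : (QuotientGroup.mk s : Matrix.ProjectiveSpecialLinearGroup (Fin 2) K) ^ 3 = 1 := by
      have h4 : (unP K (Multiplicative.ofAdd b)) ^ 3 = 1 := EP_pow 3 _ ⟨_, rfl⟩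
      rw [← hy, conj_pow] at h4
      calc _ = y⁻¹ * (y * (QuotientGroup.mk s : Matrix.ProjectiveSpecialLinearGroup (Fin 2) K) ^ 3 * y⁻¹) * y := by group
        _ = 1 := by rw [h4]; group
    have h4 : orderOf (QuotientGroup.mk s : Matrix.ProjectiveSpecialLinearGroup (Fin 2) K) ∣ Nat.gcd 3 5 :=
      Nat.dvd_gcd (orderOf_dvd_of_pow_eq_one h3) (orderOf_dvd_of_pow_eq_one h5)
    exact orderOf_eq_one_iff.1 (Nat.dvd_one.1 h4)
  · exact h

/-- **`A₆ = L₂(9)`**, characteristic different from three. -/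
theorem L2_nine [Finite F] (hP : ActsAbsolutelyIrreducibly (matrixSet P)) (hperf : ⁅P, P⁆ = P)
    (hns : ∀ F₀ : Subfield F, F₀ ≠ ⊤ → ¬ RealisableOver F₀ (matrixSet P))
    {K : Type*} [Field K] [Finite K] [CharP K 3] (hK : Nat.card K = 9) (p : ℕ) [hp : Fact p.Prime] [CharP F p]
    (hp3 : p ≠ 3)
    (Φ : (P ⧸ (scalars (Fin 3) F).subgroupOf P) ≃* Matrix.ProjectiveSpecialLinearGroup (Fin 2) K) :
    ((2 : F) ≠ 0 ∧
      ∃ Q : (Fin 3 → F) → F, IsNondegenerateQuadraticForm Q ∧ FixesQuadForm (matrixSet P) Q) ∨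
    (Nat.card F = p ∧ (p % 15 = 1 ∨ p % 15 = 4)) ∨
    (Nat.card F = p ^ 2 ∧ (p % 15 = 11 ∨ p % 15 = 14 ∨ p = 5) ∧
      ∃ (σ : F ≃+* F) (f : (Fin 3 → F) → (Fin 3 → F) → F),
        (∀ x, σ x = x ^ p) ∧ IsUnitaryForm σ f ∧ FixesForm (matrixSet P) f) ∨
    (Nat.card F = p ^ 2 ∧ (p % 5 = 2 ∨ p % 5 = 3) ∧
      ¬ ∃ (σ : F ≃+* F) (f : (Fin 3 → F) → (Fin 3 → F) → F), IsUnitaryForm σ f ∧ FixesForm (matrixSet P) f) := by
  have hdet := le_specialLinear hperf
  have h3F : (3 : F) ≠ 0 := charP_three_ne' p hp3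
  have hsplit := L2_nine_split hperf hK h3F Φ
  have hpmod3 : p % 3 ≠ 0 := by
    intro h
    exact hp3 ((Nat.prime_dvd_prime_iff_eq Nat.prime_three hp.out).1 (Nat.dvd_of_mod_eq_zero h)).symm
  -- powers of the cube roots of one
  have hzeta : ∀ ζ : F, ζ ^ 3 = 1 → ∀ n k : ℕ, n % 3 = k → ζ ^ n = ζ ^ k := by
    intro ζ hζ n k hk
    conv_lhs => rw [← Nat.mod_add_div n 3, pow_add, pow_mul, hζ, one_pow, mul_one, hk]
  have hpow5 : ∀ g₀ : P, g₀ ^ 5 = 1 → ∀ n k : ℕ, n % 5 = k → g₀ ^ n = g₀ ^ k := by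
    intro g₀ h n k hk
    conv_lhs => rw [← Nat.mod_add_div n 5, pow_add, pow_mul, h, one_pow, mul_one, hk]
  -- traces of `p`-th powers
  have hfour : ∀ g₀ : P, g₀ ^ 4 = 1 → (orderOf g₀).Coprime p →
      (((g₀ : GL (Fin 3) F)⁻¹ : GL (Fin 3) F) : Matrix (Fin 3) (Fin 3) F).trace =
        ((g₀ : GL (Fin 3) F) : Matrix (Fin 3) (Fin 3) F).trace →
      ((g₀ : GL (Fin 3) F) : Matrix (Fin 3) (Fin 3) F).trace ^ p =
        ((g₀ : GL (Fin 3) F) : Matrix (Fin 3) (Fin 3) F).trace := by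
    intro g₀ h4 hcop hr
    rw [trace_pow_GL]
    rcases pow_prime_small (Or.inr rfl) h4 p hcop with h | h
    · have h1 : (g₀ : GL (Fin 3) F) ^ p = g₀ := by rw [← Subgroup.coe_pow, h]
      rw [h1]
    · have h1 : (g₀ : GL (Fin 3) F) ^ p = (g₀ : GL (Fin 3) F)⁻¹ := by rw [← Subgroup.coe_pow, h, Subgroup.coe_inv]
      rw [h1, hr]
  have hcopk : ∀ (g g₀ : P), (orderOf (g : GL (Fin 3) F)).Coprime p → (∃ k : ℕ, g₀ = g ^ k) → (orderOf g₀).Coprime p := by
    rintro g g₀ hcop ⟨k, rfl⟩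
    have h1 : orderOf (g ^ k) ∣ orderOf g := orderOf_pow_dvd k
    rw [← Subgroup.orderOf_coe g] at h1
    exact Nat.Coprime.of_dvd_left h1 hcop
  by_cases hc : p % 5 = 2 ∨ p % 5 = 3
  · right; right; right
    have hp5 : p ≠ 5 := by rintro rfl; omega
    have hp2mod5 : p ^ 2 % 5 = 4 := by
      rw [Nat.pow_mod]; rcases hc with h | h <;> rw [h]
    have hp2mod3 : p ^ 2 % 3 = 1 := by
      rw [Nat.pow_mod]
      have : p % 3 = 1 ∨ p % 3 = 2 := by (clear * - hpmod3; omega)
      rcases this with h | h <;> rw [h]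
    -- the traces lie in the field with `p²` elements
    have htr : ∀ g ∈ P, (g : Matrix (Fin 3) (Fin 3) F).trace ^ p ^ 2 = (g : Matrix (Fin 3) (Fin 3) F).trace := by
      intro g hg
      refine trace_of_reg' p (p ^ 2) (fun s hs hcop => ?_) g hg
      rcases hsplit ⟨s, hs⟩ with ⟨h, -⟩ | ⟨ζ, g₀, hζ, ho, hk, htr, -, hr, -⟩
      · have h1 : (s : Matrix (Fin 3) (Fin 3) F).trace = 0 := h
        rw [h1, zero_pow (pow_ne_zero 2 hp.out.ne_zero)]
      · have h1 : (s : Matrix (Fin 3) (Fin 3) F).trace = ζ * ((g₀ : GL (Fin 3) F) : Matrix (Fin 3) (Fin 3) F).trace := htr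
        rw [h1, mul_pow, hzeta ζ hζ _ 1 hp2mod3, pow_one]
        congr 1
        have hcop' := hcopk ⟨s, hs⟩ g₀ hcop hk
        rw [sq, pow_mul]
        rcases ho with h4 | h5
        · rw [hfour g₀ h4 hcop' hr, hfour g₀ h4 hcop' hr]
        · rw [trace_pow_GL, trace_pow_GL, ← pow_mul, ← sq]
          have h6 := hpow5 g₀ h5 _ 4 hp2mod5
          have h7 : (g₀ : GL (Fin 3) F) ^ p ^ 2 = (g₀ : GL (Fin 3) F)⁻¹ := by
            rw [← Subgroup.coe_pow, h6, ← Subgroup.coe_inv]
            congr 1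
            exact eq_inv_of_mul_eq_one_left (by rw [← pow_succ, h5])
          rw [h7, hr]
    have hall := pow_eq_of_no_subfield hP hns p 2 htr
    -- an element of order five
    obtain ⟨x, hx5, hx1, y, hy⟩ := exists_five_nine hK
    obtain ⟨g, rfl⟩ := pr_surjective Φ x
    obtain ⟨ζ, g₀, hζ, hg₀, hpr, hk, hval⟩ := exists_split (Φ := Φ) hdet (n := 5) (j := 1) (by norm_num) g hx5
    have hg1 : (g₀ : GL (Fin 3) F) ≠ 1 := by
      intro h
      have h1 : g₀ = 1 := Subtype.ext h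
      rw [h1, map_one] at hpr
      exact hx1 hpr.symm
    have hreal : ∀ a : P, a ^ 5 = 1 → (∃ y, y * pr Φ a * y⁻¹ = (pr Φ a)⁻¹) →
        (((a : GL (Fin 3) F)⁻¹ : GL (Fin 3) F) : Matrix (Fin 3) (Fin 3) F).trace =
          ((a : GL (Fin 3) F) : Matrix (Fin 3) (Fin 3) F).trace := by
      intro a ha hy
      have h1 := trace_eq_of_pow (Φ := Φ) hdet (n := 5) (by norm_num) (a := a) (b := a⁻¹) ha
        (by rw [inv_pow, ha, inv_one]) (by rw [map_inv]; exact hy)
      exact h1.symm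
    have hr := hreal g₀ hg₀ ⟨y, by rw [hpr]; exact hy⟩
    have hr2 := hreal (g₀ ^ 2) (by rw [← pow_mul, mul_comm, pow_mul, hg₀, one_pow])
      ⟨y, by rw [map_pow, hpr, ← conj_pow, hy, inv_pow]⟩
    have hg05 : (g₀ : GL (Fin 3) F) ^ 5 = 1 := by rw [← Subgroup.coe_pow, hg₀, Subgroup.coe_one]
    have hne := trace_sq_ne p hp5 (hdet g₀.2) hg05 hg1 hr
    have hpne : ((g₀ : GL (Fin 3) F) : Matrix (Fin 3) (Fin 3) F).trace ^ p ≠
        ((g₀ : GL (Fin 3) F) : Matrix (Fin 3) (Fin 3) F).trace := by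
      rw [trace_pow_GL]
      rcases hc with h | h
      · have h6 := hpow5 g₀ hg₀ _ 2 h
        have h7 : (g₀ : GL (Fin 3) F) ^ p = (g₀ : GL (Fin 3) F) ^ 2 := by
          rw [← Subgroup.coe_pow, h6, Subgroup.coe_pow]
        rw [h7]
        exact hne
      · have h6 := hpow5 g₀ hg₀ _ 3 h
        have h7 : (g₀ : GL (Fin 3) F) ^ p = ((g₀ ^ 2 : P) : GL (Fin 3) F)⁻¹ := by
          rw [← Subgroup.coe_pow, h6, ← Subgroup.coe_inv]
          congr 1
          exact eq_inv_of_mul_eq_one_left (by rw [← pow_add, hg₀])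
        rw [h7, hr2, Subgroup.coe_pow]
        exact hne
    have hcard : Nat.card F = p ^ 2 := by
      rcases card_cases p hall with h | h
      · exfalso
        apply hpne
        have := Fintype.ofFinite F
        have h8 := FiniteField.pow_card (((g₀ : GL (Fin 3) F) : Matrix (Fin 3) (Fin 3) F).trace)
        rwa [← Nat.card_eq_fintype_card, h] at h8
      · exact h
    refine ⟨hcard, hc, ?_⟩
    rintro ⟨σ, f, hf, hfix⟩
    apply hpne
    apply fixed_pow p hcard σ hf.ne_refl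
    rw [trace_of_unitary hf (fun u v => hfix _ ⟨g₀, g₀.2, rfl⟩ u v), hr]
  · have hc' : p % 5 = 0 ∨ p % 5 = 1 ∨ p % 5 = 4 := by omega
    have hp5 : p % 5 = 0 → p = 5 := fun h =>
      ((Nat.prime_dvd_prime_iff_eq (by norm_num) hp.out).1 (Nat.dvd_of_mod_eq_zero h)).symm
    -- traces of `p`-th powers of elements of order five
    have hfive : ∀ g₀ : P, g₀ ^ 5 = 1 → (orderOf g₀).Coprime p →
        (((g₀ : GL (Fin 3) F)⁻¹ : GL (Fin 3) F) : Matrix (Fin 3) (Fin 3) F).trace =
          ((g₀ : GL (Fin 3) F) : Matrix (Fin 3) (Fin 3) F).trace →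
        ((g₀ : GL (Fin 3) F) : Matrix (Fin 3) (Fin 3) F).trace ^ p =
          ((g₀ : GL (Fin 3) F) : Matrix (Fin 3) (Fin 3) F).trace := by
      intro g₀ h5 hcop hr
      rw [trace_pow_GL]
      rcases hc' with h | h | h
      · have h1 := hp5 h
        have h2 : orderOf g₀ ∣ Nat.gcd p p := by
          rw [Nat.gcd_self]
          have := orderOf_dvd_of_pow_eq_one h5
          rwa [← h1] at this
        rw [Nat.gcd_self] at h2
        have h3 : orderOf g₀ = 1 := Nat.eq_one_of_dvd_coprimes hcop (dvd_refl _) h2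
        rw [orderOf_eq_one_iff.1 h3, Subgroup.coe_one, one_pow]
      · have h6 := hpow5 g₀ h5 _ 1 h
        have h7 : (g₀ : GL (Fin 3) F) ^ p = (g₀ : GL (Fin 3) F) := by
          rw [← Subgroup.coe_pow, h6, pow_one]
        rw [h7]
      · have h6 := hpow5 g₀ h5 _ 4 h
        have h7 : (g₀ : GL (Fin 3) F) ^ p = (g₀ : GL (Fin 3) F)⁻¹ := by
          rw [← Subgroup.coe_pow, h6, ← Subgroup.coe_inv]
          congr 1
          exact eq_inv_of_mul_eq_one_left (by rw [← pow_succ, h5])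
        rw [h7, hr]
    have hpmod : p % 3 = 1 ∨ p % 3 = 2 := by (clear * - hpmod3; omega)
    rcases hpmod with h31 | h32
    · right; left
      have htr : ∀ g ∈ P, (g : Matrix (Fin 3) (Fin 3) F).trace ^ p ^ 1 = (g : Matrix (Fin 3) (Fin 3) F).trace := by
        intro g hg
        rw [pow_one]
        refine trace_of_reg' p p (fun s hs hcop => ?_) g hg
        rcases hsplit ⟨s, hs⟩ with ⟨h, -⟩ | ⟨ζ, g₀, hζ, ho, hk, htr, -, hr, -⟩
        · have h1 : (s : Matrix (Fin 3) (Fin 3) F).trace = 0 := h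
          rw [h1, zero_pow hp.out.ne_zero]
        · have h1 : (s : Matrix (Fin 3) (Fin 3) F).trace = ζ * ((g₀ : GL (Fin 3) F) : Matrix (Fin 3) (Fin 3) F).trace := htr
          rw [h1, mul_pow, hzeta ζ hζ _ 1 h31, pow_one]
          congr 1
          have hcop' := hcopk ⟨s, hs⟩ g₀ hcop hk
          rcases ho with h4 | h5
          · exact hfour g₀ h4 hcop' hr
          · exact hfive g₀ h5 hcop' hr
      have hall := pow_eq_of_no_subfield hP hns p 1 htr
      rw [pow_one] at hall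
      refine ⟨card_of_pow_prime p hall, ?_⟩
      have h0 : p % 5 ≠ 0 := by
        intro h
        have := hp5 h
        omega
      (clear * - hc' h31 h0; omega)
    · have htr : ∀ g ∈ P, (g : Matrix (Fin 3) (Fin 3) F).trace ^ p ^ 1 =
          ((g⁻¹ : GL (Fin 3) F) : Matrix (Fin 3) (Fin 3) F).trace := by
        intro g hg
        rw [pow_one]
        refine trace_of_reg p p (fun s hs hcop => ?_) g hg
        rcases hsplit ⟨s, hs⟩ with ⟨h, h'⟩ | ⟨ζ, g₀, hζ, ho, hk, htr, htr', hr, -⟩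
        · have h1 : (s : Matrix (Fin 3) (Fin 3) F).trace = 0 := h
          have h2 : ((s⁻¹ : GL (Fin 3) F) : Matrix (Fin 3) (Fin 3) F).trace = 0 := h'
          rw [h1, h2, zero_pow hp.out.ne_zero]
        · have h1 : (s : Matrix (Fin 3) (Fin 3) F).trace = ζ * ((g₀ : GL (Fin 3) F) : Matrix (Fin 3) (Fin 3) F).trace := htr
          have h2 : ((s⁻¹ : GL (Fin 3) F) : Matrix (Fin 3) (Fin 3) F).trace =
            ζ ^ 2 * ((g₀ : GL (Fin 3) F) : Matrix (Fin 3) (Fin 3) F).trace := htr'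
          rw [h1, h2, mul_pow, hzeta ζ hζ _ 2 h32]
          congr 1
          have hcop' := hcopk ⟨s, hs⟩ g₀ hcop hk
          rcases ho with h4 | h5
          · exact hfour g₀ h4 hcop' hr
          · exact hfive g₀ h5 hcop' hr
      obtain ⟨hpp, h | ⟨⟨x, hx⟩, h⟩⟩ := form_of_trace hP p 1 hns htr
      · exact Or.inl ⟨h.1, h.2.2⟩
      · right; right; left
        rw [pow_one] at hpp hx h
        refine ⟨?_, ?_, h⟩
        · rcases card_cases p (fun x => by rw [sq]; exact hpp x) with h8 | h8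
          · exfalso
            apply hx
            have := Fintype.ofFinite F
            have h9 := FiniteField.pow_card x
            rwa [← Nat.card_eq_fintype_card, h8] at h9
          · exact h8
        · rcases hc' with h | h | h
          · exact Or.inr (Or.inr (hp5 h))
          · left; omega
          · right; left; omega

end Cfsg.Agent.H906
end

-- part: H906/CrossL3
section
/-!
# `PSL₃(K)`, `K` odd, has no three-dimensional representation in cross characteristic (helper906)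
-/

set_option autoImplicit false
set_option linter.unusedSectionVars false

namespace Cfsg.Agent.H906

open Cfsg Cfsg.Geo SL3Par
open scoped MatrixGroups Matrix

variable {K : Type*} [Field K]

/-- The image of `uni 0 b c`. -/
def w3 (b c : K) : Matrix.ProjectiveSpecialLinearGroup (Fin 3) K := QuotientGroup.mk (uni 0 b c)

lemma w3_mul (b c b' c' : K) : w3 b c * w3 b' c' = w3 (b + b') (c + c') := by
  have h := uni_mul (0 : K) b c 0 b' c'
  rw [zero_mul, add_zero, add_zero] at h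
  change (QuotientGroup.mk (uni 0 b c * uni 0 b' c') : Matrix.ProjectiveSpecialLinearGroup (Fin 3) K) = _
  rw [h]
  rfl

lemma w3_comm (b c b' c' : K) : w3 b c * w3 b' c' = w3 b' c' * w3 b c := by
  rw [w3_mul, w3_mul, add_comm b, add_comm c]

lemma w3_zero : w3 (0 : K) 0 = 1 := by
  change (QuotientGroup.mk (uni 0 0 0) : Matrix.ProjectiveSpecialLinearGroup (Fin 3) K) = _
  rw [uni_zero]
  rfl

lemma w3_inv (b c : K) : (w3 b c)⁻¹ = w3 (-b) (-c) := by
  rw [inv_eq_iff_mul_eq_one, w3_mul, add_neg_cancel, add_neg_cancel, w3_zero]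

lemma w3_eq_one {b c : K} (h : w3 b c = 1) : b = 0 ∧ c = 0 := by
  have h1 : uni 0 b c ∈ Subgroup.center (X K) := (QuotientGroup.eq_one_iff _).1 h
  have h2 := uni_mem_center h1
  have h3 := congrArg (fun g : X K => g.1 1 2) h2
  have h4 := congrArg (fun g : X K => g.1 0 2) h2
  simp only [uni, _root_.Fin.isValue, _root_.Matrix.of_apply, _root_.Matrix.cons_val', _root_.Matrix.cons_val, _root_.Matrix.cons_val_fin_one, _root_.Matrix.cons_val_one, _root_.Matrix.cons_val_zero, _root_.Matrix.SpecialLinearGroup.coe_one, _root_.ne_eq, _root_.Fin.reduceEq, _root_.not_false_eq_true, _root_.Matrix.one_apply_ne] at h3 h4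
  exact ⟨h3, h4⟩

/-- The elementary abelian group of the `w3 b c`. -/
def E3 (K : Type*) [Field K] : Subgroup (Matrix.ProjectiveSpecialLinearGroup (Fin 3) K) where
  carrier := {e | ∃ b c, e = w3 b c}
  mul_mem' := by
    rintro _ _ ⟨b, c, rfl⟩ ⟨b', c', rfl⟩
    exact ⟨_, _, w3_mul _ _ _ _⟩
  one_mem' := ⟨0, 0, w3_zero.symm⟩
  inv_mem' := by
    rintro _ ⟨b, c, rfl⟩
    exact ⟨_, _, w3_inv _ _⟩

lemma w3_pow (n : ℕ) (b c : K) : w3 b c ^ n = w3 (n * b) (n * c) := by
  induction n with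
  | zero => rw [pow_zero, Nat.cast_zero, zero_mul, zero_mul, w3_zero]
  | succ n ih =>
    rw [pow_succ, ih, w3_mul]
    congr 1 <;> push_cast <;> ring

lemma E3_pow (r : ℕ) [CharP K r] : ∀ e ∈ E3 K, e ^ r = 1 := by
  rintro _ ⟨b, c, rfl⟩
  rw [w3_pow, CharP.cast_eq_zero, zero_mul, zero_mul, w3_zero]

/-- A block matrix acting on `E3`. -/
def bl (a b c d e : K) (h : (a * d - b * c) * e = 1) : X K :=
  ⟨!![a, b, 0; c, d, 0; 0, 0, e], by simp [Matrix.det_fin_three]; linear_combination h⟩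

lemma bl_conj (a b c d e : K) (h : (a * d - b * c) * e = 1) (y x : K) :
    (QuotientGroup.mk (bl a b c d e h) : Matrix.ProjectiveSpecialLinearGroup (Fin 3) K) * w3 y x *
      (QuotientGroup.mk (bl a b c d e h))⁻¹ =
      w3 ((a * d - b * c) * (c * x + d * y)) ((a * d - b * c) * (a * x + b * y)) := by
  rw [mul_inv_eq_iff_eq_mul]
  have h1 : bl a b c d e h * uni 0 y x =
      uni 0 ((a * d - b * c) * (c * x + d * y)) ((a * d - b * c) * (a * x + b * y)) * bl a b c d e h := by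
    apply ext'
    intro i j
    rw [mul_entry, mul_entry]
    (revert i j; simp only [uni, bl, _root_.Fin.forall_fin_succ, Fin.isValue, _root_.Matrix.of_apply, _root_.Matrix.cons_val', _root_.Matrix.cons_val_zero, _root_.Matrix.cons_val_fin_one, _root_.Matrix.cons_val_one, _root_.Matrix.cons_val, _root_.mul_one, _root_.MulZeroClass.mul_zero, _root_.add_zero, _root_.Matrix.cons_val_succ, _root_.zero_add, _root_.forall_const, _root_.one_mul, _root_.MulZeroClass.zero_mul, _root_.implies_true, _root_.and_true, _root_.true_and]) <;> (repeat' with_reducible apply And.intro)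
    · linear_combination -(a * x + b * y) * h
    · linear_combination -(c * x + d * y) * h
  exact congrArg (QuotientGroup.mk : X K → Matrix.ProjectiveSpecialLinearGroup (Fin 3) K) h1

variable {F : Type*} [Field F] {P : Subgroup (GL (Fin 3) F)}
variable (Φ : (P ⧸ (scalars (Fin 3) F).subgroupOf P) ≃* Matrix.ProjectiveSpecialLinearGroup (Fin 3) K)

include Φ

lemma br_mixed (b c : K) : Br Φ (w3 b 0) (w3 0 c) 1 := by
  obtain ⟨z, hz⟩ := Br.exists_of_comm (Φ := Φ) (w3_comm b 0 0 c)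
  have h1 := hz.conj (QuotientGroup.mk (bl (-1 : K) 0 0 1 (-1) (by ring)))
  rw [bl_conj, bl_conj] at h1
  have e1 : w3 ((-1 * 1 - 0 * 0) * (0 * 0 + 1 * b)) ((-1 * 1 - 0 * 0) * ((-1) * 0 + 0 * b)) = (w3 b 0)⁻¹ := by
    rw [w3_inv]; congr 1 <;> ring
  have e2 : w3 ((-1 * 1 - 0 * 0) * (0 * c + 1 * 0)) ((-1 * 1 - 0 * 0) * ((-1) * c + 0 * 0)) = w3 0 c := by
    congr 1 <;> ring
  rw [e1, e2] at h1
  have h2 := h1.unique hz.inv_left
  have h3 : z ^ 2 = 1 := by rw [sq]; exact eq_inv_iff_mul_eq_one.1 h2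
  have h4 := hz.pow_three
  have h5 : z = 1 := by
    have : z ^ 3 = z := by rw [pow_succ, h3, one_mul]
    rw [← this, h4]
  rwa [h5] at hz

lemma br_first (b b' : K) : Br Φ (w3 b 0) (w3 b' 0) 1 := by
  obtain ⟨z, hz⟩ := Br.exists_of_comm (Φ := Φ) (w3_comm 0 b 0 b')
  have h1 := hz.conj (QuotientGroup.mk (bl (1 : K) 0 1 1 1 (by ring)))
  rw [bl_conj, bl_conj] at h1
  have e1 : ∀ t : K, w3 ((1 * 1 - 0 * 1) * (1 * t + 1 * 0)) ((1 * 1 - 0 * 1) * (1 * t + 0 * 0)) = w3 t 0 * w3 0 t := by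
    intro t
    rw [w3_mul]; congr 1 <;> ring
  rw [e1, e1] at h1
  obtain ⟨u, hu⟩ := Br.exists_of_comm (Φ := Φ) (w3_comm b 0 b' 0)
  have h2 : Br Φ (w3 b 0 * w3 0 b) (w3 b' 0 * w3 0 b') ((u * 1) * ((1⁻¹) * z)) := by
    refine Br.mul_left (hu.mul_right (br_mixed Φ b b')) (Br.mul_right ?_ hz)
    exact (br_mixed Φ b' b).symm
  have h3 := h2.unique h1
  rw [mul_one, inv_one, one_mul] at h3
  have h4 : u = 1 := mul_eq_right.1 h3
  rwa [h4] at hu

lemma br_second (b b' : K) : Br Φ (w3 0 b) (w3 0 b') 1 := by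
  have hz := br_first Φ b b'
  have h1 := hz.conj (QuotientGroup.mk (bl (0 : K) 1 (-1) 0 1 (by ring)))
  rw [bl_conj, bl_conj] at h1
  have e1 : ∀ t : K, w3 ((0 * 0 - 1 * -1) * (-1 * 0 + 0 * t)) ((0 * 0 - 1 * -1) * (0 * 0 + 1 * t)) = w3 0 t := by
    intro t
    congr 1 <;> ring
  rwa [e1, e1] at h1

lemma br_E3 : ∀ s ∈ E3 K, ∀ t ∈ E3 K, Br Φ s t 1 := by
  rintro _ ⟨b, c, rfl⟩ _ ⟨b', c', rfl⟩
  have e1 : ∀ x y : K, w3 x y = w3 x 0 * w3 0 y := by
    intro x y
    rw [w3_mul, add_zero, zero_add]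
  rw [e1 b c, e1 b' c']
  have h := Br.mul_left ((br_first Φ b b').mul_right (br_mixed Φ b c'))
    (Br.mul_right (br_mixed Φ b' c).symm (br_second Φ c c'))
  simpa using h

theorem crossL3 [Finite F] (hdet : P ≤ specialLinear (Fin 3) F) (r : ℕ) [CharP K r]
    (hrF : (r : F) ≠ 0) (h2 : (2 : K) ≠ 0) : False := by
  set! g : Matrix.ProjectiveSpecialLinearGroup (Fin 3) K := QuotientGroup.mk (bl (0 : K) 1 1 1 (-1) (by ring)) with hg
  have hconj : ∀ y x : K, g * w3 y x * g⁻¹ = w3 (-(x + y)) (-y) := by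
    intro y x
    rw [hg, bl_conj]
    congr 1 <;> ring
  have hconj' : ∀ y x : K, g⁻¹ * w3 y x * g = w3 (-x) (x - y) := by
    intro y x
    have h := hconj (-x) (x - y)
    have e1 : w3 (-(x - y + -x)) (- -x) = w3 y x := by congr 1 <;> ring
    rw [e1] at h
    rw [← h]
    group
  have key := sq_or_cube_br hdet (br_E3 Φ) hrF (E3_pow r) (g := g)
    (by rintro _ ⟨b, c, rfl⟩; exact ⟨_, _, hconj b c⟩)
    (by rintro _ ⟨b, c, rfl⟩; exact ⟨_, _, hconj' b c⟩)
  have hpow : ∀ k : ℕ, (∀ e ∈ E3 K, g ^ k * e = e * g ^ k) → ∀ y x, g ^ k * w3 y x * (g ^ k)⁻¹ = w3 y x := by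
    intro k hk y x
    rw [hk _ ⟨y, x, rfl⟩, mul_inv_cancel_right]
  have c2 : ∀ y x, g ^ 2 * w3 y x * (g ^ 2)⁻¹ = w3 (x + 2 * y) (x + y) := by
    intro y x
    have : g ^ 2 * w3 y x * (g ^ 2)⁻¹ = g * (g * w3 y x * g⁻¹) * g⁻¹ := by
      rw [pow_two, mul_inv_rev]; simp only [mul_assoc]
    rw [this, hconj, hconj]
    congr 1 <;> ring
  have c3 : ∀ y x, g ^ 3 * w3 y x * (g ^ 3)⁻¹ = w3 (-(2 * x + 3 * y)) (-(x + 2 * y)) := by
    intro y x
    have : g ^ 3 * w3 y x * (g ^ 3)⁻¹ = g * (g ^ 2 * w3 y x * (g ^ 2)⁻¹) * g⁻¹ := by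
      rw [pow_succ' g 2, mul_inv_rev]; simp only [mul_assoc]
    rw [this, c2, hconj]
    congr 1 <;> ring
  rcases key with h | h
  · have h1 := hpow 2 h 0 1
    rw [c2] at h1
    have h3 : w3 (1 + 2 * 0 - 0) (1 + 0 - 1 : K) = 1 := by
      have : w3 (1 + 2 * 0 - 0) (1 + 0 - 1 : K) = w3 (1 + 2 * 0) (1 + 0) * (w3 0 1)⁻¹ := by
        rw [w3_inv, w3_mul]; congr 1 <;> ring
      rw [this, h1, mul_inv_cancel]
    have h4 := (w3_eq_one h3).1
    simp at h4
  · have h1 := hpow 3 h 0 1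
    rw [c3] at h1
    have h3 : w3 (-(2 * 1 + 3 * 0) - 0) (-(1 + 2 * 0) - 1 : K) = 1 := by
      have : w3 (-(2 * 1 + 3 * 0) - 0) (-(1 + 2 * 0) - 1 : K) = w3 (-(2 * 1 + 3 * 0)) (-(1 + 2 * 0)) * (w3 0 1)⁻¹ := by
        rw [w3_inv, w3_mul]; congr 1 <;> ring
      rw [this, h1, mul_inv_cancel]
    have h4 := (w3_eq_one h3).2
    apply h2
    linear_combination -h4

end Cfsg.Agent.H906
end

-- part: H906/CrossU3
section
/-!
# `PSU₃(m)`, `m` odd, has no three-dimensional representation in cross characteristic (helper906)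
-/

set_option autoImplicit false
set_option linter.unusedSectionVars false

namespace Cfsg.Agent.H906

open Cfsg Cfsg.Geo Cfsg.Agent.UThreeGen.MatGroup
open scoped MatrixGroups Matrix

section Model

variable {K : Type*} [Field K] {σ : K →+* K} [hσ : Fact (∀ x, σ (σ x) = x)]

/-- The torus element with parameter of norm one acts by `(a, b) ↦ (c³ a, b)`. -/
lemma tor_emb (c : Kˣ) (hc : σ (c : K) * (c : K) = 1) (x y : HG σ) (ha : y.a = (c : K) ^ 3 * x.a)
    (hb : y.b = x.b) : tor σ c * emb σ x * (tor σ c)⁻¹ = emb σ y := by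
  rw [mul_inv_eq_iff_eq_mul]
  apply Subtype.ext
  apply Subtype.ext
  have hc' : σ (c : K) = ((c⁻¹ : Kˣ) : K) := by
    rw [Units.val_inv_eq_inv_val]
    exact eq_inv_of_mul_eq_one_left hc
  have hcc : ((c : K))⁻¹ = ((c⁻¹ : Kˣ) : K) := by rw [Units.val_inv_eq_inv_val]
  have h0 : (c : K) ≠ 0 := c.ne_zero
  have hsa : σ y.a = ((c : K)⁻¹) ^ 3 * σ x.a := by
    rw [ha, map_mul, map_pow, hc', ← hcc]
  have hsc : σ (c : K) = (c : K)⁻¹ := eq_inv_of_mul_eq_one_left hc
  change (tor σ c).1.1 * (emb σ x).1.1 = (emb σ y).1.1 * (tor σ c).1.1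
  rw [tor_val, emb_val, emb_val, umat, umat, hsa, ha, hb, hsc]
  ext i j
  (revert i j; simp only [Matrix.mul_apply, Fin.sum_univ_three, _root_.Fin.forall_fin_succ, _root_.inv_inv, _root_.Matrix.of_apply, _root_.Matrix.cons_val', _root_.Matrix.cons_val_fin_one, Fin.isValue, _root_.Matrix.cons_val_zero, _root_.Matrix.cons_val_one, _root_.Matrix.cons_val, _root_.inv_pow, _root_.mul_one, _root_.MulZeroClass.mul_zero, _root_.add_zero, _root_.Matrix.cons_val_succ, _root_.zero_add, _root_.forall_const, _root_.one_mul, _root_.MulZeroClass.zero_mul, _root_.true_and, _root_.and_self, _root_.implies_true, _root_.and_true]) <;> (repeat' with_reducible apply And.intro) <;> field_simp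

end Model

variable {F : Type*} [Field F] {P : Subgroup (GL (Fin 3) F)}

theorem crossU3 [Finite F] (hdet : P ≤ specialLinear (Fin 3) F) {K : Type*} [Field K] [Finite K]
    (r : ℕ) [hr : Fact r.Prime] [CharP K r]
    (hrF : (r : F) ≠ 0) {m : ℕ} (hK : Nat.card K = m ^ 2) (h2 : (2 : K) ≠ 0)
    (Φ : (P ⧸ (scalars (Fin 3) F).subgroupOf P) ≃* Cfsg.PSU 3 K m) : False := by
  classical
  have := Fintype.ofFinite K
  obtain ⟨a, ha0, ha⟩ := FiniteField.card K r
  have hcardK : Nat.card K = r ^ (a : ℕ) := by rw [Nat.card_eq_fintype_card, ha]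
  obtain ⟨b, hb⟩ : ∃ b, m = r ^ b := by
    have h1 : m ∣ r ^ (a : ℕ) := by rw [← hcardK, hK, sq]; exact Dvd.intro _ rfl
    obtain ⟨b, -, hb⟩ := (Nat.dvd_prime_pow hr.out).1 h1
    exact ⟨b, hb⟩
  have hm : 1 < m := by
    rcases Nat.lt_or_ge 1 m with h | h
    · exact h
    · exfalso
      have h1 : 1 < Nat.card K := Finite.one_lt_card
      rw [hK] at h1
      have : m ^ 2 ≤ 1 ^ 2 := Nat.pow_le_pow_left h 2
      omega
  have hm2 : m ≠ 2 := by
    rintro rfl
    have h1 : ((Nat.card K : ℕ) : K) = 0 := by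
      rw [hcardK, Nat.cast_pow, CharP.cast_eq_zero, zero_pow (PNat.ne_zero a)]
    rw [hK, Nat.cast_pow] at h1
    have h3 := (pow_eq_zero_iff (two_ne_zero)).1 h1
    exact h2 (by exact_mod_cast h3)
  have hexpK : ExpChar K r := ExpChar.prime hr.out
  set! σ : K →+* K := iterateFrobenius K r b with hσdef
  have hs : ∀ x, σ x = x ^ m := fun x => by rw [hσdef, iterateFrobenius_def, hb]
  have hcardm : ∀ x : K, x ^ (m * m) = x := by
    intro x
    have := FiniteField.pow_card x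
    rwa [← Nat.card_eq_fintype_card, hK, sq] at this
  have hσ : Fact (∀ x, σ (σ x) = x) := ⟨fun x => by rw [hs, hs, ← pow_mul, hcardm]⟩
  obtain ⟨q, hqs, hqk⟩ := exists_psu_hom (σ := σ) hm hs hK
  have hinj : ∀ x : HG σ, q (emb σ x) = 1 → x = 1 := by
    intro x hx
    apply eq_one_of_mem_center
    rw [← hqk]
    exact hx
  -- an element of norm one with `c ^ 3 ≠ 1`
  obtain ⟨c, hc, hc3⟩ : ∃ c : Kˣ, σ (c : K) * (c : K) = 1 ∧ (c : K) ^ 3 ≠ 1 := by
    obtain ⟨g, hg⟩ := IsCyclic.exists_generator (α := Kˣ)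
    have hord : orderOf g = (m - 1) * (m + 1) := by
      rw [orderOf_eq_card_of_forall_mem_zpowers hg, Nat.card_units, hK]
      obtain ⟨k, rfl⟩ : ∃ k, m = k + 1 := ⟨m - 1, by omega⟩
      rw [Nat.add_sub_cancel]
      have : (k + 1) ^ 2 = k * (k + 1 + 1) + 1 := by ring
      omega
    refine ⟨g ^ (m - 1), ?_, ?_⟩
    · rw [hs, ← pow_succ, ← Units.val_pow_eq_pow_val, ← pow_mul, ← hord, pow_orderOf_eq_one, Units.val_one]
    · intro h
      have h3 : g ^ ((m - 1) * 3) = 1 := by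
        apply Units.ext
        rw [pow_mul, Units.val_pow_eq_pow_val, h, Units.val_one]
      have h4 := orderOf_dvd_of_pow_eq_one h3
      rw [hord] at h4
      have h5 := Nat.le_of_dvd (by norm_num) (Nat.dvd_of_mul_dvd_mul_left (by omega) h4)
      omega
  -- an element not fixed by `σ`
  obtain ⟨δ, hδ⟩ : ∃ δ : K, σ δ ≠ δ := by
    by_contra hcon
    push Not at hcon
    have h3 := card_le_of_pow_eq (F := K) (m := m) hm (fun x => by rw [← hs]; exact hcon x)
    rw [hK] at h3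
    have h4 := Nat.le_of_dvd (by omega) h3
    have h5 : m * 2 ≤ m ^ 2 := by rw [sq]; exact Nat.mul_le_mul_left m hm
    omega
  have hc3' : (c : K) ^ 3 - 1 ≠ 0 := sub_ne_zero.2 hc3
  -- pairs
  have hpair : ∀ a : K, ∃ x t t' : HG σ, x.a = a ∧ x = t' * t⁻¹ ∧
      tor σ c * emb σ t * (tor σ c)⁻¹ = emb σ t' := by
    intro a
    obtain ⟨t, ht⟩ := aHom_surjective (σ := σ) hm hs hK (a / ((c : K) ^ 3 - 1))
    have h1 : t.b + σ t.b = ((c : K) ^ 3 * t.a) * σ ((c : K) ^ 3 * t.a) := by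
      have h2 := t.h
      rw [map_mul, map_pow]
      have h3 : (c : K) ^ 3 * σ (c : K) ^ 3 = 1 := by rw [← mul_pow, mul_comm, hc, one_pow]
      linear_combination h2 - t.a * σ t.a * h3
    refine ⟨⟨_, _, h1⟩ * t⁻¹, t, ⟨_, _, h1⟩, ?_, rfl, tor_emb c hc _ _ rfl rfl⟩
    rw [mul_a, inv_a]
    change (c : K) ^ 3 * t.a + -t.a = a
    rw [ht]
    field_simp
    ring
  obtain ⟨x, t, t', hxa, hx, ht⟩ := hpair 1
  obtain ⟨y, s, s', hya, hy, hs'⟩ := hpair δ
  -- the commutator
  obtain ⟨u, hu⟩ : ∃ u : HG σ, x * y = u * (y * x) := ⟨x * y * (y * x)⁻¹, by group⟩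
  have hua : u.a = 0 := by
    have := congrArg HG.a hu
    rw [mul_a, mul_a, mul_a] at this
    linear_combination -this
  have hub : u.b = σ δ - δ := by
    have := congrArg HG.b hu
    rw [mul_b, mul_b, mul_b, hua, hxa, hya, map_one] at this
    linear_combination -this
  have hub0 : u.b ≠ 0 := by rw [hub]; exact sub_ne_zero.2 hδ
  have hcent : ∀ z : HG σ, u * z = z * u := by
    intro z
    ext
    · rw [mul_a, mul_a, add_comm]
    · rw [mul_b, mul_b, hua, map_zero, zero_mul, mul_zero, add_comm u.b]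
  have htu : tor σ c * emb σ u * (tor σ c)⁻¹ = emb σ u :=
    tor_emb c hc u u (by rw [hua, mul_zero]) rfl
  have hupow : ∀ n : ℕ, (u ^ n).a = 0 ∧ (u ^ n).b = n * u.b := by
    intro n
    induction n with
    | zero => rw [pow_zero]; constructor <;> simp [one_a]
    | succ n ih =>
      rw [pow_succ, mul_a, mul_b, ih.1, ih.2, hua]
      constructor
      · ring
      · rw [map_zero]; push_cast; ring
  have hur : u ^ r = 1 := by
    ext
    · exact (hupow r).1
    · rw [(hupow r).2, CharP.cast_eq_zero, zero_mul]; rfl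
  -- the commutator scalars of `u` with `x` and `y`
  have hbr : ∀ z t t' : HG σ, z = t' * t⁻¹ → tor σ c * emb σ t * (tor σ c)⁻¹ = emb σ t' →
      Br Φ (q (emb σ u)) (q (emb σ z)) 1 := by
    intro z t t' hz ht
    obtain ⟨k, hk⟩ := Br.exists_of_comm (Φ := Φ) (e := q (emb σ u)) (f := q (emb σ t))
      (by rw [← map_mul, ← map_mul, hcent, map_mul, map_mul])
    have h1 := hk.conj (q (tor σ c))
    rw [← map_inv, ← map_mul, ← map_mul, ← map_mul, ← map_mul, htu, ht] at h1
    have h3 := h1.mul_right hk.inv_right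
    rw [mul_inv_cancel] at h3
    rw [hz, map_mul, map_mul, map_inv, map_inv]
    exact h3
  have hbx := hbr x t t' hx ht
  have hby := hbr y s s' hy hs'
  -- lifts
  obtain ⟨A, hA⟩ := pr_surjective Φ (q (emb σ x))
  obtain ⟨B, hB⟩ := pr_surjective Φ (q (emb σ y))
  set! V : P := A * B * (B * A)⁻¹ with hV
  have hprV : pr Φ V = q (emb σ u) := by
    rw [hV, map_mul, map_inv, map_mul, map_mul, hA, hB, mul_inv_eq_iff_eq_mul, ← map_mul, ← map_mul, ← map_mul,
      ← map_mul, ← map_mul, ← map_mul, hu]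
  have hAB : (A : GL (Fin 3) F) * B = (V : GL (Fin 3) F) * (B * A) := by
    rw [hV]; push_cast; group
  have hVA := hbx.comm_of_one hprV hA
  have hVB := hby.comm_of_one hprV hB
  obtain ⟨d, hd, hdP⟩ := exists_scalar_exp hdet
  have hVr : (V : GL (Fin 3) F) ^ (r * d) = 1 := by
    rw [pow_mul]
    have h1 : pr Φ (V ^ r) = 1 := by rw [map_pow, hprV, ← map_pow, ← map_pow, hur, map_one, map_one]
    exact hdP _ (P.pow_mem V.2 r) ((pr_eq_one Φ).1 h1)
  have hfin := sq_eq_one_or_scalar' (A := Subgroup.zpowers (V : GL (Fin 3) F)) (x := (A : GL (Fin 3) F))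
    (y := (B : GL (Fin 3) F)) (v := (V : GL (Fin 3) F))
    (by
      rintro _ ⟨i, rfl⟩ _ ⟨j, rfl⟩
      simp only
      rw [← zpow_add, ← zpow_add, add_comm])
    (by
      rintro _ ⟨i, rfl⟩
      refine ⟨r * d, by rw [Nat.cast_mul]; exact mul_ne_zero hrF hd, ?_⟩
      simp only
      rw [← zpow_natCast, ← zpow_mul, mul_comm, zpow_mul, zpow_natCast, hVr, one_zpow])
    (Subgroup.mem_zpowers _) hAB
    (by
      rintro _ ⟨i, rfl⟩
      exact (Commute.zpow_right (show Commute (A : GL (Fin 3) F) (V : GL (Fin 3) F) from hVA.symm) i).eq)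
    (by
      rintro _ ⟨i, rfl⟩
      exact (Commute.zpow_right (show Commute (B : GL (Fin 3) F) (V : GL (Fin 3) F) from hVB.symm) i).eq)
  rcases hfin with h | ⟨k, hk⟩
  · have h1 : pr Φ (V ^ 2) = 1 := by
      have : V ^ 2 = 1 := Subtype.ext h
      rw [this, map_one]
    rw [map_pow, hprV, ← map_pow, ← map_pow] at h1
    have h3 := (hupow 2).2
    rw [hinj _ h1, one_b] at h3
    exact mul_ne_zero h2 hub0 (by exact_mod_cast h3.symm)
  · have hk0 : k ≠ 0 := by
      rintro rfl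
      rw [zero_smul] at hk
      exact (Units.ne_zero (V : GL (Fin 3) F)) hk
    have h1 : pr Φ V = 1 := (pr_eq_one Φ).2 ((mem_scalars_iff _).2 ⟨Units.mk0 k hk0, hk⟩)
    rw [hprV] at h1
    apply hub0
    rw [hinj _ h1, one_b]

end Cfsg.Agent.H906
end

-- part: H906/DefFin
section
/-!
# Defining characteristic: conclusions (helper906)
-/

set_option autoImplicit false
set_option linter.unusedSectionVars false

namespace Cfsg.Agent.H906

open Cfsg Cfsg.Geo
open scoped MatrixGroups Matrix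

variable {F : Type*} [Field F] {P : Subgroup (GL (Fin 3) F)}

lemma charP_three_ne {K : Type*} [Field K] (p : ℕ) [hp : Fact p.Prime] [CharP K p] (h : p ≠ 3) : (3 : K) ≠ 0 := by
  intro h3
  have h4 : ((3 : ℕ) : K) = 0 := by exact_mod_cast h3
  have h5 := (CharP.cast_eq_zero_iff K p 3).1 h4
  exact h ((Nat.prime_dvd_prime_iff_eq hp.out Nat.prime_three).1 h5)

/-- **`L₂` in defining characteristic.** -/
theorem L2_def [Finite F] (hP : ActsAbsolutelyIrreducibly (matrixSet P)) (hperf : ⁅P, P⁆ = P)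
    {K : Type*} [Field K] [Finite K] (p : ℕ) [hp : Fact p.Prime] [CharP F p] [CharP K p]
    (Φ : (P ⧸ (scalars (Fin 3) F).subgroupOf P) ≃* Matrix.ProjectiveSpecialLinearGroup (Fin 2) K) :
    (2 : F) ≠ 0 ∧
    ∃ Q : (Fin 3 → F) → F, IsNondegenerateQuadraticForm Q ∧ FixesQuadForm (matrixSet P) Q :=
  quad_of_real hP fun g hg => L2_real hperf p Φ g hg

/-- **`L₃` in defining characteristic.** -/
theorem L3_def [Finite F] (hP : ActsAbsolutelyIrreducibly (matrixSet P)) (hperf : ⁅P, P⁆ = P)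
    (hns : ∀ F₀ : Subfield F, F₀ ≠ ⊤ → ¬ RealisableOver F₀ (matrixSet P))
    {K : Type*} [Field K] [Finite K] (p : ℕ) [hp : Fact p.Prime] [CharP F p] [CharP K p]
    (Φ : (P ⧸ (scalars (Fin 3) F).subgroupOf P) ≃* Matrix.ProjectiveSpecialLinearGroup (Fin 3) K) :
    P = specialLinear (Fin 3) F := by
  have hdet := le_specialLinear hperf
  refine L3_eq_specialLinear hP hdet hperf hns p Φ fun g hg => ?_
  by_cases hp3 : p = 3
  · subst hp3
    refine L3_trace hP 3 Φ (d := 1) (Or.inl rfl) (fun g hg hs => ?_) (Nat.coprime_one_right 3)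
      (one_dvd _) g hg
    rw [pow_one]
    exact scalar_eq_one_of_char_three hdet hg hs
  · have h3 : (3 : K) ≠ 0 := charP_three_ne p hp3
    by_cases h31 : 3 ∣ Nat.card K - 1
    · exact L3_trace hP p Φ (d := 3) (Or.inr rfl) (fun g hg hs => scalar_pow_three hdet hg hs)
        ((Nat.coprime_primes hp.out Nat.prime_three).2 hp3) h31 g hg
    · obtain ⟨C, hC, hidx⟩ := L3_cyclic h3 h31
      refine L3_trace hP p Φ (d := 1) (Or.inl rfl) (fun g hg hs => ?_) (Nat.coprime_one_right p)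
        (one_dvd _) g hg
      rw [pow_one]
      exact scalar_eq_one_of_cyclic hperf Φ C hC hidx hg hs

/-- **`U₃` in defining characteristic.** -/
theorem U3_def [Finite F] (hP : ActsAbsolutelyIrreducibly (matrixSet P)) (hperf : ⁅P, P⁆ = P)
    (hsimp : IsSimpleGroup (P ⧸ (scalars (Fin 3) F).subgroupOf P))
    (hns : ∀ F₀ : Subfield F, F₀ ≠ ⊤ → ¬ RealisableOver F₀ (matrixSet P))
    {K : Type*} [Field K] [Finite K] (p : ℕ) [hp : Fact p.Prime] [CharP F p] [CharP K p] {m : ℕ}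
    (hK : Nat.card K = m ^ 2)
    (Φ : (P ⧸ (scalars (Fin 3) F).subgroupOf P) ≃* Cfsg.PSU 3 K m) :
    ((2 : F) ≠ 0 ∧
      ∃ Q : (Fin 3 → F) → F, IsNondegenerateQuadraticForm Q ∧ FixesQuadForm (matrixSet P) Q) ∨
    (Nat.card F = m ^ 2 ∧ ∃ (σ : F ≃+* F) (f : (Fin 3 → F) → (Fin 3 → F) → F),
        (∀ x, σ x = x ^ m) ∧ IsUnitaryForm σ f ∧ FixesForm (matrixSet P) f) := by
  classical
  have := Fintype.ofFinite K
  have := Fintype.ofFinite F
  have hdet := le_specialLinear hperf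
  obtain ⟨a, ha0, ha⟩ := FiniteField.card K p
  have hcardK : Nat.card K = p ^ (a : ℕ) := by rw [Nat.card_eq_fintype_card, ha]
  obtain ⟨b, hb⟩ : ∃ b, m = p ^ b := by
    have h1 : m ∣ p ^ (a : ℕ) := by rw [← hcardK, hK, sq]; exact Dvd.intro _ rfl
    obtain ⟨b, -, hb⟩ := (Nat.dvd_prime_pow hp.out).1 h1
    exact ⟨b, hb⟩
  have hm : 1 < m := by
    rcases Nat.lt_or_ge 1 m with h | h
    · exact h
    · exfalso
      have h1 : 1 < Nat.card K := Finite.one_lt_card
      rw [hK] at h1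
      have : m ^ 2 ≤ 1 ^ 2 := Nat.pow_le_pow_left h 2
      omega
  have hb0 : b ≠ 0 := by
    rintro rfl
    rw [pow_zero] at hb
    omega
  -- traces
  have htr : ∀ g ∈ P, (g : Matrix (Fin 3) (Fin 3) F).trace ^ m =
      ((g⁻¹ : GL (Fin 3) F) : Matrix (Fin 3) (Fin 3) F).trace := by
    intro g hg
    by_cases hp3 : p = 3
    · subst hp3
      refine U3_trace hP hperf hsimp 3 hK Φ (d := 1) (Or.inl rfl) (fun g hg hs => ?_)
        (Nat.coprime_one_right 3) g hg
      rw [pow_one]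
      exact scalar_eq_one_of_char_three hdet hg hs
    · by_cases h31 : 3 ∣ m + 1
      · exact U3_trace hP hperf hsimp p hK Φ (d := 3) (Or.inr ⟨rfl, h31⟩)
          (fun g hg hs => scalar_pow_three hdet hg hs)
          ((Nat.coprime_primes hp.out Nat.prime_three).2 hp3) g hg
      · have h3 : ¬ 3 ∣ m := by
          rw [hb]
          intro h
          exact hp3 ((Nat.prime_dvd_prime_iff_eq Nat.prime_three hp.out).1
            (Nat.prime_three.dvd_of_dvd_pow h)).symm
        obtain ⟨C, hC, hidx⟩ := U3_cyclic hK h3 h31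
        refine U3_trace hP hperf hsimp p hK Φ (d := 1) (Or.inl rfl) (fun g hg hs => ?_)
          (Nat.coprime_one_right p) g hg
        rw [pow_one]
        exact scalar_eq_one_of_cyclic hperf Φ C hC hidx hg hs
  rw [hb] at htr
  obtain ⟨hmm, h | ⟨hne, σ, f, hσ, hf, hfix⟩⟩ := form_of_trace hP p b hns htr
  · exact Or.inl ⟨h.1, h.2.2⟩
  · right
    rw [← hb] at hσ hmm hne
    refine ⟨?_, σ, f, hσ, hf, hfix⟩
    -- cardinalities
    obtain ⟨e, he0, he⟩ := FiniteField.card F p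
    have hcardF : Nat.card F = p ^ (e : ℕ) := by rw [Nat.card_eq_fintype_card, he]
    have hp1 : 1 < p := hp.out.one_lt
    have hdvd : Nat.card F - 1 ∣ m * m - 1 := card_le_of_pow_eq (by nlinarith only [hm]) hmm
    have hle : Nat.card F ≤ m ^ 2 := by
      have h1 : 1 < Nat.card F := Finite.one_lt_card
      have h2 : 0 < m * m - 1 := by
        have : 1 < m * m := by nlinarith only [hm]
        omega
      have := Nat.le_of_dvd h2 hdvd
      rw [sq]
      omega
    -- `m ≤ card F`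
    have hge : m ≤ Nat.card F := by
      have hexpK : ExpChar K p := ExpChar.prime hp.out
      set! τ : K →+* K := iterateFrobenius K p b with hτdef
      have hs : ∀ x, τ x = x ^ m := fun x => by rw [hτdef, iterateFrobenius_def, hb]
      have hcardm : ∀ x : K, x ^ (m * m) = x := by
        intro x
        have := FiniteField.pow_card x
        rwa [← Nat.card_eq_fintype_card, hK, sq] at this
      have hτ : Fact (∀ x, τ (τ x) = x) := ⟨fun x => by rw [hs, hs, ← pow_mul, hcardm]⟩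
      obtain ⟨q, hqs, hqk⟩ := exists_psu_hom (σ := τ) hm hs hK
      have hfinG : Finite (GL (Fin 3) F) := inferInstance
      have hinj : Function.Injective (q.comp (Cfsg.Agent.UThreeGen.MatGroup.emb τ)) := by
        rw [injective_iff_map_eq_one]
        intro x hx
        apply Cfsg.Agent.UThreeGen.MatGroup.eq_one_of_mem_center
        rw [← hqk]
        exact hx
      have hU : m ^ 3 ∣ Nat.card (GL (Fin 3) F) := by
        have h1 := Subgroup.card_dvd_of_injective _ hinj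
        rw [← Nat.card_congr Φ.toEquiv, card_HG hm hs hK] at h1
        exact h1.trans ((Subgroup.card_quotient_dvd_card _).trans (Subgroup.card_subgroup_dvd_card P))
      rw [hb, hcardF]
      rw [hb, Matrix.card_GL_field, ← Nat.card_eq_fintype_card, hcardF, Fin.prod_univ_three] at hU
      set! Q := p ^ (e : ℕ) with hQ; rewrite [← hQ] at hU hcardF he ⊢
      have hQ1 : 1 < Q := Nat.one_lt_pow e.2.ne' hp1
      have e1 : Q ^ 3 - Q ^ ((0 : Fin 3) : ℕ) = Q ^ 3 - 1 := by simp only [_root_.Fin.isValue, _root_.Fin.coe_ofNat_eq_mod, _root_.Nat.zero_mod, _root_.pow_zero]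
      have e2 : Q ^ 3 - Q ^ ((1 : Fin 3) : ℕ) = Q * (Q ^ 2 - 1) := by
        simp only [Fin.val_one, pow_one, Nat.mul_sub, mul_one]
        ring_nf
      have e3 : Q ^ 3 - Q ^ ((2 : Fin 3) : ℕ) = Q ^ 2 * (Q - 1) := by
        simp only [Fin.val_two, Nat.mul_sub, mul_one]
        ring_nf
      rw [e1, e2, e3] at hU
      have hcop : ∀ n, 0 < n → (p ^ (b * 3)).Coprime (Q ^ n - 1) := by
        intro n hn
        apply Nat.Coprime.pow_left
        rw [Nat.Prime.coprime_iff_not_dvd hp.out]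
        intro hdvd
        have h1 : p ∣ Q ^ n := dvd_pow (dvd_pow_self p e.2.ne') hn.ne'
        have h2 : Q ^ n = Q ^ n - 1 + 1 := (Nat.sub_add_cancel (Nat.one_le_pow _ _ (by omega))).symm
        rw [h2] at h1
        have h3 := (Nat.dvd_add_right hdvd).1 h1
        exact hp1.ne' (Nat.dvd_one.1 h3)
      have h1 : p ^ (b * 3) ∣ Q ^ 3 := by
        have h2 : (p ^ b) ^ 3 = p ^ (b * 3) := (pow_mul _ _ _).symm
        rw [h2] at hU
        have h3 : (Q ^ 3 - 1) * (Q * (Q ^ 2 - 1)) * (Q ^ 2 * (Q - 1)) =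
            (Q ^ 3 - 1) * ((Q ^ 2 - 1) * ((Q ^ 1 - 1) * Q ^ 3)) := by
          rw [pow_one]; ring
        rw [h3] at hU
        exact (hcop 1 one_pos).dvd_of_dvd_mul_left ((hcop 2 two_pos).dvd_of_dvd_mul_left
          ((hcop 3 three_pos).dvd_of_dvd_mul_left hU))
      rw [hQ, ← pow_mul] at h1
      have h4 := (Nat.pow_dvd_pow_iff_le_right hp1).1 h1
      apply Nat.pow_le_pow_right hp.out.pos
      omega
    -- `card F ≠ m`, so by divisibility `card F = m ^ 2`
    rw [hcardF] at hdvd hle hge ⊢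
    rw [hb, ← pow_add] at hdvd
    rw [hb, ← pow_mul] at hle ⊢
    rw [hb] at hge
    have heb : b ≤ (e : ℕ) := (Nat.pow_le_pow_iff_right hp1).1 hge
    have he2 : (e : ℕ) ≤ b * 2 := (Nat.pow_le_pow_iff_right hp1).1 hle
    have hdv : (e : ℕ) ∣ b + b := by
      have h5 := Nat.gcd_eq_left hdvd
      rw [Nat.pow_sub_one_gcd_pow_sub_one] at h5
      have h6 : 1 ≤ p ^ (e : ℕ) := Nat.one_le_pow _ _ (by omega)
      have h7 : 1 ≤ p ^ (Nat.gcd (e : ℕ) (b + b)) := Nat.one_le_pow _ _ (by omega)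
      have h8 : p ^ (Nat.gcd (e : ℕ) (b + b)) = p ^ (e : ℕ) := by omega
      have h9 := Nat.pow_right_injective (Nat.succ_le_of_lt hp1) h8
      exact Nat.gcd_eq_left_iff_dvd.1 h9
    obtain ⟨k, hk⟩ := hdv
    rcases Nat.lt_or_ge k 2 with hk2 | hk2
    · interval_cases k
      · omega
      · congr 1; omega
    · -- then `e = b`
      exfalso
      have he3 : (e : ℕ) = b := by nlinarith only [heb, hk, hk2]
      obtain ⟨x, hx⟩ := hne
      apply hx
      have h5 := FiniteField.pow_card x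
      rw [← Nat.card_eq_fintype_card, hcardF, he3, ← hb] at h5
      exact h5

end Cfsg.Agent.H906
end

-- part: H906/CoreThree
section
/-!
# The residual core in dimension three (helper906)

`Concl P p` is the list; `concl_odd` and `concl_even` derive it from the socle lists.
-/

set_option autoImplicit false
set_option linter.unusedSectionVars false

namespace Cfsg.Agent.H906

open Cfsg Cfsg.Geo
open scoped MatrixGroups Matrix

variable {F : Type*} [Field F]

/-- `P` fixes a unitary form for the automorphism `x ↦ x ^ m`. -/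
def FixesUnitary (P : Subgroup (GL (Fin 3) F)) (m : ℕ) : Prop :=
  ∃ (σ : F ≃+* F) (f : (Fin 3 → F) → (Fin 3 → F) → F),
    (∀ x, σ x = x ^ m) ∧ IsUnitaryForm σ f ∧ FixesForm (matrixSet P) f

/-- The possibilities for a residual core in dimension three. -/
def Concl (P : Subgroup (GL (Fin 3) F)) (p : ℕ) : Prop :=
  P = specialLinear (Fin 3) F ∨
  (∃ Q : (Fin 3 → F) → F, IsNondegenerateQuadraticForm Q ∧ FixesQuadForm (matrixSet P) Q) ∨
  (∃ (K : Type) (_ : Field K) (_ : Fintype K) (m : ℕ), Fintype.card K = m ^ 2 ∧ CharP K p ∧ Nat.card F = m ^ 2 ∧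
    FixesUnitary P m ∧ Nonempty ((P ⧸ (scalars (Fin 3) F).subgroupOf P) ≃* Cfsg.PSU 3 K m)) ∨
  (p ≠ 2 ∧ p ≠ 7 ∧
    Nonempty ((P ⧸ (scalars (Fin 3) F).subgroupOf P) ≃* Matrix.ProjectiveSpecialLinearGroup (Fin 3) (ZMod 2)) ∧
    ((Nat.card F = p ∧ (p % 7 = 1 ∨ p % 7 = 2 ∨ p % 7 = 4)) ∨
      (Nat.card F = p ^ 2 ∧ (p % 7 = 3 ∨ p % 7 = 5 ∨ p % 7 = 6) ∧ FixesUnitary P p))) ∨
  (p ≠ 3 ∧ Nonempty ((P ⧸ (scalars (Fin 3) F).subgroupOf P) ≃* alternatingGroup (Fin 6)) ∧
    ((Nat.card F = p ∧ (p % 15 = 1 ∨ p % 15 = 4)) ∨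
      (Nat.card F = p ^ 2 ∧ (p % 15 = 11 ∨ p % 15 = 14 ∨ p = 5) ∧ FixesUnitary P p) ∨
      (Nat.card F = p ^ 2 ∧ (p % 5 = 2 ∨ p % 5 = 3) ∧
        ¬ ∃ (σ : F ≃+* F) (f : (Fin 3 → F) → (Fin 3 → F) → F), IsUnitaryForm σ f ∧ FixesForm (matrixSet P) f))) ∨
  (p = 5 ∧ Nat.card F = p ^ 2 ∧ FixesUnitary P p ∧
    Nonempty ((P ⧸ (scalars (Fin 3) F).subgroupOf P) ≃* alternatingGroup (Fin 7)))

variable {P : Subgroup (GL (Fin 3) F)}

lemma odd_card_two_ne {K : Type*} [Field K] [Fintype K] (h : Odd (Fintype.card K)) : (2 : K) ≠ 0 := by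
  intro h2
  obtain ⟨p, hp⟩ := CharP.exists K
  obtain ⟨n, hpp, hn⟩ := FiniteField.card K p
  have h3 : p ∣ 2 := by
    rw [← CharP.cast_eq_zero_iff K p 2]
    exact_mod_cast h2
  have h4 := (Nat.prime_dvd_prime_iff_eq hpp Nat.prime_two).1 h3
  rw [hn, h4] at h
  have h5 : Even (2 ^ (n : ℕ)) := (Nat.even_pow' n.pos.ne').2 even_two
  exact (Nat.not_even_iff_odd.2 h) h5

/-- `L₂(K)`, `|K|` odd. -/
theorem concl_L2 [Finite F] (hP : ActsAbsolutelyIrreducibly (matrixSet P)) (hperf : ⁅P, P⁆ = P)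
    (hns : ∀ F₀ : Subfield F, F₀ ≠ ⊤ → ¬ RealisableOver F₀ (matrixSet P)) (p : ℕ) [hp : Fact p.Prime] [CharP F p]
    (hp2 : p ≠ 2) {K : Type} [Field K] [Fintype K] (hK : Odd (Fintype.card K)) (hK5 : 5 ≤ Fintype.card K)
    (Φ : (P ⧸ (scalars (Fin 3) F).subgroupOf P) ≃* Matrix.ProjectiveSpecialLinearGroup (Fin 2) K) : Concl P p := by
  obtain ⟨r, hr⟩ := CharP.exists K
  obtain ⟨n, hrp, hn⟩ := FiniteField.card K r
  have hrF : Fact r.Prime := ⟨hrp⟩
  have h2K := odd_card_two_ne hK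
  by_cases hpr : r = p
  · subst hpr
    exact Or.inr (Or.inl (L2_def hP hperf r Φ).2)
  · have hr0 : (r : F) ≠ 0 := by
      intro h
      have h1 := (CharP.cast_eq_zero_iff F p r).1 h
      exact hpr ((Nat.prime_dvd_prime_iff_eq hp.out hrp).1 h1).symm
    rcases crossL2 (le_specialLinear hperf) r hr0 h2K Φ with ⟨-, h⟩ | ⟨hr3, hle, -⟩
    · rw [Nat.card_eq_fintype_card] at h
      have h' : Fintype.card K = 5 ∨ Fintype.card K = 7 := by omega
      rcases h' with h | h
      · exact Or.inr (Or.inl (L2_five hP hperf (by rw [Nat.card_eq_fintype_card, h]) Φ).2)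
      · have hp7 : p ≠ 7 := by
          rintro rfl
          apply hpr
          have h1 : r ∣ 7 := by rw [← h, hn]; exact dvd_pow_self r n.pos.ne'
          exact (Nat.prime_dvd_prime_iff_eq hrp (by norm_num)).1 h1
        rcases L2_seven hP hperf hns (by rw [Nat.card_eq_fintype_card, h]) p hp7 Φ with h1 | h1 | h1
        · exact Or.inr (Or.inl h1.2)
        · obtain ⟨e⟩ := Cfsg.Agent.S0255.result (F := K) (K := ZMod 2) h (ZMod.card 2)
          exact Or.inr (Or.inr (Or.inr (Or.inl ⟨hp2, hp7, ⟨Φ.trans e⟩, Or.inl h1⟩)))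
        · obtain ⟨e⟩ := Cfsg.Agent.S0255.result (F := K) (K := ZMod 2) h (ZMod.card 2)
          exact Or.inr (Or.inr (Or.inr (Or.inl ⟨hp2, hp7, ⟨Φ.trans e⟩, Or.inr h1⟩)))
    · subst hr3
      have h9 : Fintype.card K = 9 := by
        rw [Nat.card_eq_fintype_card] at hle
        rw [hn] at hle hK5 ⊢
        have h1 : (n : ℕ) < 3 := by
          by_contra hcon
          push Not at hcon
          have : 3 ^ 3 ≤ 3 ^ (n : ℕ) := Nat.pow_le_pow_right (by norm_num) hcon
          omega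
        have h2 : (n : ℕ) ≠ 1 := by
          intro h
          rw [h] at hK5
          omega
        have h3 := n.pos
        have h4 : (n : ℕ) = 2 := by omega
        rw [h4]
        norm_num
      have hp3 : p ≠ 3 := fun h => hpr h.symm
      obtain ⟨e⟩ := Cfsg.Agent.S0254.result (F := K) h9
      rcases L2_nine hP hperf hns (by rw [Nat.card_eq_fintype_card, h9]) p hp3 Φ with h1 | h1
      · exact Or.inr (Or.inl h1.2)
      · exact Or.inr (Or.inr (Or.inr (Or.inr (Or.inl ⟨hp3, ⟨Φ.trans e⟩, h1⟩))))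

/-- `L₃(K)`. -/
theorem concl_L3 [Finite F] (hP : ActsAbsolutelyIrreducibly (matrixSet P)) (hperf : ⁅P, P⁆ = P)
    (hns : ∀ F₀ : Subfield F, F₀ ≠ ⊤ → ¬ RealisableOver F₀ (matrixSet P)) (p : ℕ) [hp : Fact p.Prime] [CharP F p]
    {K : Type} [Field K] [Fintype K] (hK : CharP K p ∨ Odd (Fintype.card K))
    (Φ : (P ⧸ (scalars (Fin 3) F).subgroupOf P) ≃* Matrix.ProjectiveSpecialLinearGroup (Fin 3) K) : Concl P p := by
  by_cases hKp : CharP K p
  · exact Or.inl (L3_def hP hperf hns p Φ)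
  · have hK := hK.resolve_left hKp
    obtain ⟨r, hr⟩ := CharP.exists K
    obtain ⟨n, hrp, hn⟩ := FiniteField.card K r
    have hr0 : (r : F) ≠ 0 := by
      intro h
      have h1 := (CharP.cast_eq_zero_iff F p r).1 h
      have h2 := (Nat.prime_dvd_prime_iff_eq hp.out hrp).1 h1
      apply hKp
      rwa [h2]
    exact (crossL3 Φ (le_specialLinear hperf) r hr0 (odd_card_two_ne hK)).elim

/-- `U₃(m)`. -/
theorem concl_U3 [Finite F] (hP : ActsAbsolutelyIrreducibly (matrixSet P)) (hperf : ⁅P, P⁆ = P)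
    (hsimp : IsSimpleGroup (P ⧸ (scalars (Fin 3) F).subgroupOf P))
    (hns : ∀ F₀ : Subfield F, F₀ ≠ ⊤ → ¬ RealisableOver F₀ (matrixSet P)) (p : ℕ) [hp : Fact p.Prime] [CharP F p]
    {K : Type} [Field K] [Fintype K] {m : ℕ} (hKm : Fintype.card K = m ^ 2) (hK : CharP K p ∨ Odd m)
    (Φ : (P ⧸ (scalars (Fin 3) F).subgroupOf P) ≃* Cfsg.PSU 3 K m) : Concl P p := by
  by_cases hKp : CharP K p
  · rcases U3_def hP hperf hsimp hns p (by rw [Nat.card_eq_fintype_card, hKm]) Φ with h | ⟨h1, h2⟩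
    · exact Or.inr (Or.inl h.2)
    · exact Or.inr (Or.inr (Or.inl ⟨K, inferInstance, inferInstance, m, hKm, hKp, h1, h2, ⟨Φ⟩⟩))
  · have hK := hK.resolve_left hKp
    obtain ⟨r, hr⟩ := CharP.exists K
    obtain ⟨n, hrp, hn⟩ := FiniteField.card K r
    have hrf : Fact r.Prime := ⟨hrp⟩
    have hr0 : (r : F) ≠ 0 := by
      intro h
      have h1 := (CharP.cast_eq_zero_iff F p r).1 h
      have h2 := (Nat.prime_dvd_prime_iff_eq hp.out hrp).1 h1
      apply hKp
      rwa [h2]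
    exact (crossU3 (le_specialLinear hperf) r hr0 (by rw [Nat.card_eq_fintype_card, hKm])
      (odd_card_two_ne (by rw [hKm]; exact hK.pow)) Φ).elim

/-- `A₆`. -/
theorem concl_A6 [Finite F] (hP : ActsAbsolutelyIrreducibly (matrixSet P)) (hperf : ⁅P, P⁆ = P)
    (hns : ∀ F₀ : Subfield F, F₀ ≠ ⊤ → ¬ RealisableOver F₀ (matrixSet P)) (p : ℕ) [hp : Fact p.Prime] [CharP F p]
    (Φ : (P ⧸ (scalars (Fin 3) F).subgroupOf P) ≃* alternatingGroup (Fin 6)) : Concl P p := by
  have h3p : Fact (Nat.Prime 3) := ⟨by norm_num⟩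
  have h9 : Nat.card (GaloisField 3 2) = 9 := by
    rw [GaloisField.card 3 2 (by norm_num)]
    norm_num
  have : Fintype (GaloisField 3 2) := Fintype.ofFinite _
  have h9' : Fintype.card (GaloisField 3 2) = 9 := by rw [← Nat.card_eq_fintype_card, h9]
  obtain ⟨e⟩ := Cfsg.Agent.S0254.result (F := GaloisField 3 2) h9'
  by_cases hp3 : p = 3
  · subst hp3
    exact Or.inr (Or.inl (L2_def hP hperf 3 (K := GaloisField 3 2) (Φ.trans e.symm)).2)
  · rcases L2_nine hP hperf hns h9 p hp3 (Φ.trans e.symm) with h1 | h1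
    · exact Or.inr (Or.inl h1.2)
    · exact Or.inr (Or.inr (Or.inr (Or.inr (Or.inl ⟨hp3, ⟨Φ⟩, h1⟩))))

end Cfsg.Agent.H906
end

-- part: H907/EvenWrap
section
/-!
S1764 for a perfect central extension `P` of a non-abelian simple group `G` by a group without involutions.
-/

set_option autoImplicit false

universe u v

namespace Cfsg.Agent.H907.Even

open Subgroup
open scoped commutatorElement

/-- If `S / Z(S)` is perfect then its centre is trivial. -/
theorem center_quot_eq_bot {S : Type*} [Group S] (h : commutator (S ⧸ center S) = ⊤) :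
    center (S ⧸ center S) = ⊥ := by
  rw [eq_bot_iff]
  intro x hx
  obtain ⟨x, rfl⟩ := QuotientGroup.mk_surjective x
  rw [Subgroup.mem_bot, QuotientGroup.eq_one_iff]
  have hc : ∀ s : S, x * s * x⁻¹ * s⁻¹ ∈ center S := by
    intro s
    rw [← QuotientGroup.eq_one_iff]
    have h1 := Subgroup.mem_center_iff.1 hx (s : S ⧸ center S)
    rw [QuotientGroup.mk_mul, QuotientGroup.mk_mul, QuotientGroup.mk_mul, ← h1, QuotientGroup.mk_inv,
      QuotientGroup.mk_inv, mul_inv_cancel_right, mul_inv_cancel]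
  let φ : S →* center S :=
    { toFun := fun s => ⟨x * s * x⁻¹ * s⁻¹, hc s⟩
      map_one' := by apply Subtype.ext; simp
      map_mul' := by
        intro s t
        apply Subtype.ext
        show x * (s * t) * x⁻¹ * (s * t)⁻¹ = (x * s * x⁻¹ * s⁻¹) * (x * t * x⁻¹ * t⁻¹)
        have h2 := Subgroup.mem_center_iff.1 (hc t) (x * s * x⁻¹)
        calc x * (s * t) * x⁻¹ * (s * t)⁻¹ = (x * s * x⁻¹) * (x * t * x⁻¹ * t⁻¹) * s⁻¹ := by group
          _ = (x * t * x⁻¹ * t⁻¹) * (x * s * x⁻¹) * s⁻¹ := by rw [h2]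
          _ = (x * t * x⁻¹ * t⁻¹) * (x * s * x⁻¹ * s⁻¹) := by group
          _ = _ := (Subgroup.mem_center_iff.1 (hc t) _).symm }
  have hker : center S ⊔ commutator S ≤ φ.ker := by
    refine sup_le ?_ ?_
    · intro z hz
      have h7 : x * z * x⁻¹ * z⁻¹ = 1 := by
        rw [Subgroup.mem_center_iff.1 hz x]
        group
      exact Subtype.ext h7
    · rw [commutator_eq_closure, Subgroup.closure_le]
      rintro _ ⟨a, b, rfl⟩
      show φ ⁅a, b⁆ = 1
      rw [map_commutatorElement, commutatorElement_eq_one_iff_mul_comm]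
      exact Subtype.ext (Subgroup.mem_center_iff.1 (φ b).2 _)
  have hmap : (commutator S).map (QuotientGroup.mk' (center S)) = ⊤ := by
    rw [← h, _root_.commutator_def, _root_.commutator_def, Subgroup.map_commutator, ← MonoidHom.range_eq_map,
      MonoidHom.range_eq_top.2 (QuotientGroup.mk'_surjective _)]
  have htop : ∀ s : S, s ∈ center S ⊔ commutator S := by
    intro s
    have hs : (QuotientGroup.mk' (center S)) s ∈ (commutator S).map (QuotientGroup.mk' (center S)) := by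
      rw [hmap]; exact Subgroup.mem_top _
    obtain ⟨c, hc1, hc2⟩ := Subgroup.mem_map.1 hs
    have h6 : c⁻¹ * s ∈ center S := (QuotientGroup.eq).1 hc2
    have h3 : s = c * (c⁻¹ * s) := by group
    rw [h3]
    exact Subgroup.mul_mem _ (Subgroup.mem_sup_right hc1) (Subgroup.mem_sup_left h6)
  rw [Subgroup.mem_center_iff]
  intro s
  have h4 : s ∈ φ.ker := hker (htop s)
  have h5 : x * s * x⁻¹ * s⁻¹ = 1 := congrArg Subtype.val (MonoidHom.mem_ker.1 h4)
  calc s * x = s * x * 1 := by rw [mul_one]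
    _ = 1 * (s * x) := by group
    _ = (x * s * x⁻¹ * s⁻¹) * (s * x) := by rw [h5]
    _ = x * s := by group

theorem commutator_of_surjective {X Y : Type*} [Group X] [Group Y] (h : commutator X = ⊤) (f : X →* Y)
    (hf : Function.Surjective f) : commutator Y = ⊤ := by
  have h1 : (commutator X).map f = ⊤ := by
    rw [h, ← MonoidHom.range_eq_map, MonoidHom.range_eq_top.2 hf]
  rw [_root_.commutator_def, Subgroup.map_commutator, ← MonoidHom.range_eq_map,
        MonoidHom.range_eq_top.2 hf, ← _root_.commutator_def] at h1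
  exact h1

theorem commutator_quot {X : Type*} [Group X] (h : commutator X = ⊤) (N : Subgroup X) [N.Normal] :
    commutator (X ⧸ N) = ⊤ :=
  commutator_of_surjective h (QuotientGroup.mk' N) (QuotientGroup.mk'_surjective _)

theorem eq_one_of_comm {X : Type*} [Group X] (h : commutator X = ⊤) (hc : IsMulCommutative X) (x : X) : x = 1 := by
  have h1 : commutator X = ⊥ := by
    rw [_root_.commutator_def, Subgroup.commutator_eq_bot_iff_le_centralizer]
    intro a _ b _
    exact hc.is_comm.comm b a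
  have : x ∈ commutator X := h ▸ Subgroup.mem_top x
  rw [h1] at this
  exact this

theorem center_simple {G : Type*} [Group G] [IsSimpleGroup G] (hnab : ¬ IsMulCommutative G) : center G = ⊥ := by
  rcases IsSimpleGroup.eq_bot_or_eq_top_of_normal (center G) inferInstance with h | h
  · exact h
  · exfalso
    apply hnab
    refine ⟨⟨fun a b => ?_⟩⟩
    have : b ∈ center G := h ▸ Subgroup.mem_top b
    exact Subgroup.mem_center_iff.1 this a

variable {P : Type u} [Group P] [Finite P] {G : Type v} [Group G]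

/-- The list of S1764. -/
def List64 (C : Type*) [Group C] : Prop :=
  (∃ (F : Type) (_ : Field F) (_ : Fintype F) (n : ℕ), ringChar F = 2 ∧ 2 ≤ n ∧
      Nonempty (C ≃* Matrix.ProjectiveSpecialLinearGroup (Fin n) F)) ∨
  Cfsg.Lie.IsoSuzuki C ∨
  (∃ (F : Type) (_ : Field F) (_ : Fintype F) (m : ℕ), Fintype.card F = 4 ^ m ∧
      Nonempty (C ≃* Cfsg.PSU 3 F (2 ^ m))) ∨
  (∃ k : ℕ, 6 ≤ k ∧ k ≤ 9 ∧ Nonempty (C ≃* ↥(alternatingGroup (Fin k)))) ∨
  Cfsg.Spor.IsoM22 C ∨ Cfsg.Spor.IsoM23 C ∨ Cfsg.Spor.IsoM24 C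

theorem wrap (π : P →* G) (hπ : Function.Surjective π)
    (hker : π.ker ≤ center P) (h2 : ∀ z ∈ π.ker, z ^ 2 = 1 → z = 1) (hperf : commutator P = ⊤)
    [IsSimpleGroup G] (hnab : ¬ IsMulCommutative G) (B : Subgroup P)
    (hB : Cfsg.IsElementaryAbelian 2 B) (hne : B ≠ ⊥)
    (hti : ∀ g : P, B.map (MulAut.conj g).toMonoidHom = B ∨ B.map (MulAut.conj g).toMonoidHom ⊓ B = ⊥)
    (hwc : ∀ g : P, B.map (MulAut.conj g).toMonoidHom ≤ Subgroup.normalizer (B : Set P) →
      B.map (MulAut.conj g).toMonoidHom = B) :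
    ∃ (C : Type u) (_ : Group C) (f : C →* G), Finite C ∧ Function.Surjective f ∧ f.ker ≤ center C ∧
      commutator C = ⊤ ∧ List64 C := by
  have hGfin : Finite G := Finite.of_surjective π hπ
  have hcG : center G = ⊥ := center_simple hnab
  -- the normal closure is everything
  have hS : Subgroup.normalClosure (B : Set P) = ⊤ := by
    have hn : ((Subgroup.normalClosure (B : Set P)).map π).Normal :=
      Subgroup.Normal.map inferInstance π hπ
    rcases IsSimpleGroup.eq_bot_or_eq_top_of_normal _ hn with h | h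
    · exfalso
      apply hne
      rw [eq_bot_iff]
      intro b hb
      have h1 : π b = 1 := by
        have : π b ∈ (Subgroup.normalClosure (B : Set P)).map π :=
          Subgroup.mem_map_of_mem _ (Subgroup.subset_normalClosure hb)
        rw [h] at this
        exact this
      exact h2 b h1 (hB.2 b hb)
    · rw [eq_top_iff, ← hperf, commutator_eq_closure, Subgroup.closure_le]
      rintro _ ⟨a, b, rfl⟩
      have hdec : ∀ x : P, ∃ s ∈ Subgroup.normalClosure (B : Set P), ∃ z ∈ center P, x = s * z := by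
        intro x
        have : π x ∈ (Subgroup.normalClosure (B : Set P)).map π := h ▸ Subgroup.mem_top _
        obtain ⟨s, hs, hsx⟩ := this
        have h4 : s⁻¹ * x ∈ π.ker := by rw [MonoidHom.mem_ker, map_mul, map_inv, hsx, inv_mul_cancel]
        exact ⟨s, hs, s⁻¹ * x, hker h4, by group⟩
      obtain ⟨s, hs, z, hz, rfl⟩ := hdec a
      obtain ⟨t, ht, w, hw, rfl⟩ := hdec b
      have hz' := Subgroup.mem_center_iff.1 hz
      have hw' := Subgroup.mem_center_iff.1 hw
      have : ⁅s * z, t * w⁆ = s * t * s⁻¹ * t⁻¹ := by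
        rw [commutatorElement_def, mul_inv_rev, mul_inv_rev]
        calc s * z * (t * w) * (z⁻¹ * s⁻¹) * (w⁻¹ * t⁻¹)
            = s * (z * (t * w)) * z⁻¹ * s⁻¹ * w⁻¹ * t⁻¹ := by group
          _ = s * (t * w * z) * z⁻¹ * s⁻¹ * w⁻¹ * t⁻¹ := by rw [hz' (t * w)]
          _ = s * t * (w * s⁻¹) * w⁻¹ * t⁻¹ := by group
          _ = s * t * (s⁻¹ * w) * w⁻¹ * t⁻¹ := by rw [hw' s⁻¹]
          _ = s * t * s⁻¹ * t⁻¹ := by group
      rw [this]
      exact Subgroup.mul_mem _ (Subgroup.mul_mem _ (Subgroup.mul_mem _ hs ht) (Subgroup.inv_mem _ hs))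
        (Subgroup.inv_mem _ ht)
  obtain ⟨N, hN, hNe, hmain⟩ := Cfsg.Agent.S1764.result B hB hti hwc
  have hmain := hmain hN
  generalize hSdef : Subgroup.normalClosure (B : Set P) = S at *
  -- the map from S
  let πS : S →* G := π.comp S.subtype
  have hπS : Function.Surjective πS := by
    intro g
    obtain ⟨x, rfl⟩ := hπ g
    exact ⟨⟨x, hS ▸ Subgroup.mem_top x⟩, rfl⟩
  have hkS : πS.ker ≤ center S := by
    intro x hx
    rw [Subgroup.mem_center_iff]
    intro y
    apply Subtype.ext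
    exact Subgroup.mem_center_iff.1 (hker (show (x : P) ∈ π.ker from hx)) y
  have hperfS : commutator S = ⊤ := by
    subst hS
    exact commutator_of_surjective hperf (Subgroup.topEquiv (G := P)).symm.toMonoidHom
      (Subgroup.topEquiv (G := P)).symm.surjective
  have hNk : N ≤ πS.ker := by
    have hn : (N.map πS).Normal := Subgroup.Normal.map hN πS hπS
    rcases IsSimpleGroup.eq_bot_or_eq_top_of_normal _ hn with h | h
    · intro x hx
      have : πS x ∈ N.map πS := Subgroup.mem_map_of_mem _ hx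
      rw [h] at this
      exact this
    · exfalso
      apply hnab
      refine ⟨⟨fun a b => ?_⟩⟩
      have ha : a ∈ N.map πS := h ▸ Subgroup.mem_top a
      have hb : b ∈ N.map πS := h ▸ Subgroup.mem_top b
      obtain ⟨x, hx, rfl⟩ := ha
      obtain ⟨y, hy, rfl⟩ := hb
      rw [← map_mul, ← map_mul]
      congr 1
      have := hNe.1.is_comm.comm ⟨x, hx⟩ ⟨y, hy⟩
      exact congrArg Subtype.val this
  let f₁ : S ⧸ N →* G := QuotientGroup.lift N πS hNk
  have hf₁ : Function.Surjective f₁ := by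
    intro g
    obtain ⟨x, rfl⟩ := hπS g
    exact ⟨(x : S ⧸ N), rfl⟩
  have hkf₁ : f₁.ker ≤ center (S ⧸ N) := by
    intro x hx
    obtain ⟨x, rfl⟩ := QuotientGroup.mk_surjective x
    have h1 : x ∈ center S := hkS (show πS x = 1 from hx)
    rw [Subgroup.mem_center_iff]
    intro y
    obtain ⟨y, rfl⟩ := QuotientGroup.mk_surjective y
    rw [← QuotientGroup.mk_mul, ← QuotientGroup.mk_mul, Subgroup.mem_center_iff.1 h1 y]
  have hperf₁ : commutator (S ⧸ N) = ⊤ := commutator_quot hperfS N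
  rcases hmain with h | ⟨Z, hZ, hmain⟩
  · exfalso
    have h3 : commutator ((S ⧸ N) ⧸ Cfsg.oddCore (S ⧸ N)) = ⊤ := commutator_quot hperf₁ _
    have h4 := eq_one_of_comm h3 h
    have h5 : Cfsg.oddCore (S ⧸ N) = ⊤ := by
      rw [eq_top_iff]
      intro x _
      exact (QuotientGroup.eq_one_iff x).1 (h4 x)
    have h6 : (Nat.card (Cfsg.oddCore (S ⧸ N))).Coprime 2 := Lib.Cores.pPrimeCore_coprime 2
    rw [h5, Subgroup.card_top] at h6
    obtain ⟨b, hb1⟩ := (Subgroup.ne_bot_iff_exists_ne_one.1 hne)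
    have h7 : orderOf (π b) = 2 := by
      have : Fact (Nat.Prime 2) := ⟨Nat.prime_two⟩
      refine orderOf_eq_prime ?_ ?_
      · rw [← map_pow]
        rw [hB.2 _ b.2, map_one]
      · intro h8
        apply hb1
        exact Subtype.ext (h2 _ h8 (hB.2 _ b.2))
    have h8 : 2 ∣ Nat.card G := h7 ▸ _root_.orderOf_dvd_natCard (π b)
    have h9 : Nat.card G ∣ Nat.card (S ⧸ N) := Subgroup.card_dvd_of_surjective f₁ hf₁
    have h10 := Nat.Coprime.eq_one_of_dvd h6.symm (h8.trans h9)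
    omega
  · have hZn : Z.Normal := ⟨fun z hz g => by
      have := Subgroup.mem_center_iff.1 (hZ hz) g
      rw [this, mul_inv_cancel_right]
      exact hz⟩
    have hmain := hmain hZn
    have hZk : Z ≤ f₁.ker := by
      intro z hz
      rw [MonoidHom.mem_ker]
      have : f₁ z ∈ center G := by
        rw [Subgroup.mem_center_iff]
        intro g
        obtain ⟨x, rfl⟩ := hf₁ g
        rw [← map_mul, ← map_mul, Subgroup.mem_center_iff.1 (hZ hz) x]
      rw [hcG] at this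
      exact this
    refine ⟨(S ⧸ N) ⧸ Z, inferInstance, QuotientGroup.lift Z f₁ hZk, inferInstance, ?_, ?_, ?_, hmain⟩
    · intro g
      obtain ⟨x, rfl⟩ := hf₁ g
      exact ⟨(x : (S ⧸ N) ⧸ Z), rfl⟩
    · intro x hx
      obtain ⟨x, rfl⟩ := QuotientGroup.mk_surjective x
      have h1 : x ∈ center (S ⧸ N) := hkf₁ (show f₁ x = 1 from hx)
      rw [Subgroup.mem_center_iff]
      intro y
      obtain ⟨y, rfl⟩ := QuotientGroup.mk_surjective y
      rw [← QuotientGroup.mk_mul, ← QuotientGroup.mk_mul, Subgroup.mem_center_iff.1 h1 y]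
    · exact commutator_quot hperf₁ Z

end Cfsg.Agent.H907.Even
end

-- part: H907/EvenTI
section
/-!
A subgroup of `GL_3(F)`, `F` of characteristic 2, which contains an involution has a non-trivial elementary abelian
TI-subgroup `B` weakly closed in `N(B)`: the elations with a given axis, or those with a given centre.
-/

set_option autoImplicit false

universe u

namespace Cfsg.Agent.H907.Even

open Subgroup Matrix

section linalg

variable {F : Type u} [Field F]

theorem no_four {φ₁ φ₂ c c' : Fin 3 → F} (h1 : LinearIndependent F ![φ₁, φ₂]) (h2 : LinearIndependent F ![c, c'])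
    (h11 : φ₁ ⬝ᵥ c = 0) (h12 : φ₁ ⬝ᵥ c' = 0) (h21 : φ₂ ⬝ᵥ c = 0) (h22 : φ₂ ⬝ᵥ c' = 0) : False := by
  let M : Matrix (Fin 2) (Fin 3) F := Matrix.of ![φ₁, φ₂]
  have hM : M.rank = 2 := by
    have := LinearIndependent.rank_matrix (M := M) h1
    rwa [Fintype.card_fin] at this
  have hsub : Submodule.span F (Set.range ![c, c']) ≤ LinearMap.ker M.mulVecLin := by
    rw [Submodule.span_le]
    rintro _ ⟨i, rfl⟩
    rw [SetLike.mem_coe, LinearMap.mem_ker, Matrix.mulVecLin_apply]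
    funext j
    fin_cases i <;> fin_cases j
    · exact h11
    · exact h21
    · exact h12
    · exact h22
  have h3 := Submodule.finrank_mono hsub
  rw [finrank_span_eq_card h2, Fintype.card_fin] at h3
  have h4 := LinearMap.finrank_range_add_finrank_ker M.mulVecLin
  have h5 : Module.finrank F (LinearMap.range M.mulVecLin) = 2 := hM
  rw [h5, Module.finrank_fin_fun] at h4
  omega

theorem exists_rank_one {N : Matrix (Fin 3) (Fin 3) F} (hN : N * N = 0) :
    ∃ u φ : Fin 3 → F, N = vecMulVec u φ := by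
  have hle : LinearMap.range N.mulVecLin ≤ LinearMap.ker N.mulVecLin := by
    rintro _ ⟨v, rfl⟩
    rw [LinearMap.mem_ker, Matrix.mulVecLin_apply, Matrix.mulVecLin_apply, Matrix.mulVec_mulVec, hN,
      Matrix.zero_mulVec]
  have h1 := Submodule.finrank_mono hle
  have h4 := LinearMap.finrank_range_add_finrank_ker N.mulVecLin
  rw [Module.finrank_fin_fun] at h4
  have h5 : Module.finrank F (LinearMap.range N.mulVecLin) ≤ 1 := by omega
  obtain ⟨u, hu⟩ := finrank_le_one_iff.1 h5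
  choose f hf using hu
  refine ⟨u, fun j => f ⟨N.mulVecLin (Pi.single j 1), ⟨_, rfl⟩⟩, ?_⟩
  ext i j
  have h6 := congrArg (fun w : LinearMap.range N.mulVecLin => (w : Fin 3 → F) i)
    (hf ⟨N.mulVecLin (Pi.single j 1), ⟨_, rfl⟩⟩)
  simp only [SetLike.val_smul, Pi.smul_apply, smul_eq_mul, Matrix.mulVecLin_apply, Matrix.mulVec_single_one] at h6
  rw [Matrix.vecMulVec_apply, mul_comm]
  refine h6.symm.trans ?_
  congr 2
  apply Subtype.ext
  show N.col j = N.mulVecLin (Pi.single j 1)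
  rw [Matrix.mulVecLin_apply, Matrix.mulVec_single_one]

theorem vecMulVec_eq_zero {u φ : Fin 3 → F} (h : vecMulVec u φ = 0) : u = 0 ∨ φ = 0 := by
  by_contra hcon
  push Not at hcon
  obtain ⟨i, hi⟩ := Function.ne_iff.1 hcon.1
  obtain ⟨j, hj⟩ := Function.ne_iff.1 hcon.2
  have := congrFun (congrFun h i) j
  rw [Matrix.vecMulVec_apply, Matrix.zero_apply] at this
  rcases mul_eq_zero.1 this with h | h
  · exact hi h
  · exact hj h

theorem mul_self_vecMulVec (u φ u' φ' : Fin 3 → F) :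
    vecMulVec u φ * vecMulVec u' φ' = (φ ⬝ᵥ u') • vecMulVec u φ' := by
  rw [Matrix.vecMulVec_mul_vecMulVec, Matrix.vecMulVec_smul]

/-- Proportional factors. -/
theorem prop_of_vecMulVec_eq {u φ u' φ' : Fin 3 → F} (h : vecMulVec u φ = vecMulVec u' φ') (hu : u ≠ 0) (hφ : φ ≠ 0) :
    (∃ a : F, a • φ' = φ) ∧ ∃ a : F, a • u' = u := by
  obtain ⟨i, hi⟩ := Function.ne_iff.1 hu
  obtain ⟨j, hj⟩ := Function.ne_iff.1 hφ
  constructor
  · refine ⟨(u i)⁻¹ * u' i, ?_⟩
    funext k
    have := congrFun (congrFun h i) k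
    rw [Matrix.vecMulVec_apply, Matrix.vecMulVec_apply] at this
    rw [Pi.smul_apply, smul_eq_mul, mul_assoc, ← this, ← mul_assoc, inv_mul_cancel₀ hi, one_mul]
  · refine ⟨(φ j)⁻¹ * φ' j, ?_⟩
    funext k
    have := congrFun (congrFun h k) j
    rw [Matrix.vecMulVec_apply, Matrix.vecMulVec_apply] at this
    rw [Pi.smul_apply, smul_eq_mul, mul_assoc, mul_comm (φ' j), ← this, mul_comm (u k), ← mul_assoc,
      inv_mul_cancel₀ hj, one_mul]

end linalg

section groups

variable {F : Type u} [Field F] {P : Subgroup (GL (Fin 3) F)}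

/-- The matrix of an element. -/
abbrev mx (g : P) : Matrix (Fin 3) (Fin 3) F := ((g : GL (Fin 3) F) : Matrix (Fin 3) (Fin 3) F)

theorem mx_mul (g h : P) : mx (g * h) = mx g * mx h := rfl

theorem mx_inv_mul (g : P) : mx g⁻¹ * mx g = 1 := by
  rw [← mx_mul, inv_mul_cancel]; rfl

theorem mx_mul_inv (g : P) : mx g * mx g⁻¹ = 1 := by
  rw [← mx_mul, mul_inv_cancel]; rfl

theorem mx_inj {g h : P} (e : mx g = mx h) : g = h := Subtype.ext (Units.ext e)

/-- `g = 1 + u φᵀ` with `φ(u) = 0`. -/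
def El (g : P) (u φ : Fin 3 → F) : Prop := φ ⬝ᵥ u = 0 ∧ mx g = 1 + vecMulVec u φ

theorem El.conj {g : P} {u φ : Fin 3 → F} (h : El g u φ) (k : P) : El (k * g * k⁻¹) (mx k *ᵥ u) (φ ᵥ* mx k⁻¹) := by
  constructor
  · rw [← Matrix.dotProduct_mulVec, Matrix.mulVec_mulVec, mx_inv_mul, Matrix.one_mulVec, h.1]
  · rw [mx_mul, mx_mul, h.2, Matrix.mul_add, Matrix.add_mul, Matrix.mul_one, mx_mul_inv, Matrix.mul_vecMulVec,
      Matrix.vecMulVec_mul]

theorem vecMul_ne {k : P} {φ : Fin 3 → F} (hφ : φ ≠ 0) : φ ᵥ* mx k ≠ 0 := by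
  intro h
  apply hφ
  have := congrArg (fun w => w ᵥ* mx k⁻¹) h
  simp only [Matrix.vecMul_vecMul, mx_mul_inv, Matrix.vecMul_one, Matrix.zero_vecMul] at this
  exact this

theorem mulVec_ne {k : P} {u : Fin 3 → F} (hu : u ≠ 0) : mx k *ᵥ u ≠ 0 := by
  intro h
  apply hu
  have := congrArg (fun w => mx k⁻¹ *ᵥ w) h
  simp only [Matrix.mulVec_mulVec, mx_inv_mul, Matrix.one_mulVec, Matrix.mulVec_zero] at this
  exact this

/-- The elations of `P` with axis `ker φ`. -/
def bax (P : Subgroup (GL (Fin 3) F)) (φ : Fin 3 → F) : Subgroup P where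
  carrier := {g | ∃ u, El g u φ}
  one_mem' := ⟨0, by simp, by simp [mx]⟩
  mul_mem' := by
    rintro g h ⟨u, hu, eu⟩ ⟨v, hv, ev⟩
    refine ⟨u + v, by rw [dotProduct_add, hu, hv, add_zero], ?_⟩
    rw [mx_mul, eu, ev]
    simp only [Matrix.add_mul, Matrix.mul_add, Matrix.one_mul, Matrix.mul_one, mul_self_vecMulVec, hv,
      zero_smul, add_zero, Matrix.add_vecMulVec]
    abel
  inv_mem' := by
    rintro g ⟨u, hu, eu⟩
    refine ⟨-u, by rw [dotProduct_neg, hu, neg_zero], ?_⟩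
    have h1 : (1 + vecMulVec (-u) φ) * mx g = 1 := by
      rw [eu]
      simp only [Matrix.add_mul, Matrix.mul_add, Matrix.one_mul, Matrix.mul_one, mul_self_vecMulVec, hu,
        zero_smul, Matrix.neg_vecMulVec, Matrix.one_mul, add_zero, Matrix.neg_mul, neg_zero]
      abel
    calc mx g⁻¹ = ((1 + vecMulVec (-u) φ) * mx g) * mx g⁻¹ := by rw [h1, Matrix.one_mul]
      _ = 1 + vecMulVec (-u) φ := by rw [Matrix.mul_assoc, mx_mul_inv, Matrix.mul_one]

/-- The elations of `P` with centre `c`. -/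
def bce (P : Subgroup (GL (Fin 3) F)) (c : Fin 3 → F) : Subgroup P where
  carrier := {g | ∃ φ, El g c φ}
  one_mem' := ⟨0, by simp, by simp [mx]⟩
  mul_mem' := by
    rintro g h ⟨u, hu, eu⟩ ⟨v, hv, ev⟩
    refine ⟨u + v, by rw [add_dotProduct, hu, hv, add_zero], ?_⟩
    rw [mx_mul, eu, ev]
    simp only [Matrix.add_mul, Matrix.mul_add, Matrix.one_mul, Matrix.mul_one, mul_self_vecMulVec, hu,
      zero_smul, add_zero, Matrix.vecMulVec_add]
    abel
  inv_mem' := by
    rintro g ⟨u, hu, eu⟩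
    refine ⟨-u, by rw [neg_dotProduct, hu, neg_zero], ?_⟩
    have h1 : (1 + vecMulVec c (-u)) * mx g = 1 := by
      rw [eu]
      simp only [Matrix.add_mul, Matrix.mul_add, Matrix.one_mul, Matrix.mul_one, mul_self_vecMulVec, hu,
        zero_smul, Matrix.vecMulVec_neg, Matrix.one_mul, add_zero, Matrix.neg_mul, neg_zero]
      abel
    calc mx g⁻¹ = ((1 + vecMulVec c (-u)) * mx g) * mx g⁻¹ := by rw [h1, Matrix.one_mul]
      _ = 1 + vecMulVec c (-u) := by rw [Matrix.mul_assoc, mx_mul_inv, Matrix.mul_one]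

theorem elem_bax (h2 : (2 : F) = 0) (φ : Fin 3 → F) : Cfsg.IsElementaryAbelian 2 (bax P φ) := by
  constructor
  · refine ⟨⟨?_⟩⟩
    rintro ⟨g, u, hu, eu⟩ ⟨h, v, hv, ev⟩
    apply Subtype.ext
    apply mx_inj
    show mx g * mx h = mx h * mx g
    rw [eu, ev]
    simp only [Matrix.add_mul, Matrix.mul_add, Matrix.one_mul, Matrix.mul_one, mul_self_vecMulVec, hv, hu,
      zero_smul, add_zero]
    abel
  · rintro g ⟨u, hu, eu⟩
    apply mx_inj
    rw [pow_two, mx_mul, eu]
    simp only [Matrix.add_mul, Matrix.mul_add, Matrix.one_mul, Matrix.mul_one, mul_self_vecMulVec, hu,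
      zero_smul, add_zero]
    have : vecMulVec u φ + vecMulVec u φ = 0 := by
      rw [← two_smul F, h2, zero_smul]
    rw [add_assoc, this, add_zero]
    rfl

theorem elem_bce (h2 : (2 : F) = 0) (c : Fin 3 → F) : Cfsg.IsElementaryAbelian 2 (bce P c) := by
  constructor
  · refine ⟨⟨?_⟩⟩
    rintro ⟨g, u, hu, eu⟩ ⟨h, v, hv, ev⟩
    apply Subtype.ext
    apply mx_inj
    show mx g * mx h = mx h * mx g
    rw [eu, ev]
    simp only [Matrix.add_mul, Matrix.mul_add, Matrix.one_mul, Matrix.mul_one, mul_self_vecMulVec, hv, hu,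
      zero_smul, add_zero]
    abel
  · rintro g ⟨u, hu, eu⟩
    apply mx_inj
    rw [pow_two, mx_mul, eu]
    simp only [Matrix.add_mul, Matrix.mul_add, Matrix.one_mul, Matrix.mul_one, mul_self_vecMulVec, hu,
      zero_smul, add_zero]
    have : vecMulVec c u + vecMulVec c u = 0 := by
      rw [← two_smul F, h2, zero_smul]
    rw [add_assoc, this, add_zero]
    rfl

theorem El.smul_left {g : P} {u φ : Fin 3 → F} {a : F} (h : El g (a • u) φ) : El g u (a • φ) := by
  refine ⟨by rw [smul_dotProduct, ← dotProduct_smul]; exact h.1, ?_⟩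
  rw [h.2, Matrix.smul_vecMulVec, Matrix.vecMulVec_smul]

theorem El.smul_right {g : P} {u φ : Fin 3 → F} {a : F} (h : El g u (a • φ)) : El g (a • u) φ := by
  refine ⟨by rw [dotProduct_smul, ← smul_dotProduct]; exact h.1, ?_⟩
  rw [h.2, Matrix.smul_vecMulVec, Matrix.vecMulVec_smul]

theorem map_bax (k : P) (φ : Fin 3 → F) :
    (bax P φ).map (MulAut.conj k).toMonoidHom = bax P (φ ᵥ* mx k⁻¹) := by
  apply le_antisymm
  · rintro _ ⟨g, ⟨u, hu⟩, rfl⟩
    exact ⟨_, hu.conj k⟩
  · rintro g ⟨u, hu⟩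
    refine ⟨k⁻¹ * g * k, ?_, by simp only [mul_assoc, _root_.MulEquiv.toMonoidHom_eq_coe, _root_.MonoidHom.coe_coe, _root_.MulAut.conj_apply, _root_.mul_inv_cancel_left, _root_.mul_inv_cancel, _root_.mul_one]⟩
    have h1 := hu.conj k⁻¹
    rw [inv_inv] at h1
    rw [Matrix.vecMul_vecMul, mx_inv_mul, Matrix.vecMul_one] at h1
    exact ⟨_, h1⟩

theorem map_bce (k : P) (c : Fin 3 → F) :
    (bce P c).map (MulAut.conj k).toMonoidHom = bce P (mx k *ᵥ c) := by
  apply le_antisymm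
  · rintro _ ⟨g, ⟨u, hu⟩, rfl⟩
    exact ⟨_, hu.conj k⟩
  · rintro g ⟨u, hu⟩
    refine ⟨k⁻¹ * g * k, ?_, by simp only [mul_assoc, _root_.MulEquiv.toMonoidHom_eq_coe, _root_.MonoidHom.coe_coe, _root_.MulAut.conj_apply, _root_.mul_inv_cancel_left, _root_.mul_inv_cancel, _root_.mul_one]⟩
    have h1 := hu.conj k⁻¹
    rw [inv_inv] at h1
    rw [Matrix.mulVec_mulVec, mx_inv_mul, Matrix.one_mulVec] at h1
    exact ⟨_, h1⟩

theorem bax_smul {a : F} (ha : a ≠ 0) (φ : Fin 3 → F) : bax P (a • φ) = bax P φ := by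
  ext g
  constructor
  · rintro ⟨u, hu⟩
    exact ⟨_, hu.smul_right⟩
  · rintro ⟨u, hu⟩
    refine ⟨a⁻¹ • u, ?_⟩
    have : El g u (a⁻¹ • (a • φ)) := by rwa [smul_smul, inv_mul_cancel₀ ha, one_smul]
    exact this.smul_right

theorem bce_smul {a : F} (ha : a ≠ 0) (c : Fin 3 → F) : bce P (a • c) = bce P c := by
  ext g
  constructor
  · rintro ⟨u, hu⟩
    exact ⟨_, hu.smul_left⟩
  · rintro ⟨u, hu⟩
    refine ⟨a⁻¹ • u, ?_⟩
    have : El g (a⁻¹ • (a • c)) u := by rwa [smul_smul, inv_mul_cancel₀ ha, one_smul]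
    exact this.smul_left

theorem ti_bax {φ φ' : Fin 3 → F} (h : ¬ ∃ a : F, a • φ' = φ) : bax P φ' ⊓ bax P φ = ⊥ := by
  rw [eq_bot_iff]
  rintro g ⟨⟨u', hu'⟩, ⟨u, hu⟩⟩
  rw [Subgroup.mem_bot]
  by_contra hg
  have h1 : vecMulVec u φ = vecMulVec u' φ' := by
    have := hu.2.symm.trans hu'.2
    exact add_left_cancel this
  have hne : vecMulVec u φ ≠ 0 := by
    intro h0
    apply hg
    apply mx_inj
    rw [hu.2, h0, add_zero]
    rfl
  have hu0 : u ≠ 0 := by rintro rfl; exact hne (by simp)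
  have hφ0 : φ ≠ 0 := by rintro rfl; exact hne (by simp)
  exact h (prop_of_vecMulVec_eq h1 hu0 hφ0).1

theorem ti_bce {c c' : Fin 3 → F} (h : ¬ ∃ a : F, a • c' = c) : bce P c' ⊓ bce P c = ⊥ := by
  rw [eq_bot_iff]
  rintro g ⟨⟨u', hu'⟩, ⟨u, hu⟩⟩
  rw [Subgroup.mem_bot]
  by_contra hg
  have h1 : vecMulVec c u = vecMulVec c' u' := by
    have := hu.2.symm.trans hu'.2
    exact add_left_cancel this
  have hne : vecMulVec c u ≠ 0 := by
    intro h0
    apply hg
    apply mx_inj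
    rw [hu.2, h0, add_zero]
    rfl
  have hu0 : u ≠ 0 := by rintro rfl; exact hne (by simp)
  have hφ0 : c ≠ 0 := by rintro rfl; exact hne (by simp)
  exact h (prop_of_vecMulVec_eq h1 hφ0 hu0).2

theorem El.ne_one {g : P} {u φ : Fin 3 → F} (h : El g u φ) (hu : u ≠ 0) (hφ : φ ≠ 0) : g ≠ 1 := by
  rintro rfl
  have h1 : vecMulVec u φ = 0 := by
    have h2 := h.2
    have h3 : (1 : Matrix (Fin 3) (Fin 3) F) = 1 + vecMulVec u φ := h2
    exact (left_eq_add.1 h3)
  rcases vecMulVec_eq_zero h1 with h | h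
  · exact hu h
  · exact hφ h

/-- Elations with the same centre and two independent axes. -/
theorem case_one (h2 : (2 : F) = 0) {c φ₁ φ₂ : Fin 3 → F} (hc : c ≠ 0) (hi : LinearIndependent F ![φ₁, φ₂])
    {g₁ g₂ : P} (hg₁ : El g₁ c φ₁) (hg₂ : El g₂ c φ₂) :
    ∃ B : Subgroup P, Cfsg.IsElementaryAbelian 2 B ∧ B ≠ ⊥ ∧
      (∀ g : P, B.map (MulAut.conj g).toMonoidHom = B ∨ B.map (MulAut.conj g).toMonoidHom ⊓ B = ⊥) ∧
      (∀ g : P, B.map (MulAut.conj g).toMonoidHom ≤ Subgroup.normalizer (B : Set P) →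
        B.map (MulAut.conj g).toMonoidHom = B) := by
  have hφ₁ : φ₁ ≠ 0 := hi.ne_zero 0
  have hmap : ∀ k : P, (∃ a : F, a • (mx k *ᵥ c) = c) → (bce P c).map (MulAut.conj k).toMonoidHom = bce P c := by
    rintro k ⟨a, ha⟩
    have ha0 : a ≠ 0 := by rintro rfl; rw [zero_smul] at ha; exact hc ha.symm
    rw [map_bce, ← bce_smul ha0, ha]
  refine ⟨bce P c, elem_bce h2 c, ?_, ?_, ?_⟩
  · intro h
    have : g₁ ∈ bce P c := ⟨_, hg₁⟩
    rw [h] at this
    exact hg₁.ne_one hc hφ₁ this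
  · intro k
    by_cases h : ∃ a : F, a • (mx k *ᵥ c) = c
    · exact Or.inl (hmap k h)
    · right
      rw [map_bce]
      exact ti_bce h
  · intro k hk
    by_contra hne
    have h : ¬ ∃ a : F, a • (mx k *ᵥ c) = c := fun h => hne (hmap k h)
    have hind : LinearIndependent F ![mx k *ᵥ c, c] := by
      rw [LinearIndependent.pair_iff' (mulVec_ne hc)]
      intro a ha
      exact h ⟨a, ha⟩
    have hvan : ∀ (g : P) (φ : Fin 3 → F), El g c φ → (φ ᵥ* mx k⁻¹) ⬝ᵥ c = 0 := by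
      intro g φ hg
      have h1 : k * g * k⁻¹ ∈ Subgroup.normalizer (bce P c : Set P) := hk ⟨g, ⟨_, hg⟩, rfl⟩
      have h3 : (k * g * k⁻¹) * g₁ * (k * g * k⁻¹)⁻¹ ∈ bce P c :=
        (Subgroup.mem_normalizer_iff.1 h1 g₁).1 ⟨_, hg₁⟩
      obtain ⟨ψ, hψ⟩ := h3
      have h4 := hg₁.conj (k * g * k⁻¹)
      have h5 : vecMulVec (mx (k * g * k⁻¹) *ᵥ c) (φ₁ ᵥ* mx (k * g * k⁻¹)⁻¹) = vecMulVec c ψ :=
        add_left_cancel (h4.2.symm.trans hψ.2)
      obtain ⟨a, ha⟩ := (prop_of_vecMulVec_eq h5 (mulVec_ne hc) (vecMul_ne hφ₁)).2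
      have h6 := (hg.conj k).2
      rw [h6, Matrix.add_mulVec, Matrix.one_mulVec, Matrix.vecMulVec_mulVec] at ha
      by_contra h7
      rw [LinearIndependent.pair_iff] at hind
      have h8 := hind ((φ ᵥ* mx k⁻¹) ⬝ᵥ c) (1 - a) (by
        rw [sub_smul, one_smul, ha]
        simp only [op_smul_eq_smul]
        abel)
      exact h7 h8.1
    have hind2 : LinearIndependent F ![φ₁ ᵥ* mx k⁻¹, φ₂ ᵥ* mx k⁻¹] := by
      rw [LinearIndependent.pair_iff] at hi ⊢
      intro s t hst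
      apply hi s t
      have := congrArg (fun w => w ᵥ* mx k) hst
      simp only [Matrix.add_vecMul, Matrix.smul_vecMul, Matrix.vecMul_vecMul, mx_inv_mul, Matrix.vecMul_one,
        Matrix.zero_vecMul] at this
      exact this
    exact no_four hind2 hind (hg₁.conj k).1 (hvan g₁ φ₁ hg₁) (hg₂.conj k).1 (hvan g₂ φ₂ hg₂)

theorem exists_ti (h2 : (2 : F) = 0) {g : P} (hg1 : g ≠ 1) (hg : g ^ 2 = 1) :
    ∃ B : Subgroup P, Cfsg.IsElementaryAbelian 2 B ∧ B ≠ ⊥ ∧
      (∀ g : P, B.map (MulAut.conj g).toMonoidHom = B ∨ B.map (MulAut.conj g).toMonoidHom ⊓ B = ⊥) ∧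
      (∀ g : P, B.map (MulAut.conj g).toMonoidHom ≤ Subgroup.normalizer (B : Set P) →
        B.map (MulAut.conj g).toMonoidHom = B) := by
  classical
  -- an elation
  obtain ⟨u₀, φ₀, hel⟩ : ∃ u₀ φ₀, El g u₀ φ₀ := by
    have hN : (mx g - 1) * (mx g - 1) = 0 := by
      have h3 : mx g * mx g = 1 := by
        rw [← mx_mul, ← pow_two, hg]; rfl
      rw [Matrix.sub_mul, Matrix.mul_sub, Matrix.mul_one, Matrix.one_mul, h3]
      have h4 : (1 : Matrix (Fin 3) (Fin 3) F) - mx g - (mx g - 1) = (2 : F) • (1 - mx g) := by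
        rw [two_smul]; abel
      rw [h4, h2, zero_smul]
    obtain ⟨u, φ, h⟩ := exists_rank_one hN
    refine ⟨u, φ, ?_, ?_⟩
    · rw [h, mul_self_vecMulVec] at hN
      rcases smul_eq_zero.1 hN with h5 | h5
      · exact h5
      · exfalso
        apply hg1
        apply mx_inj
        rw [h5] at h
        exact sub_eq_zero.1 h
    · rw [← h]; abel
  have hu₀ : u₀ ≠ 0 := by
    rintro rfl
    apply hg1
    apply mx_inj
    rw [hel.2]
    simp only [mx, _root_.Matrix.zero_vecMulVec, _root_.add_zero, _root_.OneMemClass.coe_one, _root_.Units.val_one]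
  have hφ₀ : φ₀ ≠ 0 := by
    rintro rfl
    apply hg1
    apply mx_inj
    rw [hel.2]
    simp [mx]
  by_cases hone : ∃ (c φ₁ φ₂ : Fin 3 → F) (g₁ g₂ : P), c ≠ 0 ∧ LinearIndependent F ![φ₁, φ₂] ∧ El g₁ c φ₁ ∧ El g₂ c φ₂
  · obtain ⟨c, φ₁, φ₂, g₁, g₂, hc, hi, hg₁, hg₂⟩ := hone
    exact case_one h2 hc hi hg₁ hg₂
  · have hmap : ∀ k : P, (∃ a : F, a • (φ₀ ᵥ* mx k⁻¹) = φ₀) →
        (bax P φ₀).map (MulAut.conj k).toMonoidHom = bax P φ₀ := by
      rintro k ⟨a, ha⟩
      have ha0 : a ≠ 0 := by rintro rfl; rw [zero_smul] at ha; exact hφ₀ ha.symm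
      rw [map_bax, ← bax_smul ha0, ha]
    refine ⟨bax P φ₀, elem_bax h2 φ₀, ?_, ?_, ?_⟩
    · intro h
      have : g ∈ bax P φ₀ := ⟨_, hel⟩
      rw [h] at this
      exact hg1 this
    · intro k
      by_cases h : ∃ a : F, a • (φ₀ ᵥ* mx k⁻¹) = φ₀
      · exact Or.inl (hmap k h)
      · right
        rw [map_bax]
        exact ti_bax h
    · intro k hk
      by_contra hne
      have h : ¬ ∃ a : F, a • (φ₀ ᵥ* mx k⁻¹) = φ₀ := fun h => hne (hmap k h)
      apply hone
      set! φ₁ := φ₀ ᵥ* mx k⁻¹ with hφ₁; rewrite [← hφ₁] at h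
      set! u₁ := mx k *ᵥ u₀ with hu₁
      have hind : LinearIndependent F ![φ₁, φ₀] := by
        rw [LinearIndependent.pair_iff' (vecMul_ne hφ₀)]
        intro a ha
        exact h ⟨a, ha⟩
      have hel1 : El (k * g * k⁻¹) u₁ φ₁ := hel.conj k
      have h1 : k * g * k⁻¹ ∈ Subgroup.normalizer (bax P φ₀ : Set P) := hk ⟨g, ⟨_, hel⟩, rfl⟩
      have h3 : (k * g * k⁻¹)⁻¹ * g * (k * g * k⁻¹)⁻¹⁻¹ ∈ bax P φ₀ :=
        (Subgroup.mem_normalizer_iff.1 (Subgroup.inv_mem _ h1) g).1 ⟨_, hel⟩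
      obtain ⟨ψ, hψ⟩ := h3
      have h4 := hel.conj (k * g * k⁻¹)⁻¹
      rw [inv_inv] at h4
      have h5 := add_left_cancel (h4.2.symm.trans hψ.2)
      obtain ⟨a, ha⟩ := (prop_of_vecMulVec_eq h5 (mulVec_ne hu₀) (vecMul_ne hφ₀)).1
      rw [hel1.2, Matrix.vecMul_add, Matrix.vecMul_one, Matrix.vecMul_vecMulVec] at ha
      have h6 : φ₀ ⬝ᵥ u₁ = 0 := by
        have hp := LinearIndependent.pair_iff.1 hind
        have h8 := hp (φ₀ ⬝ᵥ u₁) (1 - a) (by
          rw [sub_smul, one_smul, ha]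
          abel)
        exact h8.1
      have hu₁0 : u₁ ≠ 0 := mulVec_ne hu₀
      by_cases h7 : φ₁ ⬝ᵥ u₀ = 0
      · -- both centres lie on both axes
        have h8 : ∃ a : F, a • u₀ = u₁ := by
          by_contra hcon
          have hind2 : LinearIndependent F ![u₀, u₁] := by
            rw [LinearIndependent.pair_iff' hu₀]
            intro a ha
            exact hcon ⟨a, ha⟩
          exact no_four hind hind2 h7 hel1.1 hel.1 h6
        obtain ⟨b, hb⟩ := h8
        rw [← hb] at hel1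
        have h9 := hel1.smul_left
        refine ⟨u₀, _, _, _, _, hu₀, ?_, h9, hel⟩
        have hb0 : b ≠ 0 := by rintro rfl; rw [zero_smul] at hb; exact hu₁0 hb.symm
        rw [LinearIndependent.pair_iff' (smul_ne_zero hb0 (vecMul_ne hφ₀))]
        intro a ha
        rw [smul_smul] at ha
        exact h ⟨_, ha⟩
      · -- the product
        have h9 : El (g * ((k * g * k⁻¹) * g * (k * g * k⁻¹)⁻¹)) ((φ₁ ⬝ᵥ u₀) • u₁) φ₀ := by
          have h10 := hel.conj (k * g * k⁻¹)
          have h11 : φ₀ ᵥ* mx (k * g * k⁻¹)⁻¹ = φ₀ := by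
            have h12 : φ₀ ᵥ* mx (k * g * k⁻¹) = φ₀ := by
              rw [hel1.2, Matrix.vecMul_add, Matrix.vecMul_one, Matrix.vecMul_vecMulVec, h6, zero_smul, add_zero]
            calc φ₀ ᵥ* mx (k * g * k⁻¹)⁻¹ = (φ₀ ᵥ* mx (k * g * k⁻¹)) ᵥ* mx (k * g * k⁻¹)⁻¹ := by rw [h12]
              _ = φ₀ := by rw [Matrix.vecMul_vecMul, mx_mul_inv, Matrix.vecMul_one]
          rw [h11, hel1.2, Matrix.add_mulVec, Matrix.one_mulVec, Matrix.vecMulVec_mulVec] at h10
          simp only [op_smul_eq_smul] at h10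
          constructor
          · rw [dotProduct_smul, h6, smul_zero]
          · rw [mx_mul, hel.2, h10.2]
            simp only [Matrix.add_mul, Matrix.mul_add, Matrix.one_mul, Matrix.mul_one, Matrix.add_vecMulVec,
              mul_self_vecMulVec, hel.1, h6, zero_smul, add_zero, Matrix.smul_vecMulVec,
              Matrix.mul_smul]
            have h13 : vecMulVec u₀ φ₀ + vecMulVec u₀ φ₀ = 0 := by
              rw [← two_smul F, h2, zero_smul]
            calc 1 + vecMulVec u₀ φ₀ + (vecMulVec u₀ φ₀ + (φ₁ ⬝ᵥ u₀) • vecMulVec u₁ φ₀)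
                = 1 + (vecMulVec u₀ φ₀ + vecMulVec u₀ φ₀) + (φ₁ ⬝ᵥ u₀) • vecMulVec u₁ φ₀ := by abel
              _ = _ := by rw [h13, add_zero]
        have h14 := h9.smul_left
        refine ⟨u₁, _, _, _, _, hu₁0, ?_, hel1, h14⟩
        rw [LinearIndependent.pair_iff' (vecMul_ne hφ₀)]
        intro a ha
        apply h
        refine ⟨(φ₁ ⬝ᵥ u₀)⁻¹ * a, ?_⟩
        rw [← smul_smul, ha, smul_smul, inv_mul_cancel₀ h7, one_smul]

end groups

end Cfsg.Agent.H907.Even
end

-- part: H890/XSL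
section
/-!
In characteristic 2 and dimension at least 4 the group `PSL_n(F)` contains an element of order 5
conjugate to its square (fact X1).
-/

set_option autoImplicit false

namespace Cfsg.Agent.H890.XSL

open Matrix

/-- Multiplication by an element of order 5 in the field of 16 elements. -/
def mX : Matrix (Fin 4) (Fin 4) (ZMod 2) := !![0, 0, 0, 1; 1, 0, 0, 1; 0, 1, 0, 1; 0, 0, 1, 1]

/-- The Frobenius automorphism of the field of 16 elements. -/
def mY : Matrix (Fin 4) (Fin 4) (ZMod 2) := !![1, 0, 1, 0; 0, 0, 1, 1; 0, 1, 1, 0; 0, 0, 1, 0]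

theorem mX_pow : mX ^ 5 = 1 := by decide +kernel

theorem mX_ne : mX ≠ 1 := by decide

theorem mYX : mY * mX = mX ^ 2 * mY := by decide +kernel

theorem det_mX : mX.det = 1 := by decide +kernel

theorem det_mY : mY.det = 1 := by decide +kernel

/-- `mX` as an element of `SL_4(2)`. -/
def sX : _root_.Matrix.SpecialLinearGroup (Fin 4) (ZMod 2) := ⟨mX, det_mX⟩

/-- `mY` as an element of `SL_4(2)`. -/
def sY : _root_.Matrix.SpecialLinearGroup (Fin 4) (ZMod 2) := ⟨mY, det_mY⟩

theorem sX_pow : sX ^ 5 = 1 :=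
  Subtype.ext ((Matrix.SpecialLinearGroup.coe_pow sX 5).trans mX_pow)

theorem sX_ne : sX ≠ 1 := fun h => mX_ne (congrArg Subtype.val h)

theorem sYX : sY * sX * sY⁻¹ = sX ^ 2 := by
  rw [mul_inv_eq_iff_eq_mul]
  apply Subtype.ext
  refine (Matrix.SpecialLinearGroup.coe_mul sY sX).trans (mYX.trans ?_)
  refine (((Matrix.SpecialLinearGroup.coe_mul (sX ^ 2) sY)).trans ?_).symm
  rw [Matrix.SpecialLinearGroup.coe_pow]
  rfl

/-- The block embedding. -/
def blk (F : Type*) [CommRing F] {n : ℕ} (hn : 4 ≤ n) :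
    _root_.Matrix.SpecialLinearGroup (Fin 4) F →* _root_.Matrix.SpecialLinearGroup (Fin n) F where
  toFun g := ⟨Matrix.reindex (finSumFinEquiv.trans (finCongr (show 4 + (n - 4) = n by omega)))
    (finSumFinEquiv.trans (finCongr (show 4 + (n - 4) = n by omega)))
    (fromBlocks (g : Matrix (Fin 4) (Fin 4) F) 0 0 (1 : Matrix (Fin (n - 4)) (Fin (n - 4)) F)), by
      rw [Matrix.det_reindex_self, Matrix.det_fromBlocks_zero₂₁, g.2, det_one, one_mul]⟩
  map_one' := by
    apply Subtype.ext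
    show Matrix.reindex _ _ (fromBlocks 1 0 0 1) = 1
    rw [Matrix.fromBlocks_one, Matrix.reindex_apply, Matrix.submatrix_one_equiv]
  map_mul' g h := by
    apply Subtype.ext
    show Matrix.reindex _ _ (fromBlocks ((g : Matrix (Fin 4) (Fin 4) F) * (h : Matrix (Fin 4) (Fin 4) F)) 0 0 1) =
      Matrix.reindex _ _ (fromBlocks (g : Matrix (Fin 4) (Fin 4) F) 0 0 1) *
        Matrix.reindex _ _ (fromBlocks (h : Matrix (Fin 4) (Fin 4) F) 0 0 1)
    rw [Matrix.reindex_apply, Matrix.reindex_apply, Matrix.reindex_apply,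
      Matrix.submatrix_mul_equiv, Matrix.fromBlocks_multiply]
    simp only [Matrix.zero_mul, Matrix.mul_zero, add_zero, zero_add, Matrix.mul_one]

theorem blk_injective (F : Type*) [CommRing F] {n : ℕ} (hn : 4 ≤ n) :
    Function.Injective (blk F hn) := by
  intro g h hgh
  have h1 := congrArg Subtype.val hgh
  have h2 := (Matrix.reindex _ _).injective h1
  exact Subtype.ext (Matrix.fromBlocks_inj.1 h2).1

variable {F : Type*} [Field F]

theorem exists_SL (hF : ringChar F = 2) {n : ℕ} (hn : 4 ≤ n) :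
    ∃ x y : _root_.Matrix.SpecialLinearGroup (Fin n) F, x ≠ 1 ∧ x ^ 5 = 1 ∧ y * x * y⁻¹ = x ^ 2 := by
  have : CharP F 2 := hF ▸ ringChar.charP F
  let _ : Algebra (ZMod 2) F := ZMod.algebra F 2
  let f : _root_.Matrix.SpecialLinearGroup (Fin 4) (ZMod 2) →* _root_.Matrix.SpecialLinearGroup (Fin n) F :=
    (blk F hn).comp (SpecialLinearGroup.map (algebraMap (ZMod 2) F))
  have hf : Function.Injective f := by
    refine (blk_injective F hn).comp ?_
    intro g h hgh
    apply Subtype.ext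
    have h1 := congrArg Subtype.val hgh
    ext i j
    have h2 := congrFun (congrFun h1 i) j
    exact (algebraMap (ZMod 2) F).injective h2
  refine ⟨f sX, f sY, ?_, ?_, ?_⟩
  · intro h
    exact sX_ne (hf (h.trans (map_one f).symm))
  · rw [← map_pow, sX_pow, map_one]
  · rw [← map_inv, ← map_mul, ← map_mul, sYX, map_pow]

/-- **Fact X1.** -/
theorem exists_PSL (hF : ringChar F = 2) {n : ℕ} (hn : 4 ≤ n) :
    ∃ x y : ProjectiveSpecialLinearGroup (Fin n) F, orderOf x = 5 ∧ y * x * y⁻¹ = x ^ 2 := by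
  obtain ⟨x, y, hx, hx5, hxy⟩ := exists_SL (F := F) hF hn
  let q : _root_.Matrix.SpecialLinearGroup (Fin n) F →* ProjectiveSpecialLinearGroup (Fin n) F :=
    QuotientGroup.mk' (Subgroup.center (_root_.Matrix.SpecialLinearGroup (Fin n) F))
  have hq : q y * q x * (q y)⁻¹ = q x ^ 2 := by
    rw [← map_inv, ← map_mul, ← map_mul, hxy, map_pow]
  refine ⟨q x, q y, ?_, hq⟩
  have : Fact (Nat.Prime 5) := ⟨by norm_num⟩
  refine orderOf_eq_prime ?_ ?_
  · rw [← map_pow, hx5, map_one]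
  · intro h
    have hc : x ∈ Subgroup.center (_root_.Matrix.SpecialLinearGroup (Fin n) F) :=
      (QuotientGroup.eq_one_iff x).1 h
    have h1 : y * x * y⁻¹ = x := by
      rw [Subgroup.mem_center_iff.1 hc y, mul_inv_cancel_right]
    rw [h1, pow_two] at hxy
    exact hx (mul_eq_left.1 hxy.symm)

end Cfsg.Agent.H890.XSL
end

-- part: H907/SocleEven
section
/-!
Characteristic 2: the simple groups `P / Z` for perfect absolutely irreducible subgroups `P` of `GL_3(F)`.
-/

set_option autoImplicit false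

universe u

namespace Cfsg.Agent.H907.Even

open Subgroup Cfsg.Geo Cfsg.Agent.H912.Bd

variable {F : Type u} [Field F] [Finite F] {P : Subgroup (GL (Fin 3) F)}

/-- Transport of a pair `x, y` with `x` of prime order, conjugate to a different power of itself, along a homomorphism
with central kernel. -/
theorem transport {C G : Type*} [Group C] [Group G] (f : C →* G) (hker : f.ker ≤ center C) {r k : ℕ} (hr : r.Prime)
    (hk : ¬ k ≡ 1 [MOD r]) {x y : C} (hx : orderOf x = r) (hxy : y * x * y⁻¹ = x ^ k) :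
    ∃ x y : G, orderOf x = r ∧ y * x * y⁻¹ = x ^ k := by
  refine ⟨f x, f y, ?_, by rw [← map_inv, ← map_mul, ← map_mul, hxy, map_pow]⟩
  have : Fact r.Prime := ⟨hr⟩
  refine orderOf_eq_prime ?_ ?_
  · rw [← map_pow, ← hx, pow_orderOf_eq_one, map_one]
  · intro h
    have h1 := Subgroup.mem_center_iff.1 (hker h) y
    rw [h1, mul_inv_cancel_right] at hxy
    apply hk
    rw [← hx]
    apply Nat.ModEq.symm
    rw [← pow_eq_pow_iff_modEq, pow_one]
    exact hxy

/-- A homomorphism onto a group with central kernel, from a group with trivial centre, is an isomorphism. -/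
theorem equiv_of_center {C G : Type*} [Group C] [Group G] (f : C →* G) (hf : Function.Surjective f)
    (hker : f.ker ≤ center C) (hc : center C = ⊥) : Nonempty (G ≃* C) := by
  have hinj : Function.Injective f := by
    rw [← MonoidHom.ker_eq_bot_iff, eq_bot_iff, ← hc]
    exact hker
  exact ⟨(MulEquiv.ofBijective f ⟨hinj, hf⟩).symm⟩

theorem center_of_equiv {C D : Type*} [Group C] [Group D] (e : C ≃* D) (h : center D = ⊥) : center C = ⊥ := by
  rw [eq_bot_iff]
  intro x hx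
  have : e x ∈ center D := by
    rw [Subgroup.mem_center_iff]
    intro y
    obtain ⟨y, rfl⟩ := e.surjective y
    rw [← map_mul, ← map_mul, Subgroup.mem_center_iff.1 hx y]
  rw [h, Subgroup.mem_bot] at this
  exact (map_eq_one_iff e e.injective).1 this

theorem center_of_equiv_quot {C S : Type*} [Group C] [Group S] (e : C ≃* S ⧸ center S) (hC : commutator C = ⊤) :
    center C = ⊥ :=
  center_of_equiv e (center_quot_eq_bot (commutator_of_surjective hC e.toMonoidHom e.surjective))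

seal _root_.Finset.sum _root_.dotProduct in
/-- **Socles in characteristic 2.** -/
theorem socle_even (h2 : (2 : F) = 0) (hperf : ⁅P, P⁆ = P)
    (hsimp : IsSimpleGroup (P ⧸ (scalars (Fin 3) F).subgroupOf P))
    (hnab : ¬ IsMulCommutative (P ⧸ (scalars (Fin 3) F).subgroupOf P)) :
    (∃ (K : Type) (_ : Field K) (_ : Fintype K), ringChar K = 2 ∧
      Nonempty ((P ⧸ (scalars (Fin 3) F).subgroupOf P) ≃* Matrix.ProjectiveSpecialLinearGroup (Fin 2) K)) ∨
    (∃ (K : Type) (_ : Field K) (_ : Fintype K), ringChar K = 2 ∧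
      Nonempty ((P ⧸ (scalars (Fin 3) F).subgroupOf P) ≃* Matrix.ProjectiveSpecialLinearGroup (Fin 3) K)) ∨
    (∃ (K : Type) (_ : Field K) (_ : Fintype K) (m : ℕ), Fintype.card K = 4 ^ m ∧
      Nonempty ((P ⧸ (scalars (Fin 3) F).subgroupOf P) ≃* Cfsg.PSU 3 K (2 ^ m))) ∨
    Nonempty ((P ⧸ (scalars (Fin 3) F).subgroupOf P) ≃* ↥(alternatingGroup (Fin 6))) := by
  classical
  have hker : (QuotientGroup.mk' ((scalars (Fin 3) F).subgroupOf P)).ker ≤ center P := by
    rw [QuotientGroup.ker_mk']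
    exact H906.scalars_le_center
  have hcomm : commutator P = ⊤ := H906.commutator_eq_top_of_bracket hperf
  have hz2 : ∀ z ∈ (QuotientGroup.mk' ((scalars (Fin 3) F).subgroupOf P)).ker, z ^ 2 = 1 → z = 1 := by
    intro z hz hz2
    rw [QuotientGroup.ker_mk'] at hz
    have h3 := H906.scalar_pow_three (H906.le_specialLinear hperf) z.2 hz
    have h4 : z ^ 3 = 1 := Subtype.ext h3
    calc z = z ^ 3 * (z ^ 2)⁻¹ := by group
      _ = 1 := by rw [h4, hz2]; group
  -- even order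
  obtain ⟨g, hg1, hg⟩ : ∃ g : P, g ≠ 1 ∧ g ^ 2 = 1 := by
    have hev : 2 ∣ Nat.card P := by
      by_contra hodd
      have h1 : Odd (Nat.card P) := Nat.odd_iff.2 (by omega)
      have h3 : Group.IsSolvable P := Cfsg.Agent.S0205.result h1
      have h4 : Group.IsSolvable (P ⧸ (scalars (Fin 3) F).subgroupOf P) := by
        exact Group.isSolvable_of_surjective (QuotientGroup.mk'_surjective ((scalars (Fin 3) F).subgroupOf P))
      apply hnab
      have h5 := IsSimpleGroup.comm_iff_isSolvable.2 h4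
      exact ⟨⟨h5⟩⟩
    have : Fact (Nat.Prime 2) := ⟨Nat.prime_two⟩
    obtain ⟨g, hg⟩ := exists_prime_orderOf_dvd_card' 2 hev
    refine ⟨g, ?_, ?_⟩
    · rintro rfl
      rw [orderOf_one] at hg
      omega
    · rw [← hg, pow_orderOf_eq_one]
  obtain ⟨B, hB, hne, hti, hwc⟩ := exists_ti h2 hg1 hg
  obtain ⟨C, _, f, hfin, hf, hkf, hC, hlist⟩ := wrap (QuotientGroup.mk' ((scalars (Fin 3) F).subgroupOf P))
    (QuotientGroup.mk'_surjective _) hker hz2 hcomm hnab B hB hne hti hwc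
  have h2' : ∀ r : ℕ, r.Prime → r ≠ 2 → (r : F) ≠ 0 := by
    intro r hr hr2 h0
    have : CharP F 2 := CharTwo.of_one_ne_zero_of_two_eq_zero one_ne_zero h2
    have h3 := (CharP.cast_eq_zero_iff F 2 r).1 h0
    rcases (Nat.dvd_prime hr).1 h3 with h | h
    · omega
    · exact hr2 h.symm
  have key : ∀ (r k m : ℕ), r.Prime → r ≠ 2 → ¬ r ∣ 3 → 3 < m → (∀ i < m, 0 < i → k ^ i % r ≠ 1 % r) →
      (∃ x y : P ⧸ (scalars (Fin 3) F).subgroupOf P, orderOf x = r ∧ y * x * y⁻¹ = x ^ k) → False := by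
    rintro r k m hr hr2 hr3 hm hk ⟨x, y, hx, hxy⟩
    have h3 : PR F 3 r (P ⧸ (scalars (Fin 3) F).subgroupOf P) := PR.of_perfect P hperf hr hr3 (MulEquiv.refl _)
    have h4 : Bd F r m (P ⧸ (scalars (Fin 3) F).subgroupOf P) := bd_of_prime hr (h2' r hr hr2) hx hxy m hk
    have := h4 3 h3
    omega
  have five : (∃ x y : C, orderOf x = 5 ∧ y * x * y⁻¹ = x ^ 2) → False := by
    rintro ⟨x, y, hx, hxy⟩
    refine key 5 2 4 (by norm_num) (by norm_num) (by norm_num) (by norm_num) (by decide) ?_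
    exact transport f hkf (by norm_num) (by decide) hx hxy
  have eleven : (∃ x y : C, orderOf x = 11 ∧ y * x * y⁻¹ = x ^ 3) → False := by
    rintro ⟨x, y, hx, hxy⟩
    refine key 11 3 4 (by norm_num) (by norm_num) (by norm_num) (by norm_num) (by decide) ?_
    exact transport f hkf (by norm_num) (by decide) hx hxy
  rcases hlist with h | h | h | h | h | h | h
  · obtain ⟨K, iK, iF, n, hK, hn, ⟨e⟩⟩ := h
    rcases Nat.lt_or_ge n 4 with h4 | h4
    · have hcC : center C = ⊥ := center_of_equiv_quot e hC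
      obtain ⟨e'⟩ := equiv_of_center f hf hkf hcC
      interval_cases n
      · exact Or.inl ⟨K, iK, iF, hK, ⟨e'.trans e⟩⟩
      · exact Or.inr (Or.inl ⟨K, iK, iF, hK, ⟨e'.trans e⟩⟩)
    · exfalso
      obtain ⟨x, y, hx, hxy⟩ := H890.XSL.exists_PSL (F := K) hK h4
      exact five (H890.XSpor.of_injective e.symm.toMonoidHom e.symm.injective ⟨x, y, hx, hxy⟩)
  · exfalso
    have : Fact (Nat.Prime 2) := ⟨Nat.prime_two⟩
    obtain ⟨y, s, -, -, hy, -, -, -, -, -, hs⟩ := Cfsg.Agent.OddCyclic.T1SzFacts.exists_five h (default : Sylow 2 C)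
    exact five ⟨y, s⁻¹, hy, by rw [inv_inv]; exact hs⟩
  · obtain ⟨K, iK, iF, m, hK, ⟨e⟩⟩ := h
    have hcC : center C = ⊥ := center_of_equiv_quot e hC
    obtain ⟨e'⟩ := equiv_of_center f hf hkf hcC
    exact Or.inr (Or.inr (Or.inl ⟨K, iK, iF, m, hK, ⟨e'.trans e⟩⟩))
  · obtain ⟨k, h6, h9, ⟨e⟩⟩ := h
    rcases Nat.lt_or_ge k 7 with h7 | h7
    · have hk : k = 6 := by omega
      subst hk
      have hs : IsSimpleGroup ↥(alternatingGroup (Fin 6)) :=
        alternatingGroup.isSimpleGroup (by rw [Nat.card_eq_fintype_card, Fintype.card_fin]; norm_num)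
      have hna : ¬ IsMulCommutative ↥(alternatingGroup (Fin 6)) := by
        intro h
        have h1 := eq_one_of_comm hC (by
          refine ⟨⟨fun a b => ?_⟩⟩
          apply e.injective
          rw [map_mul, map_mul]
          exact h.is_comm.comm _ _)
        obtain ⟨a, ha⟩ := exists_ne (1 : ↥(alternatingGroup (Fin 6)))
        apply ha
        have := h1 (e.symm a)
        rw [← e.apply_symm_apply a, this, map_one]
      have hcC : center C = ⊥ := center_of_equiv e (center_simple hna)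
      obtain ⟨e'⟩ := equiv_of_center f hf hkf hcC
      exact Or.inr (Or.inr (Or.inr ⟨e'.trans e⟩))
    · exfalso
      exact five (H890.XSpor.of_injective e.symm.toMonoidHom e.symm.injective (H890.XSpor.exists_five_alt h7))
  · exact (eleven (H890.XSpor.exists_eleven_M22 h)).elim
  · exact (eleven (H890.XSpor.exists_eleven_M23 h)).elim
  · exact (eleven (H890.XSpor.exists_eleven_M24 h)).elim

end Cfsg.Agent.H907.Even
end

-- part: H906/CoreFinal
section
/-!
# The residual core in dimension three: assembly (helper906)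
-/

set_option autoImplicit false
set_option linter.unusedSectionVars false

namespace Cfsg.Agent.H906

open Cfsg Cfsg.Geo
open scoped MatrixGroups Matrix

universe u

variable {F : Type u} [Field F] {P : Subgroup (GL (Fin 3) F)}

/-- The core list, given the case of the alternating group of degree seven. -/
theorem core_of [Finite F] (hP : ActsAbsolutelyIrreducibly (matrixSet P)) (hperf : ⁅P, P⁆ = P)
    (hsimp : IsSimpleGroup (P ⧸ (scalars (Fin 3) F).subgroupOf P))
    (hnab : ¬ IsMulCommutative (P ⧸ (scalars (Fin 3) F).subgroupOf P))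
    (hns : ∀ F₀ : Subfield F, F₀ ≠ ⊤ → ¬ RealisableOver F₀ (matrixSet P)) (p : ℕ) [hp : Fact p.Prime] [CharP F p]
    (hA7 : p = 5 → Nonempty ((P ⧸ (scalars (Fin 3) F).subgroupOf P) ≃* alternatingGroup (Fin 7)) → Concl P p) :
    Concl P p := by
  by_cases h2 : (2 : F) = 0
  · have hp2 : p = 2 := by
      have h3 : p ∣ 2 := by
        rw [← CharP.cast_eq_zero_iff F p 2]
        exact_mod_cast h2
      exact (Nat.prime_dvd_prime_iff_eq hp.out Nat.prime_two).1 h3
    have hchar : ∀ (K : Type) [Field K], ringChar K = 2 → CharP K p := by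
      intro K _ h
      rw [hp2, ← h]
      exact ringChar.charP K
    rcases Cfsg.Agent.H907.Even.socle_even h2 hperf hsimp hnab with
      ⟨K, _, _, hK, ⟨Φ⟩⟩ | ⟨K, _, _, hK, ⟨Φ⟩⟩ | ⟨K, _, _, m, hK, ⟨Φ⟩⟩ | hΦ
    · have := hchar K hK
      exact Or.inr (Or.inl (L2_def hP hperf p Φ).2)
    · exact concl_L3 hP hperf hns p (Or.inl (hchar K hK)) Φ
    · have hKm : Fintype.card K = (2 ^ m) ^ 2 := by
        rw [hK, ← pow_mul, mul_comm m 2, pow_mul]
        norm_num
      have hK2 : CharP K p := by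
        obtain ⟨r, hr⟩ := CharP.exists K
        obtain ⟨n, hrp, hn⟩ := FiniteField.card K r
        have h1 : r ∣ 2 ^ (m * 2) := by
          rw [pow_mul, ← hKm, hn]
          exact dvd_pow_self r n.pos.ne'
        have h3 := (Nat.prime_dvd_prime_iff_eq hrp Nat.prime_two).1 (hrp.dvd_of_dvd_pow h1)
        rw [hp2, ← h3]
        exact hr
      exact concl_U3 hP hperf hsimp hns p hKm (Or.inl hK2) Φ
    · obtain ⟨Φ⟩ := hΦ
      exact concl_A6 hP hperf hns p Φ
  · have hp2 : p ≠ 2 := by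
      rintro rfl
      apply h2
      exact_mod_cast CharP.cast_eq_zero F 2
    rcases Cfsg.Agent.H890.Y1.socle_odd hperf hsimp hnab h2 with
      ⟨K, _, _, hK, hK5, ⟨Φ⟩⟩ | ⟨K, _, _, hK, ⟨Φ⟩⟩ | ⟨K, _, _, m, hKm, hK, ⟨Φ⟩⟩ | ⟨h5, hΦ⟩
    · exact concl_L2 hP hperf hns p hp2 hK hK5 Φ
    · exact concl_L3 hP hperf hns p (Or.inr hK) Φ
    · exact concl_U3 hP hperf hsimp hns p hKm (Or.inr hK) Φ
    · refine hA7 ?_ hΦ
      have h3 : p ∣ 5 := by
        rw [← CharP.cast_eq_zero_iff F p 5]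
        exact_mod_cast h5
      exact (Nat.prime_dvd_prime_iff_eq hp.out (by norm_num)).1 h3

end Cfsg.Agent.H906
end

-- part: H856/A7El
section
/-!
# Conjugacy of the elements of `A₇` to their inverses and squares
-/

set_option autoImplicit false

namespace Cfsg.Agent.H856.A7El

open Equiv.Perm

theorem multiset_seven (m : Multiset ℕ) (h2 : ∀ a ∈ m, 2 ≤ a) (hs : m.sum ≤ 7)
    (he : (m.sum + m.card) % 2 = 0) :
    m = {7} ∨ (((∀ a ∈ m, a ∣ 6) ∨ (∀ a ∈ m, a ∣ 4) ∨ (∀ a ∈ m, a ∣ 5)) ∧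
      ¬ ((∀ c ∈ m, Odd c) ∧ 7 ≤ m.sum + 1 ∧ ∀ i, m.count i ≤ 1)) := by
  have hc : 2 * m.card ≤ m.sum := by
    have := Multiset.card_nsmul_le_sum (s := m) (a := 2) h2
    simpa [mul_comm] using this
  have hc3 : m.card ≤ 3 := by omega
  interval_cases hk : m.card
  · rw [Multiset.card_eq_zero] at hk
    subst hk
    simp only [_root_.Multiset.zero_ne_singleton, _root_.Multiset.notMem_zero, _root_.IsEmpty.forall_iff, _root_.implies_true, _root_.or_self, _root_.Multiset.sum_zero, _root_.zero_add, _root_.Nat.not_ofNat_le_one, _root_.not_false_eq_true, _root_.Multiset.count_eq_zero_of_notMem, _root_.zero_le, _root_.and_true, _root_.and_false, _root_.and_self, _root_.or_true]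
  · obtain ⟨a, rfl⟩ := Multiset.card_eq_one.1 hk
    simp only [Multiset.mem_singleton, forall_eq, Multiset.sum_singleton] at *
    interval_cases a <;> simp only [_root_.Nat.reduceAdd, _root_.Nat.reduceMod, _root_.one_ne_zero, _root_.Multiset.singleton_inj, _root_.Nat.reduceEqDiff, _root_.Nat.reduceDvd, _root_.or_self, _root_.or_false, _root_.Nat.reduceLeDiff, _root_.Multiset.nodup_singleton, _root_.false_and, _root_.and_false, _root_.not_false_eq_true, _root_.and_self, _root_.or_true, _root_.dvd_refl, _root_.true_and, _root_.not_and, _root_.Classical.not_forall, _root_.not_le] at he ⊢ <;> omega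
  · obtain ⟨a, b, rfl⟩ := Multiset.card_eq_two.1 hk
    simp only [Multiset.insert_eq_cons, Multiset.mem_cons, Multiset.mem_singleton, forall_eq_or_imp, forall_eq,
      Multiset.sum_cons, Multiset.sum_singleton] at *
    right
    have ha : a ≤ 5 := by omega
    have hb : b ≤ 5 := by omega
    obtain ⟨ha2, hb2⟩ := h2
    interval_cases a <;> interval_cases b <;> first | (clear * - he hs; omega) | skip
    all_goals
      refine ⟨by decide, ?_⟩
      rintro ⟨h1, h3, h4⟩
      first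
        | exact absurd h1 (by decide)
        | exact absurd (h4 3) (by decide)
        | omega
  · obtain ⟨a, b, c, rfl⟩ := Multiset.card_eq_three.1 hk
    simp only [Multiset.insert_eq_cons, Multiset.mem_cons, Multiset.mem_singleton, forall_eq_or_imp, forall_eq,
      Multiset.sum_cons, Multiset.sum_singleton] at *
    right
    obtain ⟨ha2, hb2, hc2⟩ := h2
    have ha : a ≤ 3 := by omega
    have hb : b ≤ 3 := by omega
    have hc : c ≤ 3 := by omega
    interval_cases a <;> interval_cases b <;> interval_cases c <;> first | (clear * - he hs; omega) | skip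
    all_goals
      refine ⟨by decide, ?_⟩
      rintro ⟨h1, h3, h4⟩
      first
        | exact absurd h1 (by decide)
        | exact absurd (h4 3) (by decide)
        | omega

theorem pow_eq_one {g : Equiv.Perm (Fin 7)} {n : ℕ} (h : ∀ a ∈ g.cycleType, a ∣ n) : g ^ n = 1 := by
  rw [← orderOf_dvd_iff_pow_eq_one, ← lcm_cycleType]
  exact Multiset.lcm_dvd.2 h

/-- In `A₇` an element is conjugate to its inverse, or is of order `7` and conjugate to its square. -/
theorem elements (g : alternatingGroup (Fin 7)) :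
    ((∃ y, y * g * y⁻¹ = g⁻¹) ∧ (g ^ 6 = 1 ∨ g ^ 4 = 1)) ∨ ((∃ y, y * g * y⁻¹ = g ^ 2) ∧ g ^ 7 = 1) ∨ g ^ 5 = 1 := by
  obtain ⟨g, hg⟩ := g
  have hs : g.cycleType.sum ≤ 7 := by
    have := g.sum_cycleType
    rw [this]
    exact (Finset.card_le_univ _).trans (by simp)
  have he : (g.cycleType.sum + g.cycleType.card) % 2 = 0 := by
    rw [mem_alternatingGroup, sign_of_cycleType] at hg
    rcases Nat.mod_two_eq_zero_or_one (g.cycleType.sum + g.cycleType.card) with h | h
    · exact h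
    · exfalso
      rw [(Nat.odd_iff.2 h).neg_one_pow] at hg
      exact absurd hg (by decide)
  have hsig : ∀ y : Equiv.Perm (Fin 7), sign y = 1 ∨ sign y = -1 := fun y => Int.units_eq_one_or _
  rcases multiset_seven g.cycleType (fun a ha => two_le_of_mem_cycleType ha) hs he with h7 | ⟨hord, hodd⟩
  · right; left
    have ho : orderOf g = 7 := by
      rw [← lcm_cycleType, h7]
      simp
    have hg7 : g ^ 7 = 1 := by
      have := pow_orderOf_eq_one g
      rwa [ho] at this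
    have hcen : Subgroup.centralizer {g} ≤ alternatingGroup (Fin 7) := by
      rw [centralizer_le_alternating_iff, h7]
      refine ⟨by simp; decide, by simp, fun i => ?_⟩
      rw [Multiset.count_singleton]
      split_ifs <;> omega
    have hconj : IsConj g (g ^ 2) := by
      rw [isConj_iff_cycleType_eq]
      have h2 : orderOf (g ^ 2) = 7 := by
        rw [orderOf_pow, ho]; norm_num
      have h1 : (g ^ 2).cycleType.lcm = 7 := by rw [lcm_cycleType, h2]
      have hs2 : (g ^ 2).cycleType.sum ≤ 7 := by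
        rw [(g ^ 2).sum_cycleType]
        exact (Finset.card_le_univ _).trans (by simp)
      have h7' : 7 ∈ (g ^ 2).cycleType := by
        by_contra hcon
        have h3 : (g ^ 2).cycleType.lcm ∣ 60 := by
          rw [Multiset.lcm_dvd]
          intro b hb
          have hb2 := two_le_of_mem_cycleType hb
          have hb7 : b ≤ 7 := (Multiset.le_sum_of_mem hb).trans hs2
          have hne : b ≠ 7 := fun h => hcon (h ▸ hb)
          interval_cases b <;> first | omega | norm_num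
        rw [h1] at h3
        norm_num at h3
      obtain ⟨t, ht⟩ := Multiset.exists_cons_of_mem h7'
      rw [h7, ht]
      have ht0 : t.sum = 0 := by
        rw [ht, Multiset.sum_cons] at hs2
        omega
      have : t = 0 := by
        apply Multiset.eq_zero_of_forall_notMem
        intro b hb
        have h5 := Multiset.le_sum_of_mem hb
        have h6 := two_le_of_mem_cycleType (σ := g ^ 2) (n := b) (by rw [ht]; exact Multiset.mem_cons_of_mem hb)
        omega
      rw [this]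
      rfl
    obtain ⟨y, hy⟩ := isConj_iff.1 hconj
    have hy3 : y ^ 3 ∈ Subgroup.centralizer {g} := by
      rw [Subgroup.mem_centralizer_singleton_iff]
      have e1 : y * g = g ^ 2 * y := by rw [← hy]; group
      have e2 : y ^ 3 * g = g ^ 8 * y ^ 3 := by
        have e2' : y * g ^ 2 = g ^ 4 * y := by
          rw [sq, ← mul_assoc, e1, mul_assoc, e1, ← mul_assoc, ← pow_add]
        have e3' : y * g ^ 4 = g ^ 8 * y := by
          rw [show g ^ 4 = g ^ 2 * g ^ 2 by rw [← pow_add], ← mul_assoc, e2', mul_assoc, e2', ← mul_assoc, ← pow_add]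
        calc y ^ 3 * g = y * (y * (y * g)) := by rw [pow_succ, sq]; simp only [mul_assoc]
          _ = g ^ 8 * y ^ 3 := by
            rw [e1, ← mul_assoc y (g ^ 2), e2', mul_assoc (g ^ 4), ← mul_assoc y (g ^ 4), e3']
            rw [pow_succ y, sq]; simp only [mul_assoc]
      have e3 : g ^ 8 = g := by
        rw [show 8 = 7 + 1 from rfl, pow_succ, hg7, one_mul]
      rw [e2, e3]
    have hysig : sign y = 1 := by
      rcases hsig y with h | h
      · exact h
      · have := hcen hy3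
        rw [mem_alternatingGroup, map_pow, h] at this
        exact absurd this (by decide)
    refine ⟨⟨⟨y, mem_alternatingGroup.2 hysig⟩, Subtype.ext hy⟩, Subtype.ext ?_⟩
    exact hg7
  · have hreal : ∃ y : alternatingGroup (Fin 7), y * ⟨g, hg⟩ * y⁻¹ = (⟨g, hg⟩ : alternatingGroup (Fin 7))⁻¹ := by
      have hconj : IsConj g g⁻¹ := by
        rw [isConj_iff_cycleType_eq, cycleType_inv]
      obtain ⟨y, hy⟩ := isConj_iff.1 hconj
      have hncen : ¬ Subgroup.centralizer {g} ≤ alternatingGroup (Fin 7) := by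
        rw [centralizer_le_alternating_iff]
        rw [Fintype.card_fin]
        exact hodd
      rw [SetLike.le_def] at hncen
      push Not at hncen
      obtain ⟨z, hz, hzn⟩ := hncen
      rw [Subgroup.mem_centralizer_singleton_iff] at hz
      rcases hsig y with h | h
      · exact ⟨⟨y, mem_alternatingGroup.2 h⟩, Subtype.ext hy⟩
      · refine ⟨⟨y * z, ?_⟩, Subtype.ext ?_⟩
        · rw [mem_alternatingGroup, map_mul, h]
          rcases hsig z with h' | h'
          · exact (hzn (mem_alternatingGroup.2 h')).elim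
          · rw [h']; decide
        · change y * z * g * (y * z)⁻¹ = g⁻¹
          rw [mul_inv_rev, mul_assoc y z g, hz, ← hy]
          group
    rcases hord with h | h | h
    · left
      exact ⟨hreal, Or.inl (Subtype.ext (pow_eq_one h))⟩
    · left
      exact ⟨hreal, Or.inr (Subtype.ext (pow_eq_one h))⟩
    · right; right
      exact Subtype.ext (pow_eq_one h)

end Cfsg.Agent.H856.A7El
end

-- part: H856/A7Tr
section
/-!
# `P / scalars ≅ A₇` in dimension three, characteristic five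
-/

set_option autoImplicit false
set_option linter.unusedSectionVars false

namespace Cfsg.Agent.H856.A7Tr

open Cfsg Cfsg.Geo Cfsg.Agent.H906
open scoped MatrixGroups Matrix

section abstract

variable {G : Type*} [Group G] {a c m : G}

theorem conj_pow_central {n : ℕ} (hkc : ∀ g : G, g * a ^ n = a ^ n * g) : (c * a * c⁻¹) ^ n = a ^ n := by
  rw [conj_pow, hkc c, mul_assoc, mul_inv_cancel, mul_one]

theorem abs_six (hm3 : m ^ 3 = 1) (hmc : ∀ g : G, g * m = m * g) (hk3 : (a ^ 6) ^ 3 = 1)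
    (hkc : ∀ g : G, g * a ^ 6 = a ^ 6 * g) (h : c * a * c⁻¹ = m * a⁻¹) : a ^ 5 = a⁻¹ := by
  have hmcomm : Commute m a⁻¹ := (hmc a⁻¹).symm
  have e1 := conj_pow_central (c := c) hkc
  rw [h, hmcomm.mul_pow, show m ^ 6 = (m ^ 3) ^ 2 by rw [← pow_mul], hm3, one_pow, one_mul, inv_pow] at e1
  have e2 : (a ^ 6) ^ 2 = 1 := by
    rw [sq]
    nth_rewrite 1 [← e1]
    rw [inv_mul_cancel]
  have e3 : a ^ 6 = 1 := by
    have : (a ^ 6) ^ 3 = (a ^ 6) ^ 2 * a ^ 6 := pow_succ _ _
    rw [hk3, e2, one_mul] at this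
    exact this.symm
  have e4 : a ^ 6 = a ^ 5 * a := pow_succ _ _
  rw [e3] at e4
  exact eq_inv_of_mul_eq_one_left e4.symm

theorem abs_four (hm3 : m ^ 3 = 1) (hmc : ∀ g : G, g * m = m * g) (hk3 : (a ^ 4) ^ 3 = 1)
    (hkc : ∀ g : G, g * a ^ 4 = a ^ 4 * g) (h : c * a * c⁻¹ = m * a⁻¹) : c * a ^ 5 * c⁻¹ = a⁻¹ := by
  have hmcomm : Commute m a⁻¹ := (hmc a⁻¹).symm
  have e1 := conj_pow_central (c := c) hkc
  rw [h, hmcomm.mul_pow, show m ^ 4 = m ^ 3 * m by rw [← pow_succ], hm3, one_mul, inv_pow] at e1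
  have e2 : m = a ^ 4 * a ^ 4 := by rw [← eq_mul_inv_iff_mul_eq, inv_inv] at e1; exact e1
  have e3 : a ^ 4 * m = 1 := by
    rw [e2, ← mul_assoc, ← sq, ← pow_succ, hk3]
  rw [show a ^ 5 = a ^ 4 * a from pow_succ _ _, ← mul_assoc, hkc c, mul_assoc, mul_assoc, ← mul_assoc c, h,
    ← mul_assoc, e3, one_mul]

theorem abs_seven (hm3 : m ^ 3 = 1) (hmc : ∀ g : G, g * m = m * g)
    (hkc : ∀ g : G, g * a ^ 7 = a ^ 7 * g) (h : c * a * c⁻¹ = m * a ^ 2) : c * a⁻¹ * c⁻¹ = a ^ 5 := by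
  have hmcomm : Commute m (a ^ 2) := (hmc (a ^ 2)).symm
  have e1 := conj_pow_central (c := c) hkc
  rw [h, hmcomm.mul_pow, show m ^ 7 = (m ^ 3) ^ 2 * m by rw [← pow_mul, ← pow_succ], hm3, one_pow, one_mul,
    ← pow_mul] at e1
  have e2 : m * a ^ 7 = 1 := by
    have : m * a ^ (2 * 7) = m * a ^ 7 * a ^ 7 := by rw [mul_assoc, ← pow_add]
    rw [this] at e1
    exact mul_eq_right.1 e1
  have e3 : (c * a * c⁻¹)⁻¹ = a ^ 5 := by
    rw [h]
    apply inv_eq_of_mul_eq_one_right
    rw [mul_assoc, ← pow_add, e2]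
  rw [← e3]
  group

end abstract

variable {F : Type*} [Field F] {P : Subgroup (GL (Fin 3) F)} {Γ : Type*} [Group Γ]
  {Φ : (P ⧸ (scalars (Fin 3) F).subgroupOf P) ≃* Γ}

/-- The kernel of `P → Γ` is central of exponent three. -/
theorem ker_facts (hperf : ⁅P, P⁆ = P) {z : P} (hz : pr Φ z = 1) : z ^ 3 = 1 ∧ ∀ g : P, g * z = z * g := by
  have h1 := (pr_eq_one Φ).1 hz
  refine ⟨Subtype.ext (scalar_pow_three (le_specialLinear hperf) z.2 h1), fun g => ?_⟩
  have h2 := scalars_le_center (P := P) (show z ∈ (scalars (Fin 3) F).subgroupOf P from h1)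
  exact Subgroup.mem_center_iff.1 h2 g

/-- Lifting a conjugation: `c a c⁻¹ = m b` with `m` in the kernel. -/
theorem lift_conj {a b : P} {y : Γ} (h : y * pr Φ a * y⁻¹ = pr Φ b) :
    ∃ c m : P, pr Φ m = 1 ∧ c * a * c⁻¹ = m * b := by
  obtain ⟨c, hc⟩ := pr_surjective Φ y
  refine ⟨c, c * a * c⁻¹ * b⁻¹, ?_, by group⟩
  rw [map_mul, map_mul, map_mul, map_inv, map_inv, hc, h, mul_inv_cancel]

theorem conj_five (hperf : ⁅P, P⁆ = P)
    (Φ : (P ⧸ (scalars (Fin 3) F).subgroupOf P) ≃* alternatingGroup (Fin 7)) (a : P)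
    (hcop : (orderOf a).Coprime 5) : ∃ c : P, c * a ^ 5 * c⁻¹ = a⁻¹ ∨ c * a⁻¹ * c⁻¹ = a ^ 5 := by
  have hk := fun (n : ℕ) (h : pr Φ a ^ n = 1) => ker_facts (Φ := Φ) hperf (z := a ^ n) (by rw [map_pow, h])
  rcases A7El.elements (pr Φ a) with ⟨⟨y, hy⟩, h6 | h4⟩ | ⟨⟨y, hy⟩, h7⟩ | h5
  · rw [← map_inv] at hy
    obtain ⟨c, m, hm, hcm⟩ := lift_conj hy
    obtain ⟨hm3, hmc⟩ := ker_facts hperf hm
    obtain ⟨hk3, hkc⟩ := hk 6 h6
    refine ⟨1, Or.inl ?_⟩
    rw [one_mul, inv_one, mul_one]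
    exact abs_six hm3 hmc hk3 hkc hcm
  · rw [← map_inv] at hy
    obtain ⟨c, m, hm, hcm⟩ := lift_conj hy
    obtain ⟨hm3, hmc⟩ := ker_facts hperf hm
    obtain ⟨hk3, hkc⟩ := hk 4 h4
    exact ⟨c, Or.inl (abs_four hm3 hmc hk3 hkc hcm)⟩
  · rw [← map_pow] at hy
    obtain ⟨c, m, hm, hcm⟩ := lift_conj hy
    obtain ⟨hm3, hmc⟩ := ker_facts hperf hm
    obtain ⟨hk3, hkc⟩ := hk 7 h7
    exact ⟨c, Or.inr (abs_seven hm3 hmc hkc hcm)⟩
  · have h1 : pr Φ a = 1 := by
      have h2 : orderOf (pr Φ a) ∣ 5 := orderOf_dvd_of_pow_eq_one h5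
      have h3 : orderOf (pr Φ a) ∣ orderOf a := orderOf_map_dvd (pr Φ) a
      have h4 : orderOf (pr Φ a) ∣ 1 := by
        rw [← hcop]
        exact Nat.dvd_gcd h3 h2
      exact orderOf_eq_one_iff.1 (Nat.dvd_one.1 h4)
    have h2 := (ker_facts hperf h1).1
    refine ⟨1, Or.inl ?_⟩
    rw [one_mul, inv_one, mul_one]
    apply eq_inv_of_mul_eq_one_left
    rw [← pow_succ, show 5 + 1 = 3 * 2 from rfl, pow_mul, h2, one_pow]

/-- **`A₇`** in characteristic five. -/
theorem A7_five [Finite F] (hP : ActsAbsolutelyIrreducibly (matrixSet P)) (hperf : ⁅P, P⁆ = P)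
    (hns : ∀ F₀ : Subfield F, F₀ ≠ ⊤ → ¬ RealisableOver F₀ (matrixSet P)) [CharP F 5]
    (Φ : (P ⧸ (scalars (Fin 3) F).subgroupOf P) ≃* alternatingGroup (Fin 7)) :
    (∃ Q : (Fin 3 → F) → F, IsNondegenerateQuadraticForm Q ∧ FixesQuadForm (matrixSet P) Q) ∨
    (Nat.card F = 5 ^ 2 ∧ ∃ (σ : F ≃+* F) (f : (Fin 3 → F) → (Fin 3 → F) → F),
        (∀ x, σ x = x ^ 5) ∧ IsUnitaryForm σ f ∧ FixesForm (matrixSet P) f) := by
  have h5p : Fact (Nat.Prime 5) := ⟨by norm_num⟩
  have htr : ∀ g ∈ P, (g : Matrix (Fin 3) (Fin 3) F).trace ^ 5 ^ 1 =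
      ((g⁻¹ : GL (Fin 3) F) : Matrix (Fin 3) (Fin 3) F).trace := by
    intro g hg
    rw [pow_one]
    refine trace_of_reg 5 5 (fun s hs hcop => ?_) g hg
    rw [trace_pow_GL]
    obtain ⟨c, hc | hc⟩ := conj_five hperf Φ ⟨s, hs⟩ (by rwa [← Subgroup.orderOf_coe])
    · have h1 : (c : GL (Fin 3) F) * s ^ 5 * (c : GL (Fin 3) F)⁻¹ = s⁻¹ := congrArg Subtype.val hc
      rw [← h1, trace_conj]
    · have h1 : (c : GL (Fin 3) F) * s⁻¹ * (c : GL (Fin 3) F)⁻¹ = s ^ 5 := congrArg Subtype.val hc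
      rw [← h1, trace_conj]
  obtain ⟨h1, ⟨-, -, hQ⟩ | ⟨⟨x, hx⟩, hU⟩⟩ := form_of_trace hP 5 1 hns htr
  · exact Or.inl hQ
  · right
    refine ⟨?_, ?_⟩
    · have := Fintype.ofFinite F
      obtain ⟨e, he0, he⟩ := FiniteField.card F 5
      rw [← Nat.card_eq_fintype_card] at he
      have h6 := card_le_of_pow_eq (by norm_num) h1
      have h7 : Nat.card F - 1 ≤ 5 ^ 1 * 5 ^ 1 - 1 := Nat.le_of_dvd (by norm_num) h6
      have h8 : (e : ℕ) ≤ 2 := by
        by_contra hcon
        have : 5 ^ 3 ≤ Nat.card F := by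
          rw [he]
          exact Nat.pow_le_pow_right (by norm_num) (by omega)
        omega
      have h9 : (e : ℕ) = 1 ∨ (e : ℕ) = 2 := by have := e.pos; omega
      rcases h9 with h9 | h9
      · exfalso
        apply hx
        rw [h9] at he
        have := FiniteField.pow_card x
        rw [← Nat.card_eq_fintype_card, he] at this
        exact this
      · rw [he, h9]
    · simpa only [_root_.exists_and_left, _root_.pow_one] using hU

end Cfsg.Agent.H856.A7Tr
end

private theorem dce_87ab89fbf296 : _root_.True := by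
  try have : _root_.True := by simp only [_root_.Cfsg.Agent.H906.bl.eq_1]
  exact _root_.True.intro
end

-- part: H906/CoreEnd
section
set_option linter.all false

/-!
# The residual core in dimension three (helper906; A₇ by helper856)
-/

set_option autoImplicit false
set_option linter.unusedSectionVars false

namespace Cfsg.Agent.H906

open Cfsg Cfsg.Geo
open scoped MatrixGroups Matrix

universe u

variable {F : Type u} [Field F] {P : Subgroup (GL (Fin 3) F)}

/-- **The core list in dimension three.** -/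
theorem core3 [Finite F] (hP : ActsAbsolutelyIrreducibly (matrixSet P)) (hperf : ⁅P, P⁆ = P)
    (hsimp : IsSimpleGroup (P ⧸ (scalars (Fin 3) F).subgroupOf P))
    (hnab : ¬ IsMulCommutative (P ⧸ (scalars (Fin 3) F).subgroupOf P))
    (hns : ∀ F₀ : Subfield F, F₀ ≠ ⊤ → ¬ RealisableOver F₀ (matrixSet P)) (p : ℕ) [hp : Fact p.Prime] [CharP F p] :
    Concl P p := by
  refine core_of hP hperf hsimp hnab hns p fun hp5 hΦ => ?_
  obtain ⟨Φ⟩ := hΦ
  subst hp5
  rcases Cfsg.Agent.H856.A7Tr.A7_five hP hperf hns Φ with h | ⟨h1, h2⟩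
  · exact Or.inr (Or.inl h)
  · exact Or.inr (Or.inr (Or.inr (Or.inr (Or.inr ⟨rfl, h1, h2, ⟨Φ⟩⟩))))

end Cfsg.Agent.H906
end
end
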