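import Cfsg.Agent.H933.O10.Base_m3
import Cfsg.Agent.H637.A7Main
import Cfsg.Agent.H13.M22.Twelve
import Cfsg.Agent.H921.M22.Final_m3
import Cfsg.Agent.H937.T2Rep_m3
import Cfsg.Agent.H925.NatMain
import Cfsg.Agent.H887.DS.Twelve
import Cfsg.Agent.H905.Sp4Final
import Cfsg.Agent.H905.MdN
import Cfsg.Agent.H708.ReeSix_m3
import Cfsg.Agent.H927.LDTwF4
import Cfsg.Agent.H925.U52Form
import Cfsg.Agent.H879.Nine.Ctx_m3
import Cfsg.Agent.H924.D5L
import Cfsg.Agent.H876.D3.Main5_m3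
import Cfsg.Agent.H392.TD.Main
import Cfsg.Agent.H708.ReeTw
import Cfsg.Agent.H927.G2Main
import Cfsg.Agent.H114.O12.MEleven_mg_m3
import Cfsg.Agent.H875.TwoQuad
import Cfsg.Agent.H879.Nine.RowPSL
import Cfsg.Agent.H905.Sp4Adj
import Cfsg.Agent.Prune
set_option linter.all false
prune_inst 0x7fffbdffbbfe7fffdfff7e7fafdcdffdffbbbfffe6dff9cbffe06bffabdf7b9ac9e52bad8fea70fe1fd66a3c10f87b53f9ffeeffea6bdc7ffffd5ff41ffbffdffdf7b50871968c340fbc2ff703f0778e7f3fffffffffffffffffffffffffffbeffbfffffffff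
open scoped Cfsg.Agent.FastGrp

-- part: H906/A7Sub
section
/-!
# Dimensions of fixed spaces: Scott's lemma for subgroups, `D₈`, `5:4`, `7:3`
-/

set_option autoImplicit false
set_option linter.unusedSectionVars false

namespace Cfsg.Agent.H906.A7T

open Module Cfsg.Agent.H637.JW Cfsg.Agent.H882.Dim Cfsg.Agent.H882.Sc

variable {K : Type*} [Field K] {V : Type*} [AddCommGroup V] [Module K V] [FiniteDimensional K V]
  {G : Type*} [Group G] {σ : G →* Module.End K V}

/-- in a group without fixed vectors the ranges of `x - 1`, `y - 1` span -/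
theorem sup_eq_top {B : V →ₗ[K] V →ₗ[K] K} (hB : Form σ B) {x y : G}
    (h0 : ∀ v, σ x v = v → σ y v = v → v = 0) : Rg σ x ⊔ Rg σ y = ⊤ := by
  by_contra hne
  obtain ⟨f, hf0, hf⟩ := Submodule.exists_le_ker_of_lt_top _ (lt_top_iff_ne_top.2 hne)
  have hinj : Function.Injective B := by
    rw [injective_iff_map_eq_zero]
    exact fun v hv => hB.nd v fun w => LinearMap.congr_fun hv w
  have hsurj : Function.Surjective B := by
    rw [← LinearMap.injective_iff_surjective_of_finrank_eq_finrank (by exact (Subspace.dual_finrank_eq).symm)]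
    exact hinj
  obtain ⟨u, rfl⟩ := hsurj f
  have key : ∀ x : G, Rg σ x ≤ LinearMap.ker (B u) → σ x u = u := by
    intro x hx
    have h1 : ∀ v, B u (σ x v) = B u v := fun v => by
      have h2 : B u (σ x v - v) = 0 := hx (mem_Rg x v)
      rwa [map_sub, sub_eq_zero] at h2
    have h3 : σ x⁻¹ u = u := by
      apply hinj
      ext v
      rw [← hB.inv x, ← mul_apply', mul_inv_cancel, map_one, Module.End.one_apply, h1]
    calc σ x u = σ x (σ x⁻¹ u) := by rw [h3]
      _ = u := by rw [← mul_apply', mul_inv_cancel, map_one, Module.End.one_apply]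
  have h4 := h0 u (key x (le_sup_left.trans hf)) (key y (le_sup_right.trans hf))
  apply hf0
  rw [h4, map_zero]

/-- **Scott's lemma for a subgroup without fixed vectors.** -/
theorem scott_sub {B : V →ₗ[K] V →ₗ[K] K} (hB : Form σ B) {x y : G}
    (h0 : ∀ v, σ x v = v → σ y v = v → v = 0) :
    finrank K (Fix σ x) + finrank K (Fix σ y) + finrank K (Fix σ (x * y)) ≤ finrank K V := by
  let f : Fix σ (x * y) →ₗ[K] V := (σ y - 1).comp (_root_.Cfsg.Agent.H637.JW.Fix σ (x * y)).subtype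
  have hfx : ∀ v : Fix σ (x * y), σ x (σ y (v : V)) = v := fun v => by
    rw [← mul_apply']
    exact mem_Fix.1 v.2
  have hf : Function.Injective f := by
    rw [injective_iff_map_eq_zero]
    rintro ⟨v, hv⟩ h1
    have h3 : σ y v = v := sub_eq_zero.1 h1
    have h4 : σ x (σ y v) = v := hfx ⟨v, hv⟩
    rw [h3] at h4
    exact Subtype.ext (h0 v h4 h3)
  have hr : LinearMap.range f ≤ Rg σ x ⊓ Rg σ y := by
    rintro _ ⟨v, rfl⟩
    refine ⟨⟨-(σ y v), ?_⟩, ⟨v, rfl⟩⟩
    change σ x (-(σ y v)) - -(σ y v) = σ y v - v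
    rw [map_neg, hfx v]
    abel
  have h5 := Submodule.finrank_mono hr
  rw [LinearMap.finrank_range_of_inj hf] at h5
  have h6 := Submodule.finrank_sup_add_finrank_inf_eq (Rg σ x) (Rg σ y)
  rw [sup_eq_top hB h0, finrank_top] at h6
  have h7 := rank_Rg (σ := σ) x
  have h8 := rank_Rg (σ := σ) y
  omega

/-- the space of vectors fixed by an endomorphism -/
abbrev F1 (S : Module.End K V) : Submodule K V := S.eigenspace 1
/-- the space of vectors negated by an endomorphism -/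
abbrev A1 (S : Module.End K V) : Submodule K V := S.eigenspace (-1)

theorem mem_F1 {S : Module.End K V} {v : V} : v ∈ F1 S ↔ S v = v := by
  rw [Module.End.mem_eigenspace_iff, one_smul]

theorem mem_A1 {S : Module.End K V} {v : V} : v ∈ A1 S ↔ S v = -v := by
  rw [Module.End.mem_eigenspace_iff, neg_one_smul]

/-- splitting by an involutory operator -/
theorem split_inv (h2 : (2 : K) ≠ 0) (S : Module.End K V) (U : Submodule K V) (hU : ∀ v ∈ U, S v ∈ U)
    (hS : ∀ v ∈ U, S (S v) = v) :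
    finrank K (U ⊓ F1 S : Submodule K V) + finrank K (U ⊓ A1 S : Submodule K V) = finrank K U := by
  refine split ((2 : K)⁻¹ • (1 + S)) U _ _ (fun v hv => ?_) (fun v hv => ?_) (fun v hv => ?_) fun v _ h1 h3 => ?_
  · exact U.smul_mem _ (U.add_mem hv (hU v hv))
  · rw [mem_F1, LinearMap.smul_apply, map_smul, LinearMap.add_apply, Module.End.one_apply, map_add, hS v hv, add_comm]
  · rw [mem_A1, LinearMap.smul_apply, map_sub, map_smul, LinearMap.add_apply, Module.End.one_apply, map_add, hS v hv]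
    match_scalars <;> field_simp <;> ring
  · rw [mem_F1] at h1
    rw [mem_A1, h1] at h3
    have h4 : (2 : K) • v = 0 := by rw [two_smul]; nth_rewrite 1 [h3]; exact neg_add_cancel v
    exact (smul_eq_zero.1 h4).resolve_left h2

/-- two commuting involutory operators -/
theorem klein_on (h2 : (2 : K) ≠ 0) (S T : Module.End K V) (U : Submodule K V) (hSU : ∀ v ∈ U, S v ∈ U)
    (hTU : ∀ v ∈ U, T v ∈ U) (hS : ∀ v ∈ U, S (S v) = v) (hT : ∀ v ∈ U, T (T v) = v)
    (hST : ∀ v ∈ U, S (T v) = T (S v)) :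
    finrank K (U ⊓ F1 S : Submodule K V) + finrank K (U ⊓ F1 T : Submodule K V) +
      finrank K (U ⊓ F1 (S * T) : Submodule K V) = 2 * finrank K (U ⊓ F1 S ⊓ F1 T : Submodule K V) + finrank K U := by
  have s5 := split_inv h2 S U hSU hS
  have s1 := split_inv h2 T (U ⊓ F1 S) (fun v hv => ⟨hTU v hv.1, by
    have h3 := mem_F1.1 hv.2
    show T v ∈ F1 S
    rw [mem_F1, hST v hv.1, h3]⟩) (fun v hv => hT v hv.1)
  have s4 := split_inv h2 T (U ⊓ A1 S) (fun v hv => ⟨hTU v hv.1, by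
    have h3 := mem_A1.1 hv.2
    show T v ∈ A1 S
    rw [mem_A1, hST v hv.1, h3, map_neg]⟩) (fun v hv => hT v hv.1)
  have s2 := split_inv h2 S (U ⊓ F1 T) (fun v hv => ⟨hSU v hv.1, by
    have h3 := mem_F1.1 hv.2
    show S v ∈ F1 T
    rw [mem_F1, ← hST v hv.1, h3]⟩) (fun v hv => hS v hv.1)
  have s3 := split_inv h2 S (U ⊓ F1 (S * T)) (fun v hv => ⟨hSU v hv.1, by
    have h3 : S (T v) = v := mem_F1.1 hv.2
    show S v ∈ F1 (S * T)
    rw [mem_F1]
    change S (T (S v)) = S v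
    rw [← hST v hv.1, h3]⟩) (fun v hv => hS v hv.1)
  have e1 : U ⊓ F1 T ⊓ F1 S = U ⊓ F1 S ⊓ F1 T := by rw [inf_assoc, inf_comm (F1 T), ← inf_assoc]
  have e2 : U ⊓ F1 T ⊓ A1 S = U ⊓ A1 S ⊓ F1 T := by rw [inf_assoc, inf_comm (F1 T), ← inf_assoc]
  have e3 : U ⊓ F1 (S * T) ⊓ F1 S = U ⊓ F1 S ⊓ F1 T := by
    ext v
    simp only [Submodule.mem_inf, mem_F1, Module.End.mul_apply]
    constructor
    · rintro ⟨⟨h1, h3⟩, h4⟩
      refine ⟨⟨h1, h4⟩, ?_⟩
      rw [hST v h1, h4] at h3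
      exact h3
    · rintro ⟨⟨h1, h3⟩, h4⟩
      exact ⟨⟨h1, by rw [h4, h3]⟩, h3⟩
  have e4 : U ⊓ F1 (S * T) ⊓ A1 S = U ⊓ A1 S ⊓ A1 T := by
    ext v
    simp only [Submodule.mem_inf, mem_F1, mem_A1, Module.End.mul_apply]
    constructor
    · rintro ⟨⟨h1, h3⟩, h4⟩
      refine ⟨⟨h1, h4⟩, ?_⟩
      rw [hST v h1, h4, map_neg] at h3
      exact neg_eq_iff_eq_neg.1 h3
    · rintro ⟨⟨h1, h3⟩, h4⟩
      exact ⟨⟨h1, by rw [h4, map_neg, h3, neg_neg]⟩, h3⟩
  rw [e1, e2] at s2
  rw [e3, e4] at s3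
  omega

/-- **dihedral groups of order eight** -/
theorem d8 (h2 : (2 : K) ≠ 0) {g h z : G} (hz : g * g = z) (hh : h * h = 1) (hzh : z * h = h * z)
    (hgh : g * h = h * g * z) :
    finrank K (Fix σ g) + finrank K (_root_.Cfsg.Agent.H637.JW.Fix σ z ⊓ _root_.Cfsg.Agent.H637.JW.Fix σ h : Submodule K V) +
      finrank K (_root_.Cfsg.Agent.H637.JW.Fix σ z ⊓ _root_.Cfsg.Agent.H637.JW.Fix σ (g * h) : Submodule K V) =
      2 * finrank K (_root_.Cfsg.Agent.H637.JW.Fix σ g ⊓ _root_.Cfsg.Agent.H637.JW.Fix σ h : Submodule K V) + finrank K (Fix σ z) := by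
  have hgz : g * z = z * g := by rw [← hz, mul_assoc]
  have gg : ∀ v, σ g (σ g v) = σ z v := fun v => by rw [← mul_apply', hz]
  have zz : ∀ v, v ∈ _root_.Cfsg.Agent.H637.JW.Fix σ z → σ z v = v := fun v hv => mem_Fix.1 hv
  have hgv : ∀ v, σ g (σ h v) = σ h (σ g (σ z v)) := fun v => by rw [← mul_apply', hgh, mul_apply', mul_apply']
  have key := klein_on h2 (σ g) (σ h) (_root_.Cfsg.Agent.H637.JW.Fix σ z) (fun v hv => fix_le_of_comm hgz hv)
    (fun v hv => fix_le_of_comm hzh.symm hv) (fun v hv => by rw [gg, zz v hv])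
    (fun v hv => by rw [← mul_apply', hh, act_one]) (fun v hv => by rw [hgv, zz v hv])
  have e1 : _root_.Cfsg.Agent.H637.JW.Fix σ z ⊓ F1 (σ g) = _root_.Cfsg.Agent.H637.JW.Fix σ g := by
    apply le_antisymm inf_le_right
    intro v hv
    refine ⟨?_, hv⟩
    have h3 := mem_Fix.1 hv
    show v ∈ _root_.Cfsg.Agent.H637.JW.Fix σ z
    rw [mem_Fix, ← gg, h3, h3]
  have e2 : F1 (σ h) = _root_.Cfsg.Agent.H637.JW.Fix σ h := rfl
  have e3 : F1 (σ g * σ h) = _root_.Cfsg.Agent.H637.JW.Fix σ (g * h) := by rw [← map_mul]; rfl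
  rw [e1, e2, e3] at key
  exact key

/-! ### Frobenius groups of order twenty -/

/-- the complement of the fixed space of an element of order five -/
def O5 (σ : G →* Module.End K V) (c : G) : Submodule K V :=
  LinearMap.ker (1 + σ c + σ c ^ 2 + σ c ^ 3 + σ c ^ 4)

theorem mem_O5 {c : G} {v : V} : v ∈ O5 σ c ↔
    v + σ c v + σ c (σ c v) + σ c (σ c (σ c v)) + σ c (σ c (σ c (σ c v))) = 0 := Iff.rfl

theorem split_five (h5 : (5 : K) ≠ 0) {c : G} (hc : c * c * c * c * c = 1) (U : Submodule K V)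
    (hU : ∀ v ∈ U, v + σ c v + σ c (σ c v) + σ c (σ c (σ c v)) + σ c (σ c (σ c (σ c v))) ∈ U) :
    finrank K (U ⊓ _root_.Cfsg.Agent.H637.JW.Fix σ c : Submodule K V) + finrank K (U ⊓ O5 σ c : Submodule K V) = finrank K U := by
  have hcc : ∀ v, σ c (σ c (σ c (σ c (σ c v)))) = v := fun v => by
    rw [← mul_apply', ← mul_apply', ← mul_apply', ← mul_apply', hc, act_one]
  have key : ∀ v, ((5 : K)⁻¹ • (1 + σ c + σ c ^ 2 + σ c ^ 3 + σ c ^ 4) : Module.End K V) v =
      (5 : K)⁻¹ • (v + σ c v + σ c (σ c v) + σ c (σ c (σ c v)) + σ c (σ c (σ c (σ c v)))) := fun v => rfl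
  refine split ((5 : K)⁻¹ • (1 + σ c + σ c ^ 2 + σ c ^ 3 + σ c ^ 4)) U _ _ (fun v hv => ?_) (fun v hv => ?_)
    (fun v hv => ?_) fun v _ h1 h4 => ?_
  · rw [key]
    exact U.smul_mem _ (hU v hv)
  · rw [key, mem_Fix, map_smul, map_add, map_add, map_add, map_add, hcc]
    congr 1
    abel
  · rw [key, mem_O5]
    simp only [map_sub, map_smul, map_add, hcc]
    match_scalars <;> field_simp <;> ring
  · rw [mem_Fix] at h1
    rw [mem_O5, h1, h1, h1, h1] at h4
    have h6 : (5 : K) • v = 0 := by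
      rw [← h4]
      module
    exact (smul_eq_zero.1 h6).resolve_left h5

/-- an operator anticommuting with an involutory operator swaps the eigenspaces -/
theorem half_on (h2 : (2 : K) ≠ 0) (S : Module.End K V) (U : Submodule K V) (hU : ∀ v ∈ U, S v ∈ U)
    (hS : ∀ v ∈ U, S (S v) = v) (D : Module.End K V) (hD : ∀ v ∈ U, D v ∈ U) (hD0 : ∀ v ∈ U, D v = 0 → v = 0)
    (hanti : ∀ v ∈ U, S (D v) = - D (S v)) :
    2 * finrank K (U ⊓ F1 S : Submodule K V) = finrank K U := by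
  have h1 := split_inv h2 S U hU hS
  have h3 : finrank K (U ⊓ F1 S : Submodule K V) ≤ finrank K (U ⊓ A1 S : Submodule K V) := by
    refine le_of_inj D _ _ (fun v hv => ⟨hD v hv.1, mem_A1.2 ?_⟩) fun v hv => hD0 v hv.1
    rw [hanti v hv.1, mem_F1.1 hv.2]
  have h4 : finrank K (U ⊓ A1 S : Submodule K V) ≤ finrank K (U ⊓ F1 S : Submodule K V) := by
    refine le_of_inj D _ _ (fun v hv => ⟨hD v hv.1, mem_F1.2 ?_⟩) fun v hv => hD0 v hv.1
    rw [hanti v hv.1, mem_A1.1 hv.2, map_neg, neg_neg]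
  omega

/-- **Frobenius groups of order twenty** -/
theorem f20 (h2 : (2 : K) ≠ 0) (h5 : (5 : K) ≠ 0) {g c z : G} (hz : g * g = z) (hzz : z * z = 1)
    (hc : c * c * c * c * c = 1) (hgc : g * c = c * c * g) :
    ∃ m, finrank K V = finrank K (Fix σ c) + 4 * m ∧
      finrank K (Fix σ z) = finrank K (_root_.Cfsg.Agent.H637.JW.Fix σ z ⊓ _root_.Cfsg.Agent.H637.JW.Fix σ c : Submodule K V) + 2 * m ∧
      finrank K (Fix σ g) = finrank K (_root_.Cfsg.Agent.H637.JW.Fix σ g ⊓ _root_.Cfsg.Agent.H637.JW.Fix σ c : Submodule K V) + m := by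
  have hcc : ∀ v, σ c (σ c (σ c (σ c (σ c v)))) = v := fun v => by
    rw [← mul_apply', ← mul_apply', ← mul_apply', ← mul_apply', hc, act_one]
  have gc : ∀ v, σ g (σ c v) = σ c (σ c (σ g v)) := fun v => by
    rw [← mul_apply', hgc, mul_apply', mul_apply']
  have gg : ∀ v, σ g (σ g v) = σ z v := fun v => by rw [← mul_apply', hz]
  have zv : ∀ v, σ z (σ z v) = v := fun v => by rw [← mul_apply', hzz, act_one]
  have zc : ∀ v, σ z (σ c v) = σ c (σ c (σ c (σ c (σ z v)))) := fun v => by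
    rw [← gg, gc, gc, gc, gg]
  have zg : ∀ v, σ z (σ g v) = σ g (σ z v) := fun v => by rw [← gg, ← gg]
  -- invariance of `O5`
  have Oc : ∀ v ∈ O5 σ c, σ c v ∈ O5 σ c := by
    intro v hv
    rw [mem_O5] at hv ⊢
    have h1 := congrArg (σ c) hv
    simpa only [map_add, map_zero] using h1
  have Og : ∀ v ∈ O5 σ c, σ g v ∈ O5 σ c := by
    intro v hv
    rw [mem_O5] at hv ⊢
    have h1 := congrArg (σ g) hv
    simp only [map_add, map_zero, gc, hcc] at h1
    rw [← h1]
    abel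
  have Oz : ∀ v ∈ O5 σ c, σ z v ∈ O5 σ c := by
    intro v hv
    rw [← gg]
    exact Og _ (Og _ hv)
  have O0 : ∀ v ∈ O5 σ c, σ c v = v → v = 0 := by
    intro v hv h1
    rw [mem_O5, h1, h1, h1, h1] at hv
    have h6 : (5 : K) • v = 0 := by
      rw [← hv]
      module
    exact (smul_eq_zero.1 h6).resolve_left h5
  have s1 := split_five (σ := σ) h5 hc (⊤ : Submodule K V) (fun _ _ => trivial)
  rw [top_inf_eq, top_inf_eq, finrank_top] at s1
  have s2 := split_five (σ := σ) h5 hc (_root_.Cfsg.Agent.H637.JW.Fix σ z) (fun v hv => by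
    rw [mem_Fix] at hv ⊢
    simp only [map_add, zc, hcc, hv]
    abel)
  have s3 := split_five (σ := σ) h5 hc (_root_.Cfsg.Agent.H637.JW.Fix σ g) (fun v hv => by
    rw [mem_Fix] at hv ⊢
    simp only [map_add, gc, hcc, hv]
    abel)
  -- first halving
  have q1 := half_on h2 (σ z) (O5 σ c) Oz (fun v _ => zv v) (σ c - σ c ^ 4)
    (fun v hv => by
      show σ c v - σ c (σ c (σ c (σ c v))) ∈ O5 σ c
      exact (O5 σ c).sub_mem (Oc v hv) (Oc _ (Oc _ (Oc _ (Oc _ hv)))))
    (fun v hv h0 => by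
      have h1 : σ c v = σ c (σ c (σ c (σ c v))) := sub_eq_zero.1 h0
      have h3 : σ c (σ c v) = v := by
        have := congrArg (σ c) h1
        rwa [hcc] at this
      apply O0 v hv
      rw [h1, h3, h3])
    (fun v _ => by
      change σ z (σ c v - σ c (σ c (σ c (σ c v)))) = -(σ c (σ z v) - σ c (σ c (σ c (σ c (σ z v)))))
      simp only [map_sub, zc, hcc]
      abel)
  -- second halving
  have q2 := half_on h2 (σ g) (O5 σ c ⊓ F1 (σ z)) (fun v hv => ⟨Og v hv.1, by
      have h1 := mem_F1.1 hv.2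
      show σ g v ∈ F1 (σ z)
      rw [mem_F1, zg, h1]⟩) (fun v hv => by rw [gg]; exact mem_F1.1 hv.2) (σ c + σ c ^ 4 - σ c ^ 2 - σ c ^ 3)
    (fun v hv => by
      have h1 := mem_F1.1 hv.2
      refine ⟨(O5 σ c).sub_mem ((O5 σ c).sub_mem ((O5 σ c).add_mem (Oc v hv.1) (Oc _ (Oc _ (Oc _ (Oc _ hv.1)))))
        (Oc _ (Oc _ hv.1))) (Oc _ (Oc _ (Oc _ hv.1))), ?_⟩
      show (σ c v + σ c (σ c (σ c (σ c v))) - σ c (σ c v) - σ c (σ c (σ c v))) ∈ F1 (σ z)
      rw [mem_F1]
      simp only [map_sub, map_add, zc, hcc, h1]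
      abel)
    (fun v hv h0 => by
      have h0' : σ c v + σ c (σ c (σ c (σ c v))) - σ c (σ c v) - σ c (σ c (σ c v)) = 0 := h0
      have hv' := mem_O5.1 hv.1
      have h1 := congrArg (σ c) h0'
      have h3 := congrArg (σ c) h1
      have h4 := congrArg (σ c) h3
      have h6 := congrArg (σ c) h4
      simp only [map_sub, map_add, map_zero, hcc] at h1 h3 h4 h6
      have h5v : (5 : K) • v = 0 := by
        linear_combination (norm := module) h1 - h3 - h4 + h6 + hv'
      exact (smul_eq_zero.1 h5v).resolve_left h5)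
    (fun v _ => by
      change σ g (σ c v + σ c (σ c (σ c (σ c v))) - σ c (σ c v) - σ c (σ c (σ c v))) =
        -(σ c (σ g v) + σ c (σ c (σ c (σ c (σ g v)))) - σ c (σ c (σ g v)) - σ c (σ c (σ c (σ g v))))
      simp only [map_sub, map_add, gc, hcc]
      abel)
  have e1 : O5 σ c ⊓ F1 (σ z) = _root_.Cfsg.Agent.H637.JW.Fix σ z ⊓ O5 σ c := inf_comm _ _
  have e2 : O5 σ c ⊓ F1 (σ z) ⊓ F1 (σ g) = _root_.Cfsg.Agent.H637.JW.Fix σ g ⊓ O5 σ c := by
    ext v
    simp only [Submodule.mem_inf, mem_F1, mem_Fix]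
    constructor
    · rintro ⟨⟨h1, -⟩, h3⟩
      exact ⟨h3, h1⟩
    · rintro ⟨h1, h3⟩
      exact ⟨⟨h3, by rw [← gg, h1, h1]⟩, h1⟩
  rw [e2, e1] at q2
  rw [e1] at q1
  refine ⟨finrank K (_root_.Cfsg.Agent.H637.JW.Fix σ g ⊓ O5 σ c : Submodule K V), ?_, ?_, ?_⟩ <;> omega

/-! ### lower bounds -/

/-- `⟨a, b, y⟩ = A₄` -/
theorem a4_ge (h2 : (2 : K) ≠ 0) {a b y : G} (hya : y * a = b * y) (hyb : y * b = a * b * y)
    (hy : y * y * y = 1) : finrank K (_root_.Cfsg.Agent.H637.JW.Fix σ a ⊓ A1 (σ b) : Submodule K V) ≤ finrank K (Fix σ y) := by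
  have hya' : ∀ v, σ b (σ y v) = σ y (σ a v) := fun v => by rw [← mul_apply', ← hya, mul_apply']
  have hyb' : ∀ v, σ a (σ b (σ y v)) = σ y (σ b v) := fun v => by
    rw [← mul_apply', ← mul_apply', ← hyb, mul_apply']
  have hyy : ∀ v, σ y (σ y (σ y v)) = v := fun v => by rw [← mul_apply', ← mul_apply', hy, act_one]
  refine le_of_inj (1 + σ y + σ y ^ 2) _ _ (fun v _ => ?_) fun v hv h0 => ?_
  · show v + σ y v + σ y (σ y v) ∈ _root_.Cfsg.Agent.H637.JW.Fix σ y
    rw [mem_Fix, map_add, map_add, hyy]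
    abel
  · have h0' : v + σ y v + σ y (σ y v) = 0 := h0
    have h1 : σ a v = v := mem_Fix.1 hv.1
    have h3 : σ b v = -v := mem_A1.1 hv.2
    have e1 : σ b (σ y v) = σ y v := by rw [hya', h1]
    have e2 : σ a (σ y v) = -σ y v := by
      have := hyb' v
      rwa [e1, h3, map_neg] at this
    have e3 : σ b (σ y (σ y v)) = -σ y (σ y v) := by rw [hya', e2, map_neg]
    have e4 : σ a (σ y (σ y v)) = -σ y (σ y v) := by
      have := hyb' (σ y v)
      rw [e3, e1, map_neg] at this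
      exact neg_eq_iff_eq_neg.1 this
    have h4 := congrArg (σ a) h0'
    rw [map_add, map_add, map_zero, h1, e2, e4] at h4
    have h6 : (2 : K) • v = 0 := by linear_combination (norm := module) h0' + h4
    exact (smul_eq_zero.1 h6).resolve_left h2

end Cfsg.Agent.H906.A7T
end

-- part: H906/A7Six
section
/-!
# Vectors fixed by `A₆` in representations of `A₇`
-/

set_option autoImplicit false
set_option linter.unusedSectionVars false
set_option maxRecDepth 10000

namespace Cfsg.Agent.H906.A7T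

open Module Equiv Cfsg.Agent.H637.JW Cfsg.Agent.H882.Dim Cfsg.Agent.H882.Sc Cfsg.Agent.H923.Ten.A7

variable {K : Type*} [Field K] {V : Type*} [AddCommGroup V] [Module K V] [FiniteDimensional K V]
  {σ : A →* Module.End K V}

/-- the generators of `A₆` -/
def g6 : Fin 4 → A := ![c2, c3, c4, c5]

/-- words in the generators of `A₆` -/
def wd (l : List (Fin 4)) : A := (l.map g6).prod

theorem wd_fix {v : V} (h : ∀ i, σ (g6 i) v = v) (l : List (Fin 4)) : σ (wd l) v = v := by
  induction l with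
  | nil => exact act_one v
  | cons a l ih =>
    have h1 : wd (a :: l) = g6 a * wd l := by simp [wd]
    rw [h1, mul_apply', ih, h]

theorem fix_ev {x y : A} {v : V} (hx : σ x v = v) (hy : σ y v = v) (l : List Bool) : σ (ev x y l) v = v := by
  have h1 : Subgroup.closure ({x, y} : Set A) ≤ stab σ v := by
    rw [Subgroup.closure_le]
    rintro g (rfl | rfl)
    · exact hx
    · exact hy
  exact h1 (ev_mem x y l)

/-- **Representations of `A₇` of dimension at least eight have no vectors fixed by `A₆`.** -/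
theorem no_fixed6 (hI : Irr σ) (hV : 8 ≤ finrank K V) {v : V} (h : ∀ i, σ (g6 i) v = v) : v = 0 := by
  obtain ⟨f, hf⟩ : ∃ f : ℕ → V, f = fun k => σ (A7.c ^ k) v := ⟨_, rfl⟩
  have hf' : ∀ k, f k = σ (A7.c ^ k) v := fun k => by rw [hf]
  have hc : ∀ k, σ A7.c (f k) = f (k + 1) := fun k => by rw [hf', hf', ← mul_apply', pow_succ']
  have h7 : f 7 = f 0 := by
    rw [hf', hf', show A7.c ^ 7 = A7.c ^ 0 by decide +kernel]
  have z0 : σ A7.z (f 0) = f 0 := by
    simp only [hf']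
    rw [← mul_apply', show A7.z * A7.c ^ 0 = A7.c ^ 0 * wd [0, 1, 1, 0] by decide +kernel, mul_apply', wd_fix h]
  have z1 : σ A7.z (f 1) = f 3 := by
    simp only [hf']
    rw [← mul_apply', show A7.z * A7.c ^ 1 = A7.c ^ 3 * wd [0, 2, 1, 0, 3] by decide +kernel, mul_apply', wd_fix h]
  have z2 : σ A7.z (f 2) = f 4 := by
    simp only [hf']
    rw [← mul_apply', show A7.z * A7.c ^ 2 = A7.c ^ 4 * wd [0, 2, 1, 0] by decide +kernel, mul_apply', wd_fix h]
  have z3 : σ A7.z (f 3) = f 1 := by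
    simp only [hf']
    rw [← mul_apply', show A7.z * A7.c ^ 3 = A7.c ^ 1 * wd [1, 3, 0, 1, 2] by decide +kernel, mul_apply', wd_fix h]
  have z4 : σ A7.z (f 4) = f 2 := by
    simp only [hf']
    rw [← mul_apply', show A7.z * A7.c ^ 4 = A7.c ^ 2 * wd [1, 0, 0, 2] by decide +kernel, mul_apply', wd_fix h]
  have z5 : σ A7.z (f 5) = f 5 := by
    simp only [hf']
    rw [← mul_apply', show A7.z * A7.c ^ 5 = A7.c ^ 5 * wd [1, 2, 3, 1, 1] by decide +kernel, mul_apply', wd_fix h]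
  have z6 : σ A7.z (f 6) = f 6 := by
    simp only [hf']
    rw [← mul_apply', show A7.z * A7.c ^ 6 = A7.c ^ 6 * wd [0, 1, 1, 0, 2] by decide +kernel, mul_apply', wd_fix h]
  set U : Submodule K V := Submodule.span K (Set.range fun k : Fin 7 => f k) with hU
  have hmem : ∀ k, k < 7 → f k ∈ U := fun k hk => Submodule.subset_span ⟨⟨k, hk⟩, rfl⟩
  have hinv : ∀ g, (∀ u ∈ U, σ g u ∈ U) → ∀ u ∈ U, σ g⁻¹ u ∈ U := by
    intro g hg u hu
    have hinj : Function.Injective ((σ g).restrict hg) := fun a b hab =>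
      Subtype.ext (injective (σ := σ) g (congrArg Subtype.val hab))
    obtain ⟨w, hw⟩ := (LinearMap.injective_iff_surjective.1 hinj) ⟨u, hu⟩
    have hw' : σ g (w : V) = u := congrArg Subtype.val hw
    rw [← hw', ← mul_apply', inv_mul_cancel, act_one]
    exact w.2
  have gen : ∀ g : A, (∀ k, k < 7 → σ g (f k) ∈ U) → ∀ u ∈ U, σ g u ∈ U := by
    intro g hg u hu
    have h1 : U ≤ U.comap (σ g) := by
      rw [hU, Submodule.span_le]
      rintro _ ⟨k, rfl⟩
      exact hg k k.2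
    exact h1 hu
  have hall : ∀ g : A, ∀ u ∈ U, σ g u ∈ U := by
    intro g
    have hg : g ∈ Subgroup.closure ({A7.z, A7.c} : Set A) := by rw [A7.gen_zc]; trivial
    induction hg using Subgroup.closure_induction with
    | mem x hx =>
      rcases hx with rfl | rfl
      · apply gen
        intro k hk
        interval_cases k
        · rw [z0]; exact hmem _ (by norm_num)
        · rw [z1]; exact hmem _ (by norm_num)
        · rw [z2]; exact hmem _ (by norm_num)
        · rw [z3]; exact hmem _ (by norm_num)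
        · rw [z4]; exact hmem _ (by norm_num)
        · rw [z5]; exact hmem _ (by norm_num)
        · rw [z6]; exact hmem _ (by norm_num)
      · apply gen
        intro k hk
        rw [hc]
        by_cases h6 : k = 6
        · rw [h6, h7]; exact hmem _ (by norm_num)
        · exact hmem _ (by omega)
    | one => intro u hu; rw [act_one]; exact hu
    | mul x y _ _ hx hy => intro u hu; rw [mul_apply']; exact hx _ (hy u hu)
    | inv x _ hx => exact hinv x hx
  have hv : v ∈ U := by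
    have := hmem 0 (by norm_num)
    rwa [hf', pow_zero, act_one] at this
  rcases hI.irr U hall with h1 | h1
  · rw [h1] at hv
    exact (Submodule.mem_bot K).1 hv
  · exfalso
    have h3 := finrank_range_le_card (R := K) (fun k : Fin 7 => f k)
    rw [Set.finrank, ← hU, h1, finrank_top, Fintype.card_fin] at h3
    omega

/-- generators of `A₆`, types 2, 5, product 5 -/
def xa : A := e2 0 5 2 4
@[inherit_doc xa]
def ya : A := e2 0 1 0 4 * e2 0 5 1 3

theorem nf_a (hI : Irr σ) (hV : 8 ≤ finrank K V) (v : V) (hx : σ xa v = v) (hy : σ ya v = v) : v = 0 := by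
  refine no_fixed6 hI hV fun i => ?_
  fin_cases i
  · show σ c2 v = v
    rw [show c2 = ev xa ya [true, true, true, true, false, true, false, true, true, false] by decide +kernel]
    exact fix_ev hx hy _
  · show σ c3 v = v
    rw [show c3 = ev xa ya [false, true, true, true, true, false, true, false, true, true, true] by decide +kernel]
    exact fix_ev hx hy _
  · show σ c4 v = v
    rw [show c4 = ev xa ya [true, true, false, true, false, true, true, true, false] by decide +kernel]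
    exact fix_ev hx hy _
  · show σ c5 v = v
    rw [show c5 = ev xa ya [false, true, false, true, true, true, false, true, true] by decide +kernel]
    exact fix_ev hx hy _

/-- generators of `A₆`, types 3A, 3B, product 5 -/
def xb : A := e2 2 3 2 5
@[inherit_doc xb]
def yb : A := e2 0 3 0 4 * e2 1 2 1 5

theorem nf_b (hI : Irr σ) (hV : 8 ≤ finrank K V) (v : V) (hx : σ xb v = v) (hy : σ yb v = v) : v = 0 := by
  refine no_fixed6 hI hV fun i => ?_
  fin_cases i
  · show σ c2 v = v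
    rw [show c2 = ev xb yb [true, false, true, true] by decide +kernel]
    exact fix_ev hx hy _
  · show σ c3 v = v
    rw [show c3 = ev xb yb [false, false, true, false, true, true, false] by decide +kernel]
    exact fix_ev hx hy _
  · show σ c4 v = v
    rw [show c4 = ev xb yb [false, true, false, true, true, false, false, true, true, false, true] by decide +kernel]
    exact fix_ev hx hy _
  · show σ c5 v = v
    rw [show c5 = ev xb yb [false, true, false, true, true, false, false] by decide +kernel]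
    exact fix_ev hx hy _

/-- generators of `A₆`, types 3A, 3B, product 4 -/
def xc : A := e2 2 3 3 4
@[inherit_doc xc]
def yc : A := e2 0 2 0 4 * e2 1 3 1 5

theorem nf_c (hI : Irr σ) (hV : 8 ≤ finrank K V) (v : V) (hx : σ xc v = v) (hy : σ yc v = v) : v = 0 := by
  refine no_fixed6 hI hV fun i => ?_
  fin_cases i
  · show σ c2 v = v
    rw [show c2 = ev xc yc [true, false, true, true] by decide +kernel]
    exact fix_ev hx hy _
  · show σ c3 v = v
    rw [show c3 = ev xc yc [false, true, false, true, true, false, false] by decide +kernel]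
    exact fix_ev hx hy _
  · show σ c4 v = v
    rw [show c4 = ev xc yc [false, false, true, false, true, true, false] by decide +kernel]
    exact fix_ev hx hy _
  · show σ c5 v = v
    rw [show c5 = ev xc yc [false, true, true, false, true, false, false, true, false, true, true] by decide +kernel]
    exact fix_ev hx hy _

end Cfsg.Agent.H906.A7T
end

-- part: H906/A7Odd
section
/-!
# `A₇` has no self-dual irreducible representation of dimension `12`, odd characteristic
-/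

set_option autoImplicit false
set_option linter.unusedSectionVars false
set_option maxRecDepth 10000

namespace Cfsg.Agent.H906.A7T

open Module Equiv Cfsg.Agent.H637.JW Cfsg.Agent.H882.Dim Cfsg.Agent.H882.Sc Cfsg.Agent.H923.Ten.A7

variable {K : Type*} [Field K] {V : Type*} [AddCommGroup V] [Module K V] [FiniteDimensional K V]
  {σ : A →* Module.End K V}

/-- a Frobenius group of order twenty and a dihedral group of order eight -/
def cc : A := e2 0 1 1 2 * e2 2 3 3 4
@[inherit_doc cc]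
def gg : A := e2 1 2 2 3 * e2 2 4 5 6
@[inherit_doc cc]
def zz : A := e2 1 4 2 3
@[inherit_doc cc]
def hh : A := e2 1 2 3 4

instance : IsSimpleGroup A := alternatingGroup.isSimpleGroup (by simp)

theorem inf_le_left' (X Y : Submodule K V) : finrank K (X ⊓ Y : Submodule K V) ≤ finrank K X :=
  Submodule.finrank_mono inf_le_left

theorem inf_le_right' (X Y : Submodule K V) : finrank K (X ⊓ Y : Submodule K V) ≤ finrank K Y :=
  Submodule.finrank_mono inf_le_right

theorem twelve_odd [IsAlgClosed K] (h2 : (2 : K) ≠ 0) (hI : Irr σ) {B : V →ₗ[K] V →ₗ[K] K} (hB : Form σ B)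
    (hV : finrank K V = 12) : False := by
  have s1 := scott_sub (σ := σ) hB (x := xa) (y := ya) (nf_a hI (by omega))
  by_cases h5 : (5 : K) = 0
  · have : Fact (Nat.Prime 5) := ⟨by norm_num⟩
    have hch : CharP K 5 := A7.charP_of_zero (by norm_num) (by exact_mod_cast h5)
    have h3 : (3 : K) ≠ 0 := by
      intro h0
      have : (1 : K) = 0 := by
        have : (1 : K) = 2 * 3 - 5 := by norm_num
        rw [this, h5, h0, mul_zero, sub_zero]
      exact one_ne_zero this
    have c1 := le_of_char (σ := σ) (p := 5) (c := ya) (by decide +kernel)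
    have c2 := le_of_char (σ := σ) (p := 5) (c := xa * ya) (by decide +kernel)
    have c3 := le_of_char (σ := σ) (p := 5) (c := xb * yb) (by decide +kernel)
    have k1 := klein (σ := σ) h2 (a := A7.z) (b := A7.b1) (by decide +kernel) (by decide +kernel) (by decide +kernel) rfl
      (fix_conj (k := e2 1 2 5 6) (by decide +kernel)) (fix_conj (k := e2 1 2 1 3) (by decide +kernel))
    have k2 := klein (σ := σ) h2 (a := A7.z) (b := A7.b2) (by decide +kernel) (by decide +kernel) (by decide +kernel) rfl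
      (fix_conj (k := e2 0 4 1 5) (by decide +kernel)) (fix_conj (k := e2 2 4 3 5) (by decide +kernel))
    have m1 := split_two (σ := σ) h2 (a := A7.b1) (by decide +kernel) (_root_.Cfsg.Agent.H637.JW.Fix σ A7.z)
      (fun v hv => fix_le_of_comm (by decide +kernel) hv)
    have m2 := split_two (σ := σ) h2 (a := A7.b2) (by decide +kernel) (_root_.Cfsg.Agent.H637.JW.Fix σ A7.z)
      (fun v hv => fix_le_of_comm (by decide +kernel) hv)
    have g1 := a4_ge (σ := σ) h2 (a := A7.z) (b := A7.b1) (y := A7.y1) (by decide +kernel) (by decide +kernel)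
      (by decide +kernel)
    have g2 := a4_ge (σ := σ) h2 (a := A7.z) (b := A7.b2) (y := A7.y2) (by decide +kernel) (by decide +kernel)
      (by decide +kernel)
    have a1 := a4_le (σ := σ) h2 (a := A7.z) (b := A7.b1) (y := A7.y1) (by decide +kernel) (by decide +kernel)
      (by decide +kernel) (by decide +kernel) (by decide +kernel)
    have a2 := a4_le (σ := σ) h2 (a := A7.z) (b := A7.b2) (y := A7.y2) (by decide +kernel) (by decide +kernel)
      (by decide +kernel) (by decide +kernel) (by decide +kernel)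
    obtain ⟨n1, hn1⟩ := even_of_inv (σ := σ) h2 h3 (a := A7.t1) (y := A7.p1) (by decide +kernel) (by decide +kernel)
      (by decide +kernel)
    obtain ⟨n2, hn2⟩ := even_of_inv (σ := σ) h2 h3 (a := A7.t2) (y := A7.x) (by decide +kernel) (by decide +kernel)
      (by decide +kernel)
    have e9 := nine' (σ := σ) h3 (x := A7.p1) (y := A7.p2) (by decide +kernel) (by decide +kernel) (by decide +kernel)
    have q1 : finrank K (Fix σ A7.p2) = finrank K (Fix σ A7.p1) :=
      fix_conj (k := e2 0 3 1 4 * e2 4 2 2 5) (by decide +kernel)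
    have q2 : finrank K (Fix σ (A7.p1 * A7.p2)) = finrank K (Fix σ A7.x) := by
      rw [show A7.p1 * A7.p2 = A7.x by decide +kernel]
    have q3 : finrank K (Fix σ (A7.p1 * A7.p1 * A7.p2)) = finrank K (Fix σ A7.x) :=
      fix_conj (k := e2 0 3 1 4 * e2 4 2 2 5) (by decide +kernel)
    have q4 : finrank K (Fix σ A7.y2) = finrank K (Fix σ A7.x) :=
      fix_conj (k := e2 0 5 2 3) (by decide +kernel)
    have q5 : finrank K (Fix σ A7.y1) = finrank K (Fix σ A7.p1) :=
      fix_conj (k := e2 0 3 5 6) (by decide +kernel)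
    have q6 : finrank K (Fix σ xa) = finrank K (Fix σ A7.z) := fix_conj (k := e2 1 5 3 4) (by decide +kernel)
    have q7 : finrank K (Fix σ xb) = finrank K (Fix σ A7.p1) := fix_conj (k := e2 0 5 1 3) (by decide +kernel)
    have q8 : finrank K (Fix σ yb) = finrank K (Fix σ A7.x) := fix_conj (k := e2 1 4 2 3) (by decide +kernel)
    have s2 := scott_sub (σ := σ) hB (x := xb) (y := yb) (nf_b hI (by omega))
    have r1 : finrank K (_root_.Cfsg.Agent.H637.JW.Fix σ A7.z ⊓ A1 (σ A7.b1) : Submodule K V) = finrank K (_root_.Cfsg.Agent.H637.JW.Fix σ A7.z ⊓ An σ A7.b1 : Submodule K V) :=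
      rfl
    have r2 : finrank K (_root_.Cfsg.Agent.H637.JW.Fix σ A7.z ⊓ A1 (σ A7.b2) : Submodule K V) = finrank K (_root_.Cfsg.Agent.H637.JW.Fix σ A7.z ⊓ An σ A7.b2 : Submodule K V) :=
      rfl
    rw [r1] at g1
    rw [r2] at g2
    (clear * - hV s1 c1 c2 c3 k1 k2 m1 m2 g1 g2 hn1 hn2 e9 q1 q2 q3 q4 q5 q6 q7 q8 s2 r2; omega)
  · obtain ⟨m, f1, f2, f3⟩ := f20 (σ := σ) h2 h5 (g := gg) (c := cc) (z := zz) (by decide +kernel) (by decide +kernel)
      (by decide +kernel) (by decide +kernel)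
    have k1 := klein (σ := σ) h2 (a := zz) (b := hh) (by decide +kernel) (by decide +kernel) (by decide +kernel) rfl
      (fix_conj (k := e2 2 3 3 4) (by decide +kernel)) (fix_conj (k := e2 3 4 5 6) (by decide +kernel))
    have k2 := klein (σ := σ) h2 (a := zz) (b := gg * hh) (by decide +kernel) (by decide +kernel) (by decide +kernel) rfl
      (fix_conj (k := e2 2 5 3 6) (by decide +kernel)) (fix_conj (k := e2 1 5 4 6) (by decide +kernel))
    have d := d8 (σ := σ) h2 (g := gg) (h := hh) (z := zz) (by decide +kernel) (by decide +kernel) (by decide +kernel)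
      (by decide +kernel)
    have l1 := hI.fix_lt (g := cc) (by decide +kernel)
    have q1 : finrank K (Fix σ xa) = finrank K (Fix σ zz) := fix_conj (k := e2 0 1 3 4 * e2 4 5 5 6 ) (by decide +kernel)
    have q2 : finrank K (Fix σ ya) = finrank K (Fix σ cc) :=
      fix_conj (k := e2 1 2 1 5 * e2 2 3 2 4) (by decide +kernel)
    have q3 : finrank K (Fix σ (xa * ya)) = finrank K (Fix σ cc) :=
      fix_conj (k := e2 0 1 1 2 * e2 1 3 2 5) (by decide +kernel)
    have n1 : finrank K (_root_.Cfsg.Agent.H637.JW.Fix σ gg ⊓ _root_.Cfsg.Agent.H637.JW.Fix σ hh : Submodule K V) ≤ finrank K (_root_.Cfsg.Agent.H637.JW.Fix σ zz ⊓ _root_.Cfsg.Agent.H637.JW.Fix σ hh : Submodule K V) := by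
      refine Submodule.finrank_mono (le_inf ?_ inf_le_right)
      intro v hv
      have h1 := mem_Fix.1 hv.1
      rw [mem_Fix, show zz = gg * gg by decide +kernel, mul_apply', h1, h1]
    have n2 := inf_le_left' (_root_.Cfsg.Agent.H637.JW.Fix σ gg) (_root_.Cfsg.Agent.H637.JW.Fix σ hh)
    have n3 : finrank K (_root_.Cfsg.Agent.H637.JW.Fix σ gg ⊓ _root_.Cfsg.Agent.H637.JW.Fix σ cc : Submodule K V) ≤ finrank K (_root_.Cfsg.Agent.H637.JW.Fix σ zz ⊓ _root_.Cfsg.Agent.H637.JW.Fix σ cc : Submodule K V) := by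
      refine Submodule.finrank_mono (le_inf ?_ inf_le_right)
      intro v hv
      have h1 := mem_Fix.1 hv.1
      rw [mem_Fix, show zz = gg * gg by decide +kernel, mul_apply', h1, h1]
    have n4 := inf_le_right' (_root_.Cfsg.Agent.H637.JW.Fix σ zz) (_root_.Cfsg.Agent.H637.JW.Fix σ cc)
    have hm : m = 1 ∨ m = 2 ∨ m = 3 := by (clear * - hV f1 l1; omega)
    rcases hm with rfl | rfl | rfl <;> (clear * - hV s1 q2 q3 f1 k1 k2 d q1 n3 f2 f3 n4; omega)

end Cfsg.Agent.H906.A7T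
end

-- part: H906/A7TwoA
section
/-!
# Tools in characteristic two
-/

set_option autoImplicit false
set_option linter.unusedSectionVars false
set_option maxRecDepth 10000

namespace Cfsg.Agent.H906.A7T

open Module Equiv Cfsg.Agent.H637.JW Cfsg.Agent.H882.Dim Cfsg.Agent.H882.Sc

section tools

variable {K : Type*} [Field K] {V : Type*} [AddCommGroup V] [Module K V] [FiniteDimensional K V]
  {G : Type*} [Group G] {σ : G →* Module.End K V}

/-- elements of order four in characteristic two -/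
theorem le_four [CharP K 2] {c : G} (hc : c ^ 4 = 1) : finrank K V ≤ 4 * finrank K (Fix σ c) := by
  have h1 : (σ c - 1) ^ 4 = 0 := by
    have hc1 : Commute (σ c) 1 := Commute.one_right _
    by_cases hV : Nontrivial V
    · have : CharP (Module.End K V) 2 := charP_of_injective_algebraMap (algebraMap K (Module.End K V)).injective 2
      have h4 : (4 : ℕ) = 2 ^ 2 := by norm_num
      rw [h4, sub_pow_char_pow_of_commute 2 2 hc1, ← h4, ← map_pow, hc, map_one, one_pow, sub_self]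
    · rw [not_nontrivial_iff_subsingleton] at hV
      exact Subsingleton.elim _ _
  have h2 := finrank_ker_pow_le (σ c - 1) 4
  rw [h1] at h2
  have h3 : LinearMap.ker (0 : Module.End K V) = ⊤ := LinearMap.ker_zero
  have h4 : LinearMap.ker (σ c - 1) = _root_.Cfsg.Agent.H637.JW.Fix σ c := by
    ext v
    rw [LinearMap.mem_ker, LinearMap.sub_apply, Module.End.one_apply, sub_eq_zero, mem_Fix]
  rwa [h3, h4, finrank_top] at h2

theorem sum_Eg [IsAlgClosed K] {c : G} {r : ℕ} [NeZero r] (hr : (r : K) ≠ 0) (hc : c ^ r = 1) {ζ : K}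
    (hζ : IsPrimitiveRoot ζ r) : ∑ j : ZMod r, finrank K (Eg σ c (ζ ^ j.val)) = finrank K V := by
  classical
  have hsum := sum_W (V := V) hr hζ (f := fun _ : Unit => σ c) (fun _ _ => rfl)
    (fun _ => by rw [← map_pow, hc, map_one])
  have hW : ∀ d : Unit → ZMod r, finrank K (W r ζ (fun _ : Unit => σ c) d) = finrank K (Eg σ c (ζ ^ (d ()).val)) := by
    intro d
    have : W r ζ (fun _ : Unit => σ c) d = Eg σ c (ζ ^ (d ()).val) := by
      ext v
      rw [mem_W, mem_Eg]
      exact ⟨fun h => h (), fun h _ => h⟩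
    rw [this]
  rw [← hsum, Finset.sum_congr rfl fun d _ => hW d]
  exact (Fintype.sum_equiv (Equiv.funUnique Unit (ZMod r)) _ _ fun d => rfl).symm

/-- **Frobenius groups of order twenty-one.** -/
theorem f21 [IsAlgClosed K] (h3 : (3 : K) ≠ 0) (h7 : (7 : K) ≠ 0) {c y : G} (hc : c ^ 7 = 1) (hy : y ^ 3 = 1)
    (hyc : y * c = c * c * y) (h0 : ∀ v, σ c v = v → v = 0) : finrank K V = 3 * finrank K (Fix σ y) := by
  have h3' : ((3 : ℕ) : K) ≠ 0 := by exact_mod_cast h3
  obtain ⟨ω, hω⟩ := exists_root (K := K) h3'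
  have w3 : ω ^ 3 = 1 := hω.pow_eq_one
  have w1 : ω ^ 2 + ω + 1 = 0 := by
    have h1 := hω.geom_sum_eq_zero (by norm_num)
    simp only [Finset.sum_range_succ, Finset.sum_range_zero, pow_zero, pow_one, zero_add] at h1
    linear_combination h1
  have hcc : ∀ v, σ c (σ c (σ c (σ c (σ c (σ c (σ c v)))))) = v := fun v => by
    rw [← mul_apply', ← mul_apply', ← mul_apply', ← mul_apply', ← mul_apply', ← mul_apply']
    rw [show c * c * c * c * c * c * c = c ^ 7 by simp only [pow_succ, pow_zero, one_mul], hc, act_one]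
  have yc : ∀ v, σ y (σ c v) = σ c (σ c (σ y v)) := fun v => by
    rw [← mul_apply', hyc, mul_apply', mul_apply']
  have hs : ∀ v, v + σ c v + σ c (σ c v) + σ c (σ c (σ c v)) + σ c (σ c (σ c (σ c v))) +
      σ c (σ c (σ c (σ c (σ c v)))) + σ c (σ c (σ c (σ c (σ c (σ c v))))) = 0 := by
    intro v
    apply h0
    simp only [map_add, hcc]
    abel
  -- the Gauss sum
  have key : ∀ l : K, finrank K (Eg σ y l) ≤ finrank K (Eg σ y (ω ^ 2 * l)) := by
    intro l
    refine le_of_inj (σ c + σ c ^ 6 + ω • (σ c ^ 2 + σ c ^ 5) + ω ^ 2 • (σ c ^ 3 + σ c ^ 4)) _ _ (fun v hv => ?_)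
      fun v hv h1 => ?_
    · rw [mem_Eg] at hv ⊢
      change σ y (σ c v + σ c (σ c (σ c (σ c (σ c (σ c v))))) + ω • (σ c (σ c v) + σ c (σ c (σ c (σ c (σ c v))))) +
        ω ^ 2 • (σ c (σ c (σ c v)) + σ c (σ c (σ c (σ c v))))) = (ω ^ 2 * l) • (σ c v +
        σ c (σ c (σ c (σ c (σ c (σ c v))))) + ω • (σ c (σ c v) + σ c (σ c (σ c (σ c (σ c v))))) +
        ω ^ 2 • (σ c (σ c (σ c v)) + σ c (σ c (σ c (σ c v)))))
      simp only [map_add, map_smul, yc, hcc, hv]
      have w4 : ω ^ 4 = ω := by rw [pow_succ, w3, one_mul]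
      match_scalars <;> first
        | ring1
        | linear_combination l * w3
        | linear_combination (-l) * w3
        | linear_combination l * w4
        | linear_combination (-l) * w4
        | linear_combination l * w3 - l * w4
        | linear_combination l * w4 - l * w3
    · have h1' : σ c v + σ c (σ c (σ c (σ c (σ c (σ c v))))) + ω • (σ c (σ c v) + σ c (σ c (σ c (σ c (σ c v))))) +
        ω ^ 2 • (σ c (σ c (σ c v)) + σ c (σ c (σ c (σ c v)))) = 0 := h1
      have e1 := congrArg (σ c) h1'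
      have e2 := congrArg (σ c) e1
      have e3 := congrArg (σ c) e2
      have e4 := congrArg (σ c) e3
      have e5 := congrArg (σ c) e4
      have e6 := congrArg (σ c) e5
      simp only [map_add, map_smul, map_zero, hcc] at e1 e2 e3 e4 e5 e6
      have h7v : (7 : K) • v = 0 := by
        have hsv := hs v
        have w5 : ω ^ 4 + ω ^ 2 + 1 = 0 := by linear_combination ω * w3 + w1
        linear_combination (norm := module) (e1 + e6) + (ω ^ 2) • (e2 + e5) + ω • (e3 + e4) + hsv -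
          w3 • ((4 : K) • v + σ c (σ c (σ c v)) + σ c (σ c (σ c (σ c v))) + σ c v +
            σ c (σ c (σ c (σ c (σ c (σ c v)))))) -
          w1 • ((σ c v + σ c (σ c (σ c (σ c (σ c (σ c v)))))) + (2 : K) • (σ c (σ c (σ c v)) + σ c (σ c (σ c (σ c v)))) +
            (σ c (σ c v) + σ c (σ c (σ c (σ c (σ c v)))))) -
          w5 • ((σ c v + σ c (σ c (σ c (σ c (σ c (σ c v)))))) + (σ c (σ c v) + σ c (σ c (σ c (σ c (σ c v))))))
      exact (smul_eq_zero.1 h7v).resolve_left h7
  have hsum := sum_Eg (σ := σ) (c := y) h3' hy hω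
  have e0 : finrank K (Eg σ y 1) = finrank K (Fix σ y) := rfl
  have k1 := key 1
  have k2 := key (ω ^ 2 * 1)
  have k3 := key (ω ^ 2 * (ω ^ 2 * 1))
  have t2 : ω ^ 2 * (ω ^ 2 * 1) = ω := by linear_combination ω * w3
  have t3 : ω ^ 2 * (ω ^ 2 * (ω ^ 2 * 1)) = 1 := by linear_combination (ω ^ 3 + 1) * w3
  rw [t3] at k3
  rw [t2] at k2 k3
  rw [mul_one] at k1 k2
  have hF : ∑ j : ZMod 3, finrank K (Eg σ y (ω ^ j.val)) =
      finrank K (Eg σ y (ω ^ 0)) + finrank K (Eg σ y (ω ^ 1)) + finrank K (Eg σ y (ω ^ 2)) := by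
    rw [show (Finset.univ : Finset (ZMod 3)) = {0, 1, 2} by decide]
    rw [Finset.sum_insert (by decide), Finset.sum_insert (by decide), Finset.sum_singleton]
    rw [← add_assoc]
    rfl
  rw [hF, pow_zero, pow_one, e0] at hsum
  rw [e0] at k1 k3
  (clear * - hsum k1 k2 k3; omega)

end tools

end Cfsg.Agent.H906.A7T
end

-- part: H906/A7TwoB
section
/-!
# The vectors indexed by the involutions of `A₇`
-/

set_option autoImplicit false
set_option linter.unusedSectionVars false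
set_option maxRecDepth 10000

namespace Cfsg.Agent.H906.A7T

open Module Equiv Cfsg.Agent.H637.JW Cfsg.Agent.H882.Dim Cfsg.Agent.H882.Sc Cfsg.Agent.H923.Ten.A7

/-- `A₇` is transitive on `5`-tuples -/
theorem trans5 (f : Fin 5 → Fin 7) (hf : Function.Injective f) : ∃ g : A, ∀ i : Fin 5, g.1 (Fin.castLE (by norm_num) i) = f i := by
  have h := alternatingGroup.isMultiplyPretransitive (Fin 7)
  have h5 : Nat.card (Fin 7) - 2 = 5 := by simp
  rw [h5] at h
  obtain ⟨g, hg⟩ := MulAction.exists_smul_eq (M := A) (Fin.castLEEmb (by norm_num : 5 ≤ 7)) (⟨f, hf⟩ : Fin 5 ↪ Fin 7)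
  refine ⟨g, fun i => ?_⟩
  have h1 := DFunLike.congr_fun hg i
  exact h1

theorem tup5 {i j k l m : Fin 7} (h : [i, j, k, l, m].Nodup) :
    ∃ g : A, g.1 0 = i ∧ g.1 1 = j ∧ g.1 2 = k ∧ g.1 3 = l ∧ g.1 4 = m := by
  obtain ⟨g, hg⟩ := trans5 ![i, j, k, l, m] (by
    have h1 := List.nodup_iff_injective_get.1 h
    intro a b hab
    have h2 : ∀ a : Fin 5, (![i, j, k, l, m] : Fin 5 → Fin 7) a = [i, j, k, l, m].get a := by
      intro a
      fin_cases a <;> rfl
    rw [h2, h2] at hab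
    exact h1 hab)
  exact ⟨g, hg 0, hg 1, hg 2, hg 3, hg 4⟩

theorem tup4 {i j k l : Fin 7} (h : [i, j, k, l].Nodup) :
    ∃ g : A, g.1 0 = i ∧ g.1 1 = j ∧ g.1 2 = k ∧ g.1 3 = l := by
  obtain ⟨m, hm⟩ : ∃ m : Fin 7, m ∉ [i, j, k, l] := by
    by_contra hcon
    push Not at hcon
    have h1 : (Finset.univ : Finset (Fin 7)) ⊆ [i, j, k, l].toFinset := fun x _ => List.mem_toFinset.2 (hcon x)
    have h2 := Finset.card_le_card h1
    rw [Finset.card_univ, Fintype.card_fin] at h2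
    have h3 := List.toFinset_card_le [i, j, k, l]
    simp only [List.length_cons, List.length_nil] at h3
    omega
  obtain ⟨g, h0, h1, h2, h3, -⟩ := tup5 (i := i) (j := j) (k := k) (l := l) (m := m) (by
    simp only [List.nodup_cons, List.mem_cons, List.not_mem_nil, not_or, List.nodup_nil, not_false_iff, and_true,
      or_false] at h hm ⊢
    exact ⟨⟨h.1.1, h.1.2.1, h.1.2.2, fun e => hm.1 e.symm⟩, ⟨h.2.1.1, h.2.1.2, fun e => hm.2.1 e.symm⟩,
      ⟨h.2.2, fun e => hm.2.2.1 e.symm⟩, fun e => hm.2.2.2 e.symm⟩)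
  exact ⟨g, h0, h1, h2, h3⟩

/-- the three-cycle `(4 5 6)`, involutions -/
def c0 : A := e2 4 5 5 6
@[inherit_doc c0]
def a0 : A := e2 0 1 2 3
@[inherit_doc c0]
def b0 : A := e2 0 2 1 3
@[inherit_doc c0]
def d0 : A := e2 0 1 1 2
@[inherit_doc c0]
def h0 : A := e2 0 1 4 5

theorem mem456 {h : A} (h0 : h.1 0 = 0) (h1 : h.1 1 = 1) (h2 : h.1 2 = 2) (h3 : h.1 3 = 3) :
    h = 1 ∨ h = c0 ∨ h = c0 * c0 := by
  have inj := h.1.injective
  have hs : Perm.sign h.1 = 1 := h.2
  have key : ∀ x : Fin 7, x ≠ 0 → x ≠ 1 → x ≠ 2 → x ≠ 3 → h.1 x = 4 ∨ h.1 x = 5 ∨ h.1 x = 6 := by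
    intro x x0 x1 x2 x3
    have e0 : h.1 x ≠ 0 := fun e => x0 (inj (e.trans h0.symm))
    have e1 : h.1 x ≠ 1 := fun e => x1 (inj (e.trans h1.symm))
    have e2 : h.1 x ≠ 2 := fun e => x2 (inj (e.trans h2.symm))
    have e3 : h.1 x ≠ 3 := fun e => x3 (inj (e.trans h3.symm))
    revert e0 e1 e2 e3
    generalize h.1 x = y
    revert y
    decide
  have ext : ∀ g : Perm (Fin 7), g 0 = 0 → g 1 = 1 → g 2 = 2 → g 3 = 3 → g 4 = h.1 4 → g 5 = h.1 5 → g 6 = h.1 6 →
      h.1 = g := by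
    intro g g0 g1 g2 g3 g4 g5 g6
    ext x
    fin_cases x
    · exact congrArg Fin.val (h0.trans g0.symm)
    · exact congrArg Fin.val (h1.trans g1.symm)
    · exact congrArg Fin.val (h2.trans g2.symm)
    · exact congrArg Fin.val (h3.trans g3.symm)
    · exact congrArg Fin.val g4.symm
    · exact congrArg Fin.val g5.symm
    · exact congrArg Fin.val g6.symm
  have n45 : h.1 4 ≠ h.1 5 := fun e => absurd (inj e) (by decide)
  have n46 : h.1 4 ≠ h.1 6 := fun e => absurd (inj e) (by decide)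
  have n56 : h.1 5 ≠ h.1 6 := fun e => absurd (inj e) (by decide)
  rcases key 4 (by decide) (by decide) (by decide) (by decide) with e4 | e4 | e4 <;>
  rcases key 5 (by decide) (by decide) (by decide) (by decide) with e5 | e5 | e5 <;>
  rcases key 6 (by decide) (by decide) (by decide) (by decide) with e6 | e6 | e6
  all_goals first
    | exact absurd (e4.trans e5.symm) n45
    | exact absurd (e4.trans e6.symm) n46
    | exact absurd (e5.trans e6.symm) n56
    | exact Or.inl (Subtype.ext (ext _ (by decide) (by decide) (by decide) (by decide) (by rw [e4]; decide)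
        (by rw [e5]; decide) (by rw [e6]; decide)))
    | exact Or.inr (Or.inl (Subtype.ext (ext _ (by decide) (by decide) (by decide) (by decide) (by rw [e4]; decide)
        (by rw [e5]; decide) (by rw [e6]; decide))))
    | exact Or.inr (Or.inr (Subtype.ext (ext _ (by decide) (by decide) (by decide) (by decide) (by rw [e4]; decide)
        (by rw [e5]; decide) (by rw [e6]; decide))))
    | (exfalso
       have e := ext (swap 5 6) (by decide) (by decide) (by decide) (by decide) (by rw [e4]; decide) (by rw [e5]; decide)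
        (by rw [e6]; decide)
       rw [e, Perm.sign_swap (by decide)] at hs
       exact absurd hs (by decide))
    | (exfalso
       have e := ext (swap 4 5) (by decide) (by decide) (by decide) (by decide) (by rw [e4]; decide) (by rw [e5]; decide)
        (by rw [e6]; decide)
       rw [e, Perm.sign_swap (by decide)] at hs
       exact absurd hs (by decide))
    | (exfalso
       have e := ext (swap 4 6) (by decide) (by decide) (by decide) (by decide) (by rw [e4]; decide) (by rw [e5]; decide)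
        (by rw [e6]; decide)
       rw [e, Perm.sign_swap (by decide)] at hs
       exact absurd hs (by decide))

end Cfsg.Agent.H906.A7T
end

-- part: H906/A7TwoC
section
/-!
# The vectors indexed by the involutions of `A₇` vanish
-/

set_option autoImplicit false
set_option linter.unusedSectionVars false
set_option maxRecDepth 10000

namespace Cfsg.Agent.H906.A7T

open Module Equiv Cfsg.Agent.H637.JW Cfsg.Agent.H882.Dim Cfsg.Agent.H882.Sc Cfsg.Agent.H923.Ten.A7

variable {K : Type*} [Field K] {V : Type*} [AddCommGroup V] [Module K V] {σ : A →* Module.End K V} {v0 : V}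

/-- the vector of the involution `(i j)(k l)` -/
noncomputable def Bv (σ : A →* Module.End K V) (v0 : V) (i j k l : Fin 7) : V := by
  classical
  exact if h : ∃ g : A, g.1 0 = i ∧ g.1 1 = j ∧ g.1 2 = k ∧ g.1 3 = l then σ h.choose v0 else 0

/-- the vector `v0` is fixed by the centraliser of `(0 1)(2 3)` -/
structure Stab (σ : A →* Module.End K V) (v0 : V) : Prop where
  c : σ c0 v0 = v0
  a : σ a0 v0 = v0
  b : σ b0 v0 = v0
  h : σ h0 v0 = v0

theorem Stab.eq (S : Stab σ v0) (g : A) : σ g v0 = Bv σ v0 (g.1 0) (g.1 1) (g.1 2) (g.1 3) := by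
  have hex : ∃ g' : A, g'.1 0 = g.1 0 ∧ g'.1 1 = g.1 1 ∧ g'.1 2 = g.1 2 ∧ g'.1 3 = g.1 3 := ⟨g, rfl, rfl, rfl, rfl⟩
  have h1 : Bv σ v0 (g.1 0) (g.1 1) (g.1 2) (g.1 3) = σ hex.choose v0 := dif_pos hex
  rw [h1]
  obtain ⟨e0, e1, e2, e3⟩ := hex.choose_spec
  obtain ⟨g', hg'⟩ : ∃ g', g' = hex.choose := ⟨_, rfl⟩
  rw [← hg'] at e0 e1 e2 e3 ⊢
  have key : ∀ x : Fin 7, g'.1 x = g.1 x → (g⁻¹ * g').1 x = x := by
    intro x hx
    change g.1⁻¹ (g'.1 x) = x
    rw [hx]
    exact g.1.symm_apply_apply x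
  have h2 : σ (g⁻¹ * g') v0 = v0 := by
    rcases mem456 (key 0 e0) (key 1 e1) (key 2 e2) (key 3 e3) with h | h | h
    · rw [h, map_one, Module.End.one_apply]
    · rw [h, S.c]
    · rw [h, mul_apply', S.c, S.c]
  calc σ g v0 = σ g (σ (g⁻¹ * g') v0) := by rw [h2]
    _ = σ g' v0 := by rw [← mul_apply', mul_inv_cancel_left]

theorem Stab.act (S : Stab σ v0) {g : A} {i j k l i' j' k' l' : Fin 7}
    (hd : [i, j, k, l].Nodup ∧ g.1 i = i' ∧ g.1 j = j' ∧ g.1 k = k' ∧ g.1 l = l') :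
    σ g (Bv σ v0 i j k l) = Bv σ v0 i' j' k' l' := by
  obtain ⟨hn, rfl, rfl, rfl, rfl⟩ := hd
  obtain ⟨g1, rfl, rfl, rfl, rfl⟩ := tup4 hn
  rw [← S.eq, ← mul_apply', S.eq]
  rfl

theorem Stab.symA (S : Stab σ v0) {i j k l : Fin 7} (hd : [i, j, k, l].Nodup) : Bv σ v0 i j k l = Bv σ v0 j i k l := by
  obtain ⟨g1, rfl, rfl, rfl, rfl⟩ := tup4 hd
  rw [← S.eq]
  have h1 : σ g1 v0 = σ (g1 * h0) v0 := by rw [mul_apply', S.h]
  rw [h1, S.eq]
  rfl

theorem Stab.symC (S : Stab σ v0) {i j k l : Fin 7} (hd : [i, j, k, l].Nodup) : Bv σ v0 i j k l = Bv σ v0 k l i j := by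
  obtain ⟨g1, rfl, rfl, rfl, rfl⟩ := tup4 hd
  rw [← S.eq]
  have h1 : σ g1 v0 = σ (g1 * b0) v0 := by rw [mul_apply', S.b]
  rw [h1, S.eq]
  rfl

theorem Stab.symB (S : Stab σ v0) {i j k l : Fin 7} (hd : [i, j, k, l].Nodup) : Bv σ v0 i j k l = Bv σ v0 i j l k := by
  obtain ⟨g1, rfl, rfl, rfl, rfl⟩ := tup4 hd
  rw [← S.eq]
  have h1 : σ g1 v0 = σ (g1 * (a0 * h0)) v0 := by rw [mul_apply', mul_apply', S.h, S.a]
  rw [h1, S.eq]
  rfl

/-- the permutation `0 ↦ 5, 1 ↦ 6, 4 ↦ 0, 5 ↦ 1, 6 ↦ 4` -/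
def kk : A := e2 0 5 5 1 * e2 1 6 6 4
@[inherit_doc kk]
def c1 : A := e2 0 1 1 4
@[inherit_doc kk]
def h1 : A := e2 5 6 0 1

theorem Stab.base (S : Stab σ v0) (PU : ∀ w, σ c0 w = w → σ h0 w = w → ∃ l : K, w = l • v0) :
    ∃ l : K, Bv σ v0 0 1 2 3 + Bv σ v0 1 4 2 3 + Bv σ v0 4 0 2 3 = l • Bv σ v0 5 6 2 3 := by
  obtain ⟨w, hw⟩ : ∃ w, w = Bv σ v0 0 1 2 3 + Bv σ v0 1 4 2 3 + Bv σ v0 4 0 2 3 := ⟨_, rfl⟩
  have k1 : σ c1 w = w := by
    rw [hw, map_add, map_add, S.act (g := c1) (i := 0) (j := 1) (k := 2) (l := 3) (i' := 1) (j' := 4) (k' := 2)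
      (l' := 3) (by decide), S.act (g := c1) (i := 1) (j := 4) (k := 2) (l := 3) (i' := 4) (j' := 0) (k' := 2)
      (l' := 3) (by decide), S.act (g := c1) (i := 4) (j := 0) (k := 2) (l := 3) (i' := 0) (j' := 1) (k' := 2)
      (l' := 3) (by decide)]
    abel
  have k2 : σ h1 w = w := by
    rw [hw, map_add, map_add, S.act (g := h1) (i := 0) (j := 1) (k := 2) (l := 3) (i' := 1) (j' := 0) (k' := 2)
      (l' := 3) (by decide), S.act (g := h1) (i := 1) (j := 4) (k := 2) (l := 3) (i' := 0) (j' := 4) (k' := 2)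
      (l' := 3) (by decide), S.act (g := h1) (i := 4) (j := 0) (k := 2) (l := 3) (i' := 4) (j' := 1) (k' := 2)
      (l' := 3) (by decide), S.symA (i := 1) (j := 0) (by decide), S.symA (i := 0) (j := 4) (by decide),
      S.symA (i := 4) (j := 1) (by decide)]
    abel
  obtain ⟨l, hl⟩ := PU (σ kk⁻¹ w)
    (by rw [← mul_apply', show c0 * kk⁻¹ = kk⁻¹ * c1 by decide +kernel, mul_apply', k1])
    (by rw [← mul_apply', show h0 * kk⁻¹ = kk⁻¹ * h1 by decide +kernel, mul_apply', k2])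
  refine ⟨l, ?_⟩
  have h3 := congrArg (σ kk) hl
  rw [← mul_apply', mul_inv_cancel, map_one, Module.End.one_apply, map_smul, S.eq] at h3
  rw [← hw, h3]
  rfl

theorem Stab.W (S : Stab σ v0) {lm : K}
    (hb : Bv σ v0 0 1 2 3 + Bv σ v0 1 4 2 3 + Bv σ v0 4 0 2 3 = lm • Bv σ v0 5 6 2 3) {i j m k l p q : Fin 7}
    (hd : [i, j, m, k, l, p, q].Nodup) :
    Bv σ v0 i j k l + Bv σ v0 j m k l + Bv σ v0 m i k l = lm • Bv σ v0 p q k l := by
  have hd' := hd
  simp only [List.nodup_cons, List.mem_cons, List.not_mem_nil, not_or, List.nodup_nil, not_false_iff, and_true,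
    or_false] at hd'
  obtain ⟨⟨ij, im, ik, il, ip, iq⟩, ⟨jm, jk, jl, jp, jq⟩, ⟨mk, ml, mp, mq⟩, ⟨kl, kp, kq⟩, ⟨lp, lq⟩, pq⟩ := hd'
  obtain ⟨g, g0, g1, g2, g3, g4⟩ := tup5 (i := i) (j := j) (k := k) (l := l) (m := m) (by
    simp only [List.nodup_cons, List.mem_cons, List.not_mem_nil, not_or, List.nodup_nil, not_false_iff, and_true,
      or_false]
    exact ⟨⟨ij, ik, il, im⟩, ⟨jk, jl, jm⟩, ⟨kl, fun e => mk e.symm⟩, fun e => ml e.symm⟩)
  have hall : ∀ x : Fin 7, x ∈ [i, j, m, k, l, p, q] := by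
    intro x
    by_contra hx
    have h1 : (x :: [i, j, m, k, l, p, q]).Nodup := List.nodup_cons.2 ⟨hx, hd⟩
    have h2 := List.Nodup.length_le_card h1
    simp only [List.length_cons, List.length_nil, Fintype.card_fin] at h2
    omega
  have inj := g.1.injective
  have key : ∀ x : Fin 7, x ≠ 0 → x ≠ 1 → x ≠ 2 → x ≠ 3 → x ≠ 4 → g.1 x = p ∨ g.1 x = q := by
    intro x x0 x1 x2 x3 x4
    have h1 := hall (g.1 x)
    simp only [List.mem_cons, List.not_mem_nil, or_false] at h1
    rcases h1 with h | h | h | h | h | h | h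
    · exact absurd (inj (h.trans g0.symm)) x0
    · exact absurd (inj (h.trans g1.symm)) x1
    · exact absurd (inj (h.trans g4.symm)) x4
    · exact absurd (inj (h.trans g2.symm)) x2
    · exact absurd (inj (h.trans g3.symm)) x3
    · exact Or.inl h
    · exact Or.inr h
  have n56 : g.1 5 ≠ g.1 6 := fun e => absurd (inj e) (by decide)
  have h3 := congrArg (σ g) hb
  rw [map_add, map_add, map_smul, S.act (g := g) (i := 0) (j := 1) (k := 2) (l := 3) ⟨by decide, g0, g1, g2, g3⟩,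
    S.act (g := g) (i := 1) (j := 4) (k := 2) (l := 3) ⟨by decide, g1, g4, g2, g3⟩,
    S.act (g := g) (i := 4) (j := 0) (k := 2) (l := 3) ⟨by decide, g4, g0, g2, g3⟩] at h3
  rcases key 5 (by decide) (by decide) (by decide) (by decide) (by decide) with e5 | e5 <;>
  rcases key 6 (by decide) (by decide) (by decide) (by decide) (by decide) with e6 | e6
  · exact absurd (e5.trans e6.symm) n56
  · rw [S.act (g := g) (i := 5) (j := 6) (k := 2) (l := 3) ⟨by decide, e5, e6, g2, g3⟩] at h3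
    exact h3
  · rw [S.act (g := g) (i := 5) (j := 6) (k := 2) (l := 3) ⟨by decide, e5, e6, g2, g3⟩, S.symA (i := q) (j := p) (k := k) (l := l) (by
      simp only [List.nodup_cons, List.mem_cons, List.not_mem_nil, not_or, List.nodup_nil, not_false_iff, and_true,
        or_false]
      exact ⟨⟨fun e => pq e.symm, fun e => kq e.symm, fun e => lq e.symm⟩, ⟨fun e => kp e.symm, fun e => lp e.symm⟩, kl⟩)] at h3
    exact h3
  · exact absurd (e5.trans e6.symm) n56

/-- five-cycles and three-cycles -/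
def q2 : A := e2 0 1 1 2 * e2 2 4 4 3
@[inherit_doc q2]
def x1 : A := e2 0 1 1 2
@[inherit_doc q2]
def x2 : A := e2 0 1 1 6
@[inherit_doc q2]
def y1 : A := e2 3 4 4 5

theorem Stab.lam (S : Stab σ v0) (hv : v0 ≠ 0) (h2 : (2 : K) = 0) {lm : K}
    (hb : Bv σ v0 0 1 2 3 + Bv σ v0 1 4 2 3 + Bv σ v0 4 0 2 3 = lm • Bv σ v0 5 6 2 3)
    (P5 : ∀ v, σ cc v = v → v = 0) (P5' : ∀ v, σ q2 v = v → v = 0) : lm = 0 := by
  have symA := @Stab.symA K _ V _ _ σ v0 S
  have symB := @Stab.symB K _ V _ _ σ v0 S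
  have symC := @Stab.symC K _ V _ _ σ v0 S
  obtain ⟨β, hβ⟩ : ∃ β, β = Bv σ v0 := ⟨_, rfl⟩
  rw [← hβ] at symA symB symC
  have p1 : β 0 1 5 6 + β 1 2 5 6 + β 2 3 5 6 + β 3 4 5 6 + β 4 0 5 6 = 0 := by
    apply P5
    · simp only [map_add]
      rw [show σ cc (β 0 1 5 6) = β 1 2 5 6 from hβ ▸ S.act (g := cc) (i := 0) (j := 1) (k := 5) (l := 6) (i' := 1) (j' := 2) (k' := 5) (l' := 6) (by decide +kernel),
        show σ cc (β 1 2 5 6) = β 2 3 5 6 from hβ ▸ S.act (g := cc) (i := 1) (j := 2) (k := 5) (l := 6) (i' := 2) (j' := 3) (k' := 5) (l' := 6) (by decide +kernel),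
        show σ cc (β 2 3 5 6) = β 3 4 5 6 from hβ ▸ S.act (g := cc) (i := 2) (j := 3) (k := 5) (l := 6) (i' := 3) (j' := 4) (k' := 5) (l' := 6) (by decide +kernel),
        show σ cc (β 3 4 5 6) = β 4 0 5 6 from hβ ▸ S.act (g := cc) (i := 3) (j := 4) (k := 5) (l := 6) (i' := 4) (j' := 0) (k' := 5) (l' := 6) (by decide +kernel),
        show σ cc (β 4 0 5 6) = β 0 1 5 6 from hβ ▸ S.act (g := cc) (i := 4) (j := 0) (k := 5) (l := 6) (i' := 0) (j' := 1) (k' := 5) (l' := 6) (by decide +kernel)]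
      abel
  have p2 : β 0 1 5 6 + β 1 2 5 6 + β 2 4 5 6 + β 4 3 5 6 + β 3 0 5 6 = 0 := by
    apply P5'
    · simp only [map_add]
      rw [show σ q2 (β 0 1 5 6) = β 1 2 5 6 from hβ ▸ S.act (g := q2) (i := 0) (j := 1) (k := 5) (l := 6) (i' := 1) (j' := 2) (k' := 5) (l' := 6) (by decide +kernel),
        show σ q2 (β 1 2 5 6) = β 2 4 5 6 from hβ ▸ S.act (g := q2) (i := 1) (j := 2) (k := 5) (l := 6) (i' := 2) (j' := 4) (k' := 5) (l' := 6) (by decide +kernel),
        show σ q2 (β 2 4 5 6) = β 4 3 5 6 from hβ ▸ S.act (g := q2) (i := 2) (j := 4) (k := 5) (l := 6) (i' := 4) (j' := 3) (k' := 5) (l' := 6) (by decide +kernel),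
        show σ q2 (β 4 3 5 6) = β 3 0 5 6 from hβ ▸ S.act (g := q2) (i := 4) (j := 3) (k := 5) (l := 6) (i' := 3) (j' := 0) (k' := 5) (l' := 6) (by decide +kernel),
        show σ q2 (β 3 0 5 6) = β 0 1 5 6 from hβ ▸ S.act (g := q2) (i := 3) (j := 0) (k := 5) (l := 6) (i' := 0) (j' := 1) (k' := 5) (l' := 6) (by decide +kernel)]
      abel
  have w1 : β 2 3 5 6 + β 3 4 5 6 + β 4 2 5 6 = lm • β 0 1 5 6 := hβ ▸ S.W hb (by decide)
  have w2 : β 0 3 5 6 + β 3 4 5 6 + β 4 0 5 6 = lm • β 1 2 5 6 := hβ ▸ S.W hb (by decide)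
  have e1 : β 4 0 5 6 = β 0 4 5 6 := by rw [symA (i := 4) (j := 0) (k := 5) (l := 6) (by decide)]
  have e2 : β 4 3 5 6 = β 3 4 5 6 := by rw [symA (i := 4) (j := 3) (k := 5) (l := 6) (by decide)]
  have e3 : β 3 0 5 6 = β 0 3 5 6 := by rw [symA (i := 3) (j := 0) (k := 5) (l := 6) (by decide)]
  have e4 : β 4 2 5 6 = β 2 4 5 6 := by rw [symA (i := 4) (j := 2) (k := 5) (l := 6) (by decide)]
  rw [e1] at p1
  rw [e2, e3] at p2
  rw [e4] at w1
  rw [e1] at w2
  have h3 : lm • (β 0 1 5 6 + β 1 2 5 6) = 0 := by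
    linear_combination (norm := module) p1 + p2 - w1 - w2 - h2 • (β 0 1 5 6 + β 1 2 5 6)
  rcases smul_eq_zero.1 h3 with h | h
  · exact h
  · exfalso
    have h4 : β 1 2 5 6 = β 0 1 5 6 := by
      linear_combination (norm := module) h - h2 • β 0 1 5 6
    have h5 : σ cc (β 0 1 5 6) = β 1 2 5 6 := hβ ▸ S.act (g := cc) (i := 0) (j := 1) (k := 5) (l := 6) (i' := 1) (j' := 2) (k' := 5) (l' := 6) (by decide +kernel)
    have h6 := P5 _ (h5.trans h4)
    obtain ⟨g, e0, e1, e2, e3⟩ := tup4 (i := 0) (j := 1) (k := 5) (l := 6) (by decide)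
    have h7 := S.eq g
    rw [e0, e1, e2, e3, ← hβ, h6] at h7
    apply hv
    apply injective (σ := σ) g
    rw [h7, map_zero]

theorem Stab.false (S : Stab σ v0) (hv : v0 ≠ 0) (h2 : (2 : K) = 0)
    (PU : ∀ w, σ c0 w = w → σ h0 w = w → ∃ l : K, w = l • v0)
    (P5 : ∀ v, σ cc v = v → v = 0) (P5' : ∀ v, σ q2 v = v → v = 0) (P9 : ∀ v, σ x1 v = v → σ y1 v = v → v = 0)
    (P9' : ∀ v, σ x2 v = v → σ y1 v = v → v = 0) : False := by
  obtain ⟨lm, hb⟩ := S.base PU
  have hl := S.lam hv h2 hb P5 P5'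
  subst hl
  have symA := @Stab.symA K _ V _ _ σ v0 S
  have symB := @Stab.symB K _ V _ _ σ v0 S
  have symC := @Stab.symC K _ V _ _ σ v0 S
  obtain ⟨β, hβ⟩ : ∃ β, β = Bv σ v0 := ⟨_, rfl⟩
  rw [← hβ] at symA symB symC
  have s1 : β 0 3 1 4 + β 0 4 1 5 + β 0 5 1 3 + β 1 3 2 4 + β 1 4 2 5 + β 1 5 2 3 + β 2 3 0 4 + β 2 4 0 5 + β 2 5 0 3 = 0 := by
    apply P9
    · simp only [map_add]
      rw [show σ x1 (β 0 3 1 4) = β 1 3 2 4 from hβ ▸ S.act (g := x1) (i := 0) (j := 3) (k := 1) (l := 4) (i' := 1) (j' := 3) (k' := 2) (l' := 4) (by decide +kernel),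
        show σ x1 (β 0 4 1 5) = β 1 4 2 5 from hβ ▸ S.act (g := x1) (i := 0) (j := 4) (k := 1) (l := 5) (i' := 1) (j' := 4) (k' := 2) (l' := 5) (by decide +kernel),
        show σ x1 (β 0 5 1 3) = β 1 5 2 3 from hβ ▸ S.act (g := x1) (i := 0) (j := 5) (k := 1) (l := 3) (i' := 1) (j' := 5) (k' := 2) (l' := 3) (by decide +kernel),
        show σ x1 (β 1 3 2 4) = β 2 3 0 4 from hβ ▸ S.act (g := x1) (i := 1) (j := 3) (k := 2) (l := 4) (i' := 2) (j' := 3) (k' := 0) (l' := 4) (by decide +kernel),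
        show σ x1 (β 1 4 2 5) = β 2 4 0 5 from hβ ▸ S.act (g := x1) (i := 1) (j := 4) (k := 2) (l := 5) (i' := 2) (j' := 4) (k' := 0) (l' := 5) (by decide +kernel),
        show σ x1 (β 1 5 2 3) = β 2 5 0 3 from hβ ▸ S.act (g := x1) (i := 1) (j := 5) (k := 2) (l := 3) (i' := 2) (j' := 5) (k' := 0) (l' := 3) (by decide +kernel),
        show σ x1 (β 2 3 0 4) = β 0 3 1 4 from hβ ▸ S.act (g := x1) (i := 2) (j := 3) (k := 0) (l := 4) (i' := 0) (j' := 3) (k' := 1) (l' := 4) (by decide +kernel),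
        show σ x1 (β 2 4 0 5) = β 0 4 1 5 from hβ ▸ S.act (g := x1) (i := 2) (j := 4) (k := 0) (l := 5) (i' := 0) (j' := 4) (k' := 1) (l' := 5) (by decide +kernel),
        show σ x1 (β 2 5 0 3) = β 0 5 1 3 from hβ ▸ S.act (g := x1) (i := 2) (j := 5) (k := 0) (l := 3) (i' := 0) (j' := 5) (k' := 1) (l' := 3) (by decide +kernel)]
      abel
    · simp only [map_add]
      rw [show σ y1 (β 0 3 1 4) = β 0 4 1 5 from hβ ▸ S.act (g := y1) (i := 0) (j := 3) (k := 1) (l := 4) (i' := 0) (j' := 4) (k' := 1) (l' := 5) (by decide +kernel),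
        show σ y1 (β 0 4 1 5) = β 0 5 1 3 from hβ ▸ S.act (g := y1) (i := 0) (j := 4) (k := 1) (l := 5) (i' := 0) (j' := 5) (k' := 1) (l' := 3) (by decide +kernel),
        show σ y1 (β 0 5 1 3) = β 0 3 1 4 from hβ ▸ S.act (g := y1) (i := 0) (j := 5) (k := 1) (l := 3) (i' := 0) (j' := 3) (k' := 1) (l' := 4) (by decide +kernel),
        show σ y1 (β 1 3 2 4) = β 1 4 2 5 from hβ ▸ S.act (g := y1) (i := 1) (j := 3) (k := 2) (l := 4) (i' := 1) (j' := 4) (k' := 2) (l' := 5) (by decide +kernel),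
        show σ y1 (β 1 4 2 5) = β 1 5 2 3 from hβ ▸ S.act (g := y1) (i := 1) (j := 4) (k := 2) (l := 5) (i' := 1) (j' := 5) (k' := 2) (l' := 3) (by decide +kernel),
        show σ y1 (β 1 5 2 3) = β 1 3 2 4 from hβ ▸ S.act (g := y1) (i := 1) (j := 5) (k := 2) (l := 3) (i' := 1) (j' := 3) (k' := 2) (l' := 4) (by decide +kernel),
        show σ y1 (β 2 3 0 4) = β 2 4 0 5 from hβ ▸ S.act (g := y1) (i := 2) (j := 3) (k := 0) (l := 4) (i' := 2) (j' := 4) (k' := 0) (l' := 5) (by decide +kernel),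
        show σ y1 (β 2 4 0 5) = β 2 5 0 3 from hβ ▸ S.act (g := y1) (i := 2) (j := 4) (k := 0) (l := 5) (i' := 2) (j' := 5) (k' := 0) (l' := 3) (by decide +kernel),
        show σ y1 (β 2 5 0 3) = β 2 3 0 4 from hβ ▸ S.act (g := y1) (i := 2) (j := 5) (k := 0) (l := 3) (i' := 2) (j' := 3) (k' := 0) (l' := 4) (by decide +kernel)]
      abel
  have s2 : β 0 3 1 4 + β 0 4 1 5 + β 0 5 1 3 + β 1 3 6 4 + β 1 4 6 5 + β 1 5 6 3 + β 6 3 0 4 + β 6 4 0 5 + β 6 5 0 3 = 0 := by
    apply P9'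
    · simp only [map_add]
      rw [show σ x2 (β 0 3 1 4) = β 1 3 6 4 from hβ ▸ S.act (g := x2) (i := 0) (j := 3) (k := 1) (l := 4) (i' := 1) (j' := 3) (k' := 6) (l' := 4) (by decide +kernel),
        show σ x2 (β 0 4 1 5) = β 1 4 6 5 from hβ ▸ S.act (g := x2) (i := 0) (j := 4) (k := 1) (l := 5) (i' := 1) (j' := 4) (k' := 6) (l' := 5) (by decide +kernel),
        show σ x2 (β 0 5 1 3) = β 1 5 6 3 from hβ ▸ S.act (g := x2) (i := 0) (j := 5) (k := 1) (l := 3) (i' := 1) (j' := 5) (k' := 6) (l' := 3) (by decide +kernel),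
        show σ x2 (β 1 3 6 4) = β 6 3 0 4 from hβ ▸ S.act (g := x2) (i := 1) (j := 3) (k := 6) (l := 4) (i' := 6) (j' := 3) (k' := 0) (l' := 4) (by decide +kernel),
        show σ x2 (β 1 4 6 5) = β 6 4 0 5 from hβ ▸ S.act (g := x2) (i := 1) (j := 4) (k := 6) (l := 5) (i' := 6) (j' := 4) (k' := 0) (l' := 5) (by decide +kernel),
        show σ x2 (β 1 5 6 3) = β 6 5 0 3 from hβ ▸ S.act (g := x2) (i := 1) (j := 5) (k := 6) (l := 3) (i' := 6) (j' := 5) (k' := 0) (l' := 3) (by decide +kernel),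
        show σ x2 (β 6 3 0 4) = β 0 3 1 4 from hβ ▸ S.act (g := x2) (i := 6) (j := 3) (k := 0) (l := 4) (i' := 0) (j' := 3) (k' := 1) (l' := 4) (by decide +kernel),
        show σ x2 (β 6 4 0 5) = β 0 4 1 5 from hβ ▸ S.act (g := x2) (i := 6) (j := 4) (k := 0) (l := 5) (i' := 0) (j' := 4) (k' := 1) (l' := 5) (by decide +kernel),
        show σ x2 (β 6 5 0 3) = β 0 5 1 3 from hβ ▸ S.act (g := x2) (i := 6) (j := 5) (k := 0) (l := 3) (i' := 0) (j' := 5) (k' := 1) (l' := 3) (by decide +kernel)]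
      abel
    · simp only [map_add]
      rw [show σ y1 (β 0 3 1 4) = β 0 4 1 5 from hβ ▸ S.act (g := y1) (i := 0) (j := 3) (k := 1) (l := 4) (i' := 0) (j' := 4) (k' := 1) (l' := 5) (by decide +kernel),
        show σ y1 (β 0 4 1 5) = β 0 5 1 3 from hβ ▸ S.act (g := y1) (i := 0) (j := 4) (k := 1) (l := 5) (i' := 0) (j' := 5) (k' := 1) (l' := 3) (by decide +kernel),
        show σ y1 (β 0 5 1 3) = β 0 3 1 4 from hβ ▸ S.act (g := y1) (i := 0) (j := 5) (k := 1) (l := 3) (i' := 0) (j' := 3) (k' := 1) (l' := 4) (by decide +kernel),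
        show σ y1 (β 1 3 6 4) = β 1 4 6 5 from hβ ▸ S.act (g := y1) (i := 1) (j := 3) (k := 6) (l := 4) (i' := 1) (j' := 4) (k' := 6) (l' := 5) (by decide +kernel),
        show σ y1 (β 1 4 6 5) = β 1 5 6 3 from hβ ▸ S.act (g := y1) (i := 1) (j := 4) (k := 6) (l := 5) (i' := 1) (j' := 5) (k' := 6) (l' := 3) (by decide +kernel),
        show σ y1 (β 1 5 6 3) = β 1 3 6 4 from hβ ▸ S.act (g := y1) (i := 1) (j := 5) (k := 6) (l := 3) (i' := 1) (j' := 3) (k' := 6) (l' := 4) (by decide +kernel),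
        show σ y1 (β 6 3 0 4) = β 6 4 0 5 from hβ ▸ S.act (g := y1) (i := 6) (j := 3) (k := 0) (l := 4) (i' := 6) (j' := 4) (k' := 0) (l' := 5) (by decide +kernel),
        show σ y1 (β 6 4 0 5) = β 6 5 0 3 from hβ ▸ S.act (g := y1) (i := 6) (j := 4) (k := 0) (l := 5) (i' := 6) (j' := 5) (k' := 0) (l' := 3) (by decide +kernel),
        show σ y1 (β 6 5 0 3) = β 6 3 0 4 from hβ ▸ S.act (g := y1) (i := 6) (j := 5) (k := 0) (l := 3) (i' := 6) (j' := 3) (k' := 0) (l' := 4) (by decide +kernel)]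
      abel
  have w1 : β 2 4 1 3 + β 4 6 1 3 + β 6 2 1 3 = 0 := by
    have := S.W hb (i := 2) (j := 4) (m := 6) (k := 1) (l := 3) (p := 0) (q := 5) (by decide)
    rwa [← hβ, zero_smul] at this
  have w2 : β 2 3 0 4 + β 3 6 0 4 + β 6 2 0 4 = 0 := by
    have := S.W hb (i := 2) (j := 3) (m := 6) (k := 0) (l := 4) (p := 1) (q := 5) (by decide)
    rwa [← hβ, zero_smul] at this
  have w3 : β 0 1 2 6 + β 1 3 2 6 + β 3 0 2 6 = 0 := by
    have := S.W hb (i := 0) (j := 1) (m := 3) (k := 2) (l := 6) (p := 4) (q := 5) (by decide)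
    rwa [← hβ, zero_smul] at this
  have w4 : β 2 5 1 4 + β 5 6 1 4 + β 6 2 1 4 = 0 := by
    have := S.W hb (i := 2) (j := 5) (m := 6) (k := 1) (l := 4) (p := 0) (q := 3) (by decide)
    rwa [← hβ, zero_smul] at this
  have w5 : β 2 4 0 5 + β 4 6 0 5 + β 6 2 0 5 = 0 := by
    have := S.W hb (i := 2) (j := 4) (m := 6) (k := 0) (l := 5) (p := 1) (q := 3) (by decide)
    rwa [← hβ, zero_smul] at this
  have w6 : β 0 1 2 6 + β 1 4 2 6 + β 4 0 2 6 = 0 := by
    have := S.W hb (i := 0) (j := 1) (m := 4) (k := 2) (l := 6) (p := 3) (q := 5) (by decide)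
    rwa [← hβ, zero_smul] at this
  have w7 : β 2 3 1 5 + β 3 6 1 5 + β 6 2 1 5 = 0 := by
    have := S.W hb (i := 2) (j := 3) (m := 6) (k := 1) (l := 5) (p := 0) (q := 4) (by decide)
    rwa [← hβ, zero_smul] at this
  have w8 : β 2 5 0 3 + β 5 6 0 3 + β 6 2 0 3 = 0 := by
    have := S.W hb (i := 2) (j := 5) (m := 6) (k := 0) (l := 3) (p := 1) (q := 4) (by decide)
    rwa [← hβ, zero_smul] at this
  have w9 : β 0 1 2 6 + β 1 5 2 6 + β 5 0 2 6 = 0 := by
    have := S.W hb (i := 0) (j := 1) (m := 5) (k := 2) (l := 6) (p := 3) (q := 4) (by decide)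
    rwa [← hβ, zero_smul] at this
  have e5 : β 2 3 0 4 = β 0 4 2 3 := by rw [symC (i := 2) (j := 3) (k := 0) (l := 4) (by decide)]
  have e6 : β 2 4 0 5 = β 0 5 2 4 := by rw [symC (i := 2) (j := 4) (k := 0) (l := 5) (by decide)]
  have e7 : β 2 5 0 3 = β 0 3 2 5 := by rw [symC (i := 2) (j := 5) (k := 0) (l := 3) (by decide)]
  have e8 : β 1 3 6 4 = β 1 3 4 6 := by rw [symB (i := 1) (j := 3) (k := 6) (l := 4) (by decide)]
  have e9 : β 1 4 6 5 = β 1 4 5 6 := by rw [symB (i := 1) (j := 4) (k := 6) (l := 5) (by decide)]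
  have e10 : β 1 5 6 3 = β 1 5 3 6 := by rw [symB (i := 1) (j := 5) (k := 6) (l := 3) (by decide)]
  have e11 : β 6 3 0 4 = β 0 4 3 6 := by rw [symA (i := 6) (j := 3) (k := 0) (l := 4) (by decide), symC (i := 3) (j := 6) (k := 0) (l := 4) (by decide)]
  have e12 : β 6 4 0 5 = β 0 5 4 6 := by rw [symA (i := 6) (j := 4) (k := 0) (l := 5) (by decide), symC (i := 4) (j := 6) (k := 0) (l := 5) (by decide)]
  have e13 : β 6 5 0 3 = β 0 3 5 6 := by rw [symA (i := 6) (j := 5) (k := 0) (l := 3) (by decide), symC (i := 5) (j := 6) (k := 0) (l := 3) (by decide)]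
  have e14 : β 2 4 1 3 = β 1 3 2 4 := by rw [symC (i := 2) (j := 4) (k := 1) (l := 3) (by decide)]
  have e15 : β 4 6 1 3 = β 1 3 4 6 := by rw [symC (i := 4) (j := 6) (k := 1) (l := 3) (by decide)]
  have e16 : β 6 2 1 3 = β 1 3 2 6 := by rw [symA (i := 6) (j := 2) (k := 1) (l := 3) (by decide), symC (i := 2) (j := 6) (k := 1) (l := 3) (by decide)]
  have e17 : β 3 6 0 4 = β 0 4 3 6 := by rw [symC (i := 3) (j := 6) (k := 0) (l := 4) (by decide)]
  have e18 : β 6 2 0 4 = β 0 4 2 6 := by rw [symA (i := 6) (j := 2) (k := 0) (l := 4) (by decide), symC (i := 2) (j := 6) (k := 0) (l := 4) (by decide)]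
  have e19 : β 3 0 2 6 = β 0 3 2 6 := by rw [symA (i := 3) (j := 0) (k := 2) (l := 6) (by decide)]
  have e20 : β 2 5 1 4 = β 1 4 2 5 := by rw [symC (i := 2) (j := 5) (k := 1) (l := 4) (by decide)]
  have e21 : β 5 6 1 4 = β 1 4 5 6 := by rw [symC (i := 5) (j := 6) (k := 1) (l := 4) (by decide)]
  have e22 : β 6 2 1 4 = β 1 4 2 6 := by rw [symA (i := 6) (j := 2) (k := 1) (l := 4) (by decide), symC (i := 2) (j := 6) (k := 1) (l := 4) (by decide)]
  have e23 : β 4 6 0 5 = β 0 5 4 6 := by rw [symC (i := 4) (j := 6) (k := 0) (l := 5) (by decide)]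
  have e24 : β 6 2 0 5 = β 0 5 2 6 := by rw [symA (i := 6) (j := 2) (k := 0) (l := 5) (by decide), symC (i := 2) (j := 6) (k := 0) (l := 5) (by decide)]
  have e25 : β 4 0 2 6 = β 0 4 2 6 := by rw [symA (i := 4) (j := 0) (k := 2) (l := 6) (by decide)]
  have e26 : β 2 3 1 5 = β 1 5 2 3 := by rw [symC (i := 2) (j := 3) (k := 1) (l := 5) (by decide)]
  have e27 : β 3 6 1 5 = β 1 5 3 6 := by rw [symC (i := 3) (j := 6) (k := 1) (l := 5) (by decide)]
  have e28 : β 6 2 1 5 = β 1 5 2 6 := by rw [symA (i := 6) (j := 2) (k := 1) (l := 5) (by decide), symC (i := 2) (j := 6) (k := 1) (l := 5) (by decide)]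
  have e29 : β 5 6 0 3 = β 0 3 5 6 := by rw [symC (i := 5) (j := 6) (k := 0) (l := 3) (by decide)]
  have e30 : β 6 2 0 3 = β 0 3 2 6 := by rw [symA (i := 6) (j := 2) (k := 0) (l := 3) (by decide), symC (i := 2) (j := 6) (k := 0) (l := 3) (by decide)]
  have e31 : β 5 0 2 6 = β 0 5 2 6 := by rw [symA (i := 5) (j := 0) (k := 2) (l := 6) (by decide)]
  rw [e5, e6, e7] at s1
  rw [e8, e9, e10, e11, e12, e13] at s2
  rw [e14, e15, e16] at w1
  rw [e5, e17, e18] at w2
  rw [e19] at w3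
  rw [e20, e21, e22] at w4
  rw [e6, e23, e24] at w5
  rw [e25] at w6
  rw [e26, e27, e28] at w7
  rw [e7, e29, e30] at w8
  rw [e31] at w9
  have h3 : β 0 1 2 6 = 0 := by
    linear_combination (norm := module) s1 + s2 + w1 + w2 + w3 + w4 + w5 + w6 + w7 + w8 + w9 - h2 • (β 0 3 1 4 + β 0 4 1 5 + β 0 5 1 3 + β 1 3 2 4 + β 1 4 2 5 + β 1 5 2 3 + β 0 4 2 3 + β 0 5 2 4 + β 0 3 2 5 + β 1 3 4 6 + β 1 4 5 6 + β 1 5 3 6 + β 0 4 3 6 + β 0 5 4 6 + β 0 3 5 6 + β 1 3 2 6 + β 0 4 2 6 + β 0 1 2 6 + β 0 3 2 6 + β 1 4 2 6 + β 0 5 2 6 + β 1 5 2 6)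
  obtain ⟨g, e0, e1, e2, e3⟩ := tup4 (i := 0) (j := 1) (k := 2) (l := 6) (by decide)
  have h7 := S.eq g
  rw [e0, e1, e2, e3, ← hβ, h3] at h7
  apply hv
  apply injective (σ := σ) g
  rw [h7, map_zero]

end Cfsg.Agent.H906.A7T
end

-- part: H906/A7TwoD
section
/-!
# `A₇` has no self-dual irreducible representation of dimension `12`, characteristic two
-/

set_option autoImplicit false
set_option linter.unusedSectionVars false
set_option maxRecDepth 10000

namespace Cfsg.Agent.H906.A7T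

open Module Equiv Cfsg.Agent.H637.JW Cfsg.Agent.H882.Dim Cfsg.Agent.H882.Sc Cfsg.Agent.H923.Ten.A7

variable {K : Type*} [Field K] {V : Type*} [AddCommGroup V] [Module K V] [FiniteDimensional K V]
  {σ : A →* Module.End K V}

theorem res3 : ∀ j : ZMod 3, j ≠ 0 → ∃ i : Fin 3, j = ((2 : ℕ) : ZMod 3) ^ (i : ℕ) ∨ j = -((2 : ℕ) : ZMod 3) ^ (i : ℕ) := by
  decide

theorem zero_of_finrank {U : Submodule K V} (h : finrank K U = 0) {v : V} (hv : v ∈ U) : v = 0 := by
  rw [Submodule.finrank_eq_zero] at h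
  rw [h] at hv
  exact (Submodule.mem_bot K).1 hv

/-- involutions in characteristic two have fixed vectors -/
theorem exists_inv (h2 : (2 : K) = 0) {U : Submodule K V} (hU : U ≠ ⊥) {t : A} (ht : t * t = 1)
    (hinv : ∀ v ∈ U, σ t v ∈ U) : (U ⊓ _root_.Cfsg.Agent.H637.JW.Fix σ t : Submodule K V) ≠ ⊥ := by
  obtain ⟨v, hv, hv0⟩ := Submodule.exists_mem_ne_zero_of_ne_bot hU
  have tt : σ t (σ t v) = v := by rw [← mul_apply', ht, act_one]
  intro hb
  have key : ∀ w ∈ U, σ t w = w → w = 0 := by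
    intro w hw h1
    have : w ∈ (U ⊓ _root_.Cfsg.Agent.H637.JW.Fix σ t : Submodule K V) := ⟨hw, mem_Fix.2 h1⟩
    rw [hb] at this
    exact (Submodule.mem_bot K).1 this
  have h3 := key (v + σ t v) (U.add_mem hv (hinv v hv)) (by rw [map_add, tt, add_comm])
  apply hv0
  apply key v hv
  linear_combination (norm := module) h3 - h2 • v

/-- the vectors fixed by the three-cycle `(4 5 6)` -/
theorem exists_stab (h2 : (2 : K) = 0) (hU : _root_.Cfsg.Agent.H637.JW.Fix σ c0 ≠ ⊥) : ∃ v0 : V, v0 ≠ 0 ∧ Stab σ v0 := by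
  have n1 := exists_inv (σ := σ) h2 hU (t := a0) (by decide +kernel) (fun v hv => fix_le_of_comm (by decide +kernel) hv)
  have n2 := exists_inv (σ := σ) h2 n1 (t := b0) (by decide +kernel) (fun v hv =>
    ⟨fix_le_of_comm (by decide +kernel) hv.1, fix_le_of_comm (by decide +kernel) hv.2⟩)
  have n3 := exists_inv (σ := σ) h2 n2 (t := h0) (by decide +kernel) (fun v hv => by
    have e1 := mem_Fix.1 hv.1.1
    have e2 := mem_Fix.1 hv.1.2
    have e3 := mem_Fix.1 hv.2
    refine ⟨⟨?_, ?_⟩, ?_⟩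
    · show σ h0 v ∈ _root_.Cfsg.Agent.H637.JW.Fix σ c0
      rw [mem_Fix, ← mul_apply', show c0 * h0 = h0 * (c0 * c0) by decide +kernel, mul_apply', mul_apply', e1, e1]
    · show σ h0 v ∈ _root_.Cfsg.Agent.H637.JW.Fix σ a0
      rw [mem_Fix, ← mul_apply', show a0 * h0 = h0 * a0 by decide +kernel, mul_apply', e2]
    · show σ h0 v ∈ _root_.Cfsg.Agent.H637.JW.Fix σ b0
      rw [mem_Fix, ← mul_apply', show b0 * h0 = h0 * (a0 * b0) by decide +kernel, mul_apply', mul_apply', e3, e2])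
  obtain ⟨v, hv, hv0⟩ := Submodule.exists_mem_ne_zero_of_ne_bot n3
  exact ⟨v, hv0, ⟨mem_Fix.1 hv.1.1.1, mem_Fix.1 hv.1.1.2, mem_Fix.1 hv.1.2, mem_Fix.1 hv.2⟩⟩

theorem uniq (hU : finrank K (Fix σ c0) = 2) (hd : ∀ v, σ d0 v = v → σ c0 v = v → v = 0) {v0 : V} (hv : v0 ≠ 0)
    (hc : σ c0 v0 = v0) (hh : σ h0 v0 = v0) (w : V) (h1 : σ c0 w = w) (h2 : σ h0 w = w) : ∃ l : K, w = l • v0 := by
  obtain ⟨T, hT⟩ : ∃ T : Submodule K V, T = _root_.Cfsg.Agent.H637.JW.Fix σ c0 ⊓ _root_.Cfsg.Agent.H637.JW.Fix σ h0 := ⟨_, rfl⟩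
  have hle : T ≤ _root_.Cfsg.Agent.H637.JW.Fix σ c0 := hT ▸ inf_le_left
  have hne : T ≠ _root_.Cfsg.Agent.H637.JW.Fix σ c0 := by
    intro e
    apply hv
    have hall : ∀ u, σ c0 u = u → σ h0 u = u := by
      intro u hu
      have : u ∈ T := by rw [e]; exact mem_Fix.2 hu
      rw [hT] at this
      exact mem_Fix.1 this.2
    refine hd v0 ?_ hc
    have k1 : σ c0 (σ d0 v0) = σ d0 v0 := by
      rw [← mul_apply', show c0 * d0 = d0 * c0 by decide +kernel, mul_apply', hc]
    have k2 := hall _ k1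
    rw [← mul_apply', show h0 * d0 = d0 * d0 * h0 by decide +kernel, mul_apply', hh, mul_apply'] at k2
    exact injective (σ := σ) d0 k2
  have hlt := Submodule.finrank_lt_finrank_of_lt (lt_of_le_of_ne hle hne)
  have hs : (K ∙ v0) ≤ T := by
    rw [Submodule.span_singleton_le_iff_mem, hT]
    exact ⟨mem_Fix.2 hc, mem_Fix.2 hh⟩
  have hse : (K ∙ v0) = T := Submodule.eq_of_le_of_finrank_le hs (by rw [finrank_span_singleton hv]; omega)
  have hw : w ∈ T := by rw [hT]; exact ⟨mem_Fix.2 h1, mem_Fix.2 h2⟩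
  rw [← hse, Submodule.mem_span_singleton] at hw
  obtain ⟨l, hl⟩ := hw
  exact ⟨l, hl.symm⟩

theorem twelve_two [IsAlgClosed K] (h2 : (2 : K) = 0) (hI : Irr σ) {B : V →ₗ[K] V →ₗ[K] K} (hB : Form σ B)
    (hV : finrank K V = 12) : False := by
  have hch : CharP K 2 := A7.charP_of_zero (by norm_num) (by exact_mod_cast h2)
  have hf2 : Fact (Nat.Prime 2) := ⟨by norm_num⟩
  have hf3 : Fact (Nat.Prime 3) := ⟨by norm_num⟩
  have hf5 : Fact (Nat.Prime 5) := ⟨by norm_num⟩
  have hf7 : Fact (Nat.Prime 7) := ⟨by norm_num⟩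
  have h3 : (3 : K) ≠ 0 := by
    have : (3 : K) = 1 := by linear_combination h2
    rw [this]; exact one_ne_zero
  have h5 : (5 : K) ≠ 0 := by
    have : (5 : K) = 1 := by linear_combination 2 * h2
    rw [this]; exact one_ne_zero
  have h7 : (7 : K) ≠ 0 := by
    have : (7 : K) = 1 := by linear_combination 3 * h2
    rw [this]; exact one_ne_zero
  have h3' : ((3 : ℕ) : K) ≠ 0 := by exact_mod_cast h3
  have h5' : ((5 : ℕ) : K) ≠ 0 := by exact_mod_cast h5
  have h7' : ((7 : ℕ) : K) ≠ 0 := by exact_mod_cast h7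
  -- elements of order seven
  obtain ⟨m, hm⟩ := eig hB (c := A7.c) (y := A7.yc) (r := 7) (k := 2) h7' (by decide +kernel) (by decide +kernel) A7.res7
  have z1 := le_of_char (σ := σ) (p := 2) (c := A7.z) (by decide +kernel)
  have s7 := hI.scott A7.gen_zc
  have e7 : finrank K (Fix σ (A7.z * A7.c)) = finrank K (Fix σ (A7.c ^ 3)) :=
    fix_conj (k := e2 1 2 1 4 * e2 1 5 5 6) (by decide +kernel)
  have e7' : _root_.Cfsg.Agent.H637.JW.Fix σ (A7.c ^ 3) = _root_.Cfsg.Agent.H637.JW.Fix σ A7.c := by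
    ext v
    rw [mem_Fix, mem_Fix]
    constructor
    · intro h
      rw [show A7.c = A7.c ^ 3 * (A7.c ^ 3 * (A7.c ^ 3 * (A7.c ^ 3 * A7.c ^ 3))) by decide +kernel]
      simp only [mul_apply', h]
    · intro h
      rw [show A7.c ^ 3 = A7.c * (A7.c * A7.c) by decide +kernel]
      simp only [mul_apply', h]
  rw [e7, e7'] at s7
  have f7 : finrank K (Fix σ A7.c) = 0 := by omega
  have y7 := f21 (σ := σ) h3 h7 (c := A7.c) (y := A7.yc) (by decide +kernel) (by decide +kernel) (by decide +kernel)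
    (fun v hv => zero_of_finrank f7 (mem_Fix.2 hv))
  -- elements of order five
  obtain ⟨m5, hm5⟩ := eig hB (c := cc) (y := gg) (r := 5) (k := 2) h5' (by decide +kernel) (by decide +kernel) A7.res5
  have s5 := scott_sub (σ := σ) hB (x := xa) (y := ya) (nf_a hI (by omega))
  have q1 : finrank K (Fix σ xa) = finrank K (Fix σ A7.z) := fix_conj (k := e2 1 5 3 4) (by decide +kernel)
  have q2 : finrank K (Fix σ ya) = finrank K (Fix σ cc) := fix_conj (k := e2 1 2 1 5 * e2 2 3 2 4) (by decide +kernel)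
  have q3 : finrank K (Fix σ (xa * ya)) = finrank K (Fix σ cc) :=
    fix_conj (k := e2 0 1 1 2 * e2 1 3 2 5) (by decide +kernel)
  have f5 : finrank K (Fix σ cc) = 0 := by (clear * - hV z1 hm5 s5 q1 q2 q3; omega)
  -- elements of order three
  obtain ⟨m3, hm3⟩ := eig hB (c := A7.p1) (y := A7.t1) (r := 3) (k := 2) h3' (by decide +kernel) (by decide +kernel) res3
  have e9 := nine' (σ := σ) h3 (x := A7.p1) (y := A7.p2) (by decide +kernel) (by decide +kernel) (by decide +kernel)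
  have r1 : finrank K (Fix σ A7.p2) = finrank K (Fix σ A7.p1) :=
    fix_conj (k := e2 0 3 1 4 * e2 4 2 2 5) (by decide +kernel)
  have r2 : finrank K (Fix σ (A7.p1 * A7.p2)) = finrank K (Fix σ A7.x) := by
    rw [show A7.p1 * A7.p2 = A7.x by decide +kernel]
  have r3 : finrank K (Fix σ (A7.p1 * A7.p1 * A7.p2)) = finrank K (Fix σ A7.x) :=
    fix_conj (k := e2 0 3 1 4 * e2 4 2 2 5) (by decide +kernel)
  have r4 : finrank K (Fix σ A7.yc) = finrank K (Fix σ A7.x) := fix_conj (k := e2 0 1 0 3 * e2 1 6 2 5) (by decide +kernel)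
  have s3 := scott_sub (σ := σ) hB (x := xc) (y := yc) (nf_c hI (by omega))
  have r5 : finrank K (Fix σ xc) = finrank K (Fix σ A7.p1) := fix_conj (k := e2 0 3 1 4) (by decide +kernel)
  have r6 : finrank K (Fix σ yc) = finrank K (Fix σ A7.x) := fix_conj (k := e2 0 3 2 5) (by decide +kernel)
  have z4 := le_four (σ := σ) (c := xc * yc) (by decide +kernel)
  have t1 : finrank K (Fix σ A7.p1) = 2 := by (clear * - hV y7 hm3 e9 r1 r2 r3 r4 s3 r5 r6 z4; omega)
  have t9 : finrank K (_root_.Cfsg.Agent.H637.JW.Fix σ A7.p1 ⊓ _root_.Cfsg.Agent.H637.JW.Fix σ A7.p2 : Submodule K V) = 0 := by (clear * - hV y7 e9 r1 r2 r3 r4 t1; omega)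
  have tc : finrank K (Fix σ c0) = 2 := by
    rw [← t1]
    exact fix_conj (k := e2 0 3 0 4 * e2 1 5 2 6) (by decide +kernel)
  -- pairs of commuting three-cycles
  have P9 : ∀ v, σ A7.p1 v = v → σ A7.p2 v = v → v = 0 := fun v h1 h2 =>
    zero_of_finrank t9 ⟨mem_Fix.2 h1, mem_Fix.2 h2⟩
  have P9' : ∀ {x y k : A}, A7.p1 * k = k * x → A7.p2 * k = k * (y * y) → ∀ v, σ x v = v → σ y v = v → v = 0 := by
    intro x y k e1 e2 v h1 h2
    have h3 := P9 (σ k v) (by rw [← mul_apply', e1, mul_apply', h1]) (by rw [← mul_apply', e2, mul_apply', mul_apply', h2, h2])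
    exact injective (σ := σ) k (h3.trans (map_zero _).symm)
  obtain ⟨v0, hv0, S⟩ := exists_stab (σ := σ) h2 (fun h => by
    rw [h, finrank_bot] at tc
    exact absurd tc (by norm_num))
  refine S.false hv0 h2 (uniq tc ?_ hv0 S.c S.h) ?_ ?_ P9 ?_
  · exact P9' (k := e2 3 4 3 6) (by decide +kernel) (by decide +kernel)
  · exact fun v hv => zero_of_finrank f5 (mem_Fix.2 hv)
  · have : finrank K (Fix σ A7T.q2) = finrank K (Fix σ cc) := fix_conj (k := e2 3 4 5 6) (by decide +kernel)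
    rw [f5] at this
    exact fun v hv => zero_of_finrank this (mem_Fix.2 hv)
  · exact P9' (k := e2 2 6 4 5) (by decide +kernel) (by decide +kernel)

end Cfsg.Agent.H906.A7T
end

-- part: H906/A7Twelve
section
/-!
# `A₇` in degree twelve, trivial scalars, every characteristic
-/

set_option autoImplicit false
set_option linter.unusedSectionVars false

namespace Cfsg.Agent.H906.A7T

open Module Matrix Cfsg Cfsg.Geo Cfsg.Agent.H637.JW Cfsg.Agent.H915.LD Cfsg.Agent.H882.Sc

universe u v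

variable {ι : Type} [Fintype ι] [DecidableEq ι] {F : Type u} [Field F] {P : Subgroup (GL ι F)} {T : Type v} [Group T]

/-- the matrix of an invariant form of a self-dual core -/
theorem exists_matrix_sd (hC : Core P) (h : SD P) : ∃ M : Matrix ι ι F, M.det ≠ 0 ∧
    ∀ g ∈ P, (g : Matrix ι ι F)ᵀ * M * (g : Matrix ι ι F) = M := by
  have hne := hC.nonempty
  obtain ⟨f, hf, hnd, hfix, -⟩ := H906.exists_bilinear_of_trace hC.absIrred h
  have hfix' : ∀ g ∈ P, ∀ v w, f ((g : Matrix ι ι F) *ᵥ v) ((g : Matrix ι ι F) *ᵥ w) = f v w :=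
    fun g hg => hfix _ ⟨g, hg, rfl⟩
  let B : (ι → F) →ₗ[F] (ι → F) →ₗ[F] F := LinearMap.mk₂ F f hf.add_left (fun c x y => hf.smul_left c x y)
    (fun x y z => hf.add_right x y z) (fun c x y => hf.smul_right c x y)
  have hB : ∀ a b, B a b = f a b := fun a b => rfl
  set M : Matrix ι ι F := LinearMap.toMatrix₂' F B with hM
  have hf' : ∀ a b, f a b = a ⬝ᵥ M *ᵥ b := by
    intro a b
    rw [← Matrix.toLinearMap₂'_apply', hM, Matrix.toLinearMap₂'_toMatrix', hB]
  refine ⟨M, ?_, ?_⟩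
  · intro h0
    obtain ⟨v, hv, hv0⟩ := Matrix.exists_mulVec_eq_zero_iff.2 h0
    obtain ⟨⟨x, hx⟩, -⟩ := hnd v hv
    apply hx
    rw [hf', hv0, dotProduct_zero]
  · intro g hg
    have h1 : B.compl₁₂ (Matrix.toLin' (g : Matrix ι ι F)) (Matrix.toLin' (g : Matrix ι ι F)) = B := by
      apply LinearMap.ext₂
      intro a b
      rw [LinearMap.compl₁₂_apply, hB, hB, Matrix.toLin'_apply, Matrix.toLin'_apply]
      exact hfix' g hg a b
    have h2 := LinearMap.toMatrix₂'_compl₁₂ (R := F) B (Matrix.toLin' (g : Matrix ι ι F))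
      (Matrix.toLin' (g : Matrix ι ι F))
    rw [h1, LinearMap.toMatrix'_toLin'] at h2
    exact h2.symm

/-- the form over the algebraic closure -/
theorem form_of_sd (hC : Core P) (h : SD P) (e : P ≃* T) :
    ∃ B : (ι → AlgebraicClosure F) →ₗ[AlgebraicClosure F] (ι → AlgebraicClosure F) →ₗ[AlgebraicClosure F]
      AlgebraicClosure F, Form (H879.TL.repOf e) B := by
  obtain ⟨M, hM, hinv⟩ := exists_matrix_sd hC h
  set K := AlgebraicClosure F
  set N : Matrix ι ι K := M.map (algebraMap F K) with hN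
  have hdet : N.det ≠ 0 := by
    rw [hN, ← RingHom.mapMatrix_apply, ← RingHom.map_det]
    exact fun h0 => hM ((algebraMap F K).injective (h0.trans (map_zero _).symm))
  refine ⟨Matrix.toLinearMap₂' K N.transpose, ?_, ?_⟩
  · intro g v w
    obtain ⟨g, rfl⟩ := e.surjective g
    rw [H879.TL.repOf_apply, H879.TL.clo_apply, H879.TL.clo_apply, Matrix.toLinearMap₂'_apply',
      Matrix.toLinearMap₂'_apply']
    have h1 := congrArg (fun A : Matrix ι ι F => A.map (algebraMap F K)) (hinv g g.2)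
    simp only [Matrix.map_mul, Matrix.transpose_map] at h1
    set A : Matrix ι ι K := ((g : GL ι F) : Matrix ι ι F).map (algebraMap F K) with hA
    have h3 : Aᵀ * Nᵀ * A = Nᵀ := by
      have := congrArg Matrix.transpose h1
      rw [Matrix.transpose_mul, Matrix.transpose_mul, Matrix.transpose_transpose, ← Matrix.mul_assoc] at this
      exact this
    have h4 : v ⬝ᵥ ((Aᵀ * Nᵀ * A) *ᵥ w) = (A *ᵥ v) ⬝ᵥ (Nᵀ *ᵥ (A *ᵥ w)) := by
      rw [← Matrix.mulVec_mulVec, ← Matrix.mulVec_mulVec, Matrix.dotProduct_mulVec v Aᵀ, Matrix.vecMul_transpose]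
    rw [← h4, h3]
  · intro v hv
    by_contra hv0
    have h1 : v ᵥ* Nᵀ = 0 := by
      funext j
      have := hv (Pi.single j 1)
      rw [Matrix.toLinearMap₂'_apply', Matrix.dotProduct_mulVec] at this
      simpa only [_root_.Pi.zero_apply, _root_.dotProduct_single, _root_.mul_one] using this
    rw [Matrix.vecMul_transpose] at h1
    exact hdet (Matrix.exists_mulVec_eq_zero_iff.1 ⟨v, hv0, h1⟩)

/-- **`A₇` in degree twelve.** Trivial scalars, self-dual, every characteristic. -/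
theorem a7_sd_simple (hC : Core P) (hsd : SD P) (hn : Fintype.card ι = 12) (e : Soc P ≃* alternatingGroup (Fin 7))
    (hbot : (scalars ι F).subgroupOf P = ⊥) : False := by
  let e' := (H879.TL.socEquiv hbot).trans e
  obtain ⟨B, hB⟩ := form_of_sd hC hsd e'
  have hI := irr_of_core hC e'
  have hV : finrank (AlgebraicClosure F) (ι → AlgebraicClosure F) = 12 := H879.TL.finrank_clo.trans hn
  by_cases h2 : (2 : AlgebraicClosure F) = 0
  · exact twelve_two h2 hI hB hV
  · exact twelve_odd h2 hI hB hV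

/-- **`A₇` in degree twelve.** Trivial scalars, every characteristic. -/
theorem a7_simple [Finite F] (p : ℕ) [hp : Fact p.Prime] [CharP F p] (hC : Core P) (hn : Fintype.card ι = 12)
    (e : Soc P ≃* alternatingGroup (Fin 7)) (hbot : (scalars ι F).subgroupOf P = ⊥) : False := by
  rcases H637.A7Main.le_two p hC e (fun g hg hs => by
    have h1 : (⟨g, hg⟩ : P) ∈ (scalars ι F).subgroupOf P := hs
    rw [hbot, Subgroup.mem_bot] at h1
    have h2 : g = 1 := congrArg Subtype.val h1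
    rw [h2, one_mul]) with h | ⟨h | h, -⟩
  · exact a7_sd_simple hC h hn e hbot
  · omega
  · omega

end Cfsg.Agent.H906.A7T
end

-- part: H114/O12/MTwo
section
/-!
# The Mathieu group of degree 22 has no core of dimension 12 in odd characteristic (helper114)

Wrapper around `H13.M22.twelve_false` (helper13).
-/

set_option autoImplicit false
set_option linter.unusedSectionVars false

namespace Cfsg.Agent.H114.O12

open Cfsg Cfsg.Geo Matrix Module Cfsg.Agent.H915.LD
open Cfsg.Agent.H911.Five (rep rep_irr trace_rep rep_injective)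

universe u

variable {ι : Type} [Fintype ι] [DecidableEq ι] {F : Type u} [Field F] [Finite F] {P : Subgroup (GL ι F)}

/-- **The Mathieu group of degree 22.** -/
theorem m22_twelve (hC : Core P) (p : ℕ) [hp : Fact p.Prime] [CharP F p] (hp2 : p ≠ 2) (h : Spor.IsoM22 (Soc P))
    (hn : Fintype.card ι = 12) : False := by
  obtain ⟨e⟩ := h
  have : Finite P := inferInstance
  have hcl : CharP (AlgebraicClosure F) p := charP_of_injective_algebraMap (algebraMap F _).injective p
  have h2 : (2 : AlgebraicClosure F) ≠ 0 := by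
    intro h0
    have h1 : ((2 : ℕ) : AlgebraicClosure F) = 0 := by exact_mod_cast h0
    rw [CharP.cast_eq_zero_iff _ p, Nat.prime_dvd_prime_iff_eq hp.out Nat.prime_two] at h1
    exact hp2 h1
  refine H13.M22.twelve_false (φ := H921.M22.ph e) (ρ := rep P) ⟨H921.M22.ph_surj e, H921.M22.ph_cen e, ?_, ?_, ?_⟩ h2
    (by rw [Module.finrank_fintype_fun_eq_card, hn])
  · exact (H921.M22.dat e hC).scal
  · exact rep_injective P
  · rw [ker_comp e]
    intro h0
    rw [CharP.cast_eq_zero_iff _ p] at h0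
    exact H937.T2.not_dvd_scalars_char p h0

end Cfsg.Agent.H114.O12
end

-- part: H922/Own12
section
/-!
# Dimension 12, own characteristic (helper922)

`P ≤ GL(ι, F)` a core, `|ι| = 12`, `P / scalars` simple of Lie type in characteristic `p = char F`.

* `OwnList p P` : the list;
* **`own_twelve`**.
-/

set_option autoImplicit false
set_option linter.unusedSectionVars false

namespace Cfsg.Agent.H922.Own

open Matrix Cfsg Cfsg.Geo Cfsg.Agent.H915.LD Cfsg.Agent.H925.Nat

universe u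

section

variable {F : Type u} [Field F] [Finite F] {ι : Type} [Fintype ι] [DecidableEq ι]

/-- the list -/
def OwnList (p : ℕ) (P : Subgroup (GL ι F)) : Prop :=
  (∃ (K : Type) (_ : Field K) (_ : Fintype K) (_ : CharP K p), 4 ≤ Nat.card K ∧
    Nonempty (Soc P ≃* Matrix.ProjectiveSpecialLinearGroup (Fin 2) K)) ∨
  (∃ (K : Type) (_ : Field K) (_ : Fintype K) (_ : CharP K p),
    Nonempty (Soc P ≃* Matrix.ProjectiveSpecialLinearGroup (Fin 12) K)) ∨
  (∃ (K : Type) (_ : Field K) (_ : Fintype K) (_ : CharP K p) (q : ℕ), Fintype.card K = q ^ 2 ∧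
    Nonempty (Soc P ≃* PSU 12 K q)) ∨
  (p = 5 ∧ SD P ∧ FixA P ∧ ¬ FixQ P ∧ ∃ (K : Type) (_ : Field K) (_ : Fintype K) (_ : CharP K p),
    Nat.card F = Nat.card K ∧ Nonempty (Soc P ≃* PSp 2 K)) ∨
  CjOf (spGL 6 F) P ∨ CjOf (omegaGL (quadFormPlus 6 F)) P ∨
  ∃ a b : F, (∀ z₁ z₂ : F, z₁ ^ 2 + a * z₁ * z₂ + b * z₂ ^ 2 = 0 → z₁ = 0 ∧ z₂ = 0) ∧
    CjOf (omegaGL (quadFormMinus 5 F a b)) P

/-- **Dimension 12, own characteristic.** -/
theorem own_twelve {p : ℕ} [hp : Fact p.Prime] [CharP F p] {P : Subgroup (GL ι F)} (hC : Core P)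
    (hn : Fintype.card ι = 12) (hL : IsLieTypeChar p (Soc P)) : OwnList p P := by
  have hsimp : IsSimpleGroup (P ⧸ (scalars ι F).subgroupOf P) := hC.simple
  have h1 := H905.Md.small_dc (p := p) hC.absIrred.1 hC.perfect hL hn.le
  rw [hn] at h1
  rcases h1 with h | h | h | h | h | h | h | h | h | h | h
  · -- linear groups
    obtain ⟨K, iK, iKf, iKp, l, hl, hl4, ⟨e⟩⟩ := h
    rcases (show l = 1 ∨ (2 ≤ l ∧ l + 1 < 12) ∨ 12 ≤ l + 1 by omega) with rfl | ⟨hl2, hl12⟩ | hl12
    · exact Or.inl ⟨K, iK, iKf, iKp, hl4 rfl, ⟨e⟩⟩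
    · exact (H887.DS.not_twelve p hC (by omega) hl12 hn e).elim
    · have h2 := H905.Md.psl_rank p hC.absIrred hC.perfect hl hl4 e
      obtain rfl : l = 11 := by omega
      exact Or.inr (Or.inl ⟨K, iK, iKf, iKp, ⟨e⟩⟩)
  · -- symplectic groups
    obtain ⟨K, iK, iKf, iKp, m, hm, hm2, hK3, ⟨e⟩⟩ := h
    rcases (show m = 2 ∨ m = 3 ∨ (4 ≤ m ∧ m ≤ 6) by omega) with rfl | rfl | ⟨hm4, hm6⟩
    · have hK3' : 3 ≤ Nat.card K := by rw [Nat.card_eq_fintype_card]; exact hK3 rfl
      obtain ⟨hsd, hFK, h2⟩ := H905.Sp4.core_psp4 p hC hK3' e hn.le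
      rcases h2 with ⟨h2, -⟩ | ⟨-, h2, -⟩ | ⟨-, h2, -⟩ | ⟨hp5, -, hA, hQ⟩
      · omega
      · omega
      · omega
      · exact Or.inr (Or.inr (Or.inr (Or.inl ⟨hp5, hsd, hA, hQ, K, iK, iKf, iKp, hFK, ⟨e⟩⟩)))
    · exact (H924.D5.psp6_big p hC hn.le (by omega) e).elim
    · obtain ⟨-, h2⟩ := psp hC hn.le hm4 hm6 e
      have h3 := h2.card_eq
      rw [hn, Fintype.card_sum, Fintype.card_fin] at h3
      obtain rfl : m = 6 := by omega
      exact Or.inr (Or.inr (Or.inr (Or.inr (Or.inl h2))))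
  · -- unitary groups
    obtain ⟨K, iK, iKf, iKp, N, q, hK, hN, hN2, h32, ⟨e⟩⟩ := h
    rcases (show N = 3 ∨ 4 ≤ N by omega) with rfl | hN4
    · have hq3 : 3 ≤ q := by
        have h2 := H48.NatSU.two_le_of_sq hK
        by_contra hlt
        exact h32 ⟨rfl, by omega⟩
      rcases H929.U3.core_psu3 p hC hq3 hK e hn.le with hsd | ⟨-, h2 | ⟨h2, -⟩ | ⟨h2, -⟩ | ⟨h2, -⟩⟩
      · have h2 := H929.U3.core_psu3_sd p hC hq3 hK e hn.le hsd
        omega
      · omega
      · omega
      · omega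
      · omega
    · have h2 := H876.D3.core_psu p K hN4 hn.le hK hC e
      obtain rfl : N = 12 := by omega
      exact Or.inr (Or.inr (Or.inl ⟨K, iK, iKf, iKp, q, hK, ⟨e⟩⟩))
  · -- Suzuki groups
    obtain ⟨rfl, K, iK, iKf, m, hm, hK, ⟨e⟩⟩ := h
    exact (H861.SzN.sz_false hC hm hK e (by omega) (by omega)).elim
  · -- Ree groups
    obtain ⟨rfl, h⟩ := h
    obtain ⟨K, iK, iKf, m, hm, hK, ⟨e⟩⟩ := h
    have h2 := H708.ReeSix.ree_eq_seven hC hm hK e (by omega)
    omega
  · -- odd orthogonal groups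
    obtain ⟨K, iK, iKf, iKp, m, hm, hm2, hodd, ⟨e⟩⟩ := h
    have h2K : (2 : K) ≠ 0 := by
      intro h0
      have h3 : CharP K 2 := CharTwo.of_one_ne_zero_of_two_eq_zero one_ne_zero h0
      obtain ⟨k, -, hk⟩ := FiniteField.card K 2
      rw [hk] at hodd
      exact absurd hodd (by
        rw [Nat.not_odd_iff_even]
        exact (even_two).pow_of_ne_zero k.ne_zero)
    rcases (show m = 3 ∨ (4 ≤ m ∧ m ≤ 6) by omega) with rfl | ⟨hm4, hm6⟩
    · exact (H924.D5.po7_big p hC hn.le (by omega) h2K e).elim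
    · obtain ⟨-, h2⟩ := po_odd hC hn.le hm4 hm6 h2K e
      have h3 := h2.card_eq
      rw [hn, Fintype.card_sum, Fintype.card_sum, Fintype.card_fin, Fintype.card_unit] at h3
      omega
  · -- orthogonal groups of plus type
    obtain ⟨K, iK, iKf, iKp, m, hm, hm2, ⟨e⟩⟩ := h
    rcases (show m = 4 ∨ (5 ≤ m ∧ m ≤ 6) by omega) with rfl | ⟨hm4, hm6⟩
    · have h2 := H924.D5.po8plus_card p hC hn.le e
      omega
    · obtain ⟨-, h2⟩ := po_plus hC hn.le hm4 hm6 e
      have h3 := h2.card_eq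
      rw [hn, Fintype.card_sum, Fintype.card_fin] at h3
      obtain rfl : m = 6 := by omega
      exact Or.inr (Or.inr (Or.inr (Or.inr (Or.inr (Or.inl h2)))))
  · -- orthogonal groups of minus type
    obtain ⟨K, iK, iKf, iKp, m, a, b, hm, hm2, hab, ⟨e⟩⟩ := h
    rcases (show m = 4 ∨ (4 ≤ m - 1 ∧ m - 1 ≤ 6) by omega) with rfl | ⟨hm4, hm6⟩
    · have h2 := H924.D5.po8minus_card p hC hn.le hab e
      omega
    · obtain ⟨τ, h2⟩ := po_minus hC hn.le hm4 hm6 hab e
      have h3 := h2.card_eq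
      rw [hn, Fintype.card_sum, Fintype.card_sum, Fintype.card_fin, Fintype.card_fin] at h3
      obtain rfl : m = 6 := by omega
      refine Or.inr (Or.inr (Or.inr (Or.inr (Or.inr (Or.inr ⟨τ a, τ b, fun z₁ z₂ hz => ?_, h2⟩)))))
      have h4 := hab (τ.symm z₁) (τ.symm z₂) (by
        apply τ.injective
        simpa only [_root_.map_add, _root_.map_pow, _root_.RingEquiv.apply_symm_apply, _root_.map_mul, _root_.map_zero] using hz)
      exact ⟨by simpa using h4.1, by simpa using h4.2⟩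
  · obtain ⟨-, K, iK, iKf, iKp, hK3, ⟨e⟩⟩ := h
    have h2 := (H927.G2.core_g2 (K := K) p hC (by rw [Nat.card_eq_fintype_card]; exact hK3) e hn.le).2.2.2.2
    omega
  · obtain ⟨-, K, iK, iKf, iKp, q, hq, hK, ⟨e⟩⟩ := h
    have h2 := (H392.TD.d4_small p hC hq hK e hn.le).1
    omega
  · obtain ⟨-, hp2, h⟩ := h
    have := H927.LDTwF4.card_le_iso hp2 hC.perfect h
    omega

end

end Cfsg.Agent.H922.Own
end

-- part: H922/OwnPSU
section
/-!
# `PSU_m(q)`, `m ≥ 7`, defining characteristic, self-dual, dimension at most 13: impossible (helper922)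

As in `H879.Nine.own_psu`, with a primitive prime divisor of `p^{14 b} - 1`.
-/

set_option autoImplicit false
set_option linter.unusedSectionVars false

namespace Cfsg.Agent.H922.Own

open Matrix Cfsg Cfsg.Geo Cfsg.Agent.H915.LD Cfsg.Agent.H48.NatSU Cfsg.Agent.H879.Nine

universe u v

variable {F : Type u} [Field F] [Fintype F] {ι : Type} [Fintype ι] [DecidableEq ι]

theorem card_GL_reindex : Nat.card (GL ι F) = Nat.card (GL (Fin (Fintype.card ι)) F) :=
  Nat.card_congr (Units.mapEquiv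
    (Matrix.reindexRingEquiv F (Fintype.equivFin ι)).toMulEquiv).toEquiv

theorem own_psu_seven {p : ℕ} [hp : Fact p.Prime] [CharP F p] {P : Subgroup (GL ι F)} (hn : Fintype.card ι ≤ 13)
    (hC : Core P) (hsd : SD P) {K : Type} [Field K] [Fintype K] [CharP K p] {m q : ℕ} (hm : 7 ≤ m)
    (hK : Fintype.card K = q ^ 2) (e : Soc P ≃* PSU m K q) : False := by
  have hcj := psu_cj hC p hK (by omega) (by omega) e
  obtain ⟨p', b, hp', hch, hq, hb⟩ := LieClassical.HermBasic.exists_prime_pow hK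
  obtain rfl : p' = p := CharP.eq K hch ‹_›
  have hfr : Fr P (p' ^ b) := by rw [← hq]; exact Fr.of_sd_cj hsd hcj
  obtain ⟨f, hf, hF⟩ := FiniteField.card F p'
  -- `f ≤ b`
  have hfb : (f : ℕ) ≤ b := by
    have h1 := hC.card_le p' hb.ne' hfr
    rw [hF] at h1
    exact (Nat.pow_le_pow_iff_right hp'.one_lt).1 h1
  obtain ⟨r, hr, ho⟩ := Cfsg.Agent.Lib.Zsigmondy.exists_prime_orderOf (a := p') (n := 14 * b) hp'.two_le (by omega)
    (fun h => by omega) (fun h => by omega)
  have := Fact.mk hr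
  have hrp : ¬ r ∣ p' := by
    intro h
    have h1 : (p' : ZMod r) = 0 := (ZMod.natCast_eq_zero_iff _ _).2 h
    rw [h1, orderOf_zero] at ho
    omega
  have h1 : ¬ r ∣ Nat.card (GL ι F) := by
    rw [card_GL_reindex]
    exact not_dvd_card_GL hr ho hrp f.pos hF (by
      calc (f : ℕ) * Fintype.card ι ≤ b * 13 := Nat.mul_le_mul hfb hn
        _ < 14 * b := by omega)
  apply h1
  obtain ⟨φ, hφ, hk, -⟩ := psu_cover p' hK (by omega) (by omega) hC.perfect e
  have hfin : Finite (SU m K q) := inferInstance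
  have h2 : Nat.card (SU m K q) = Nat.card φ.ker * Nat.card P := by
    rw [Subgroup.card_eq_card_quotient_mul_card_subgroup φ.ker,
      Nat.card_congr (QuotientGroup.quotientKerEquivRange φ).toEquiv, hφ, mul_comm]
  have hq2 : 2 ≤ q := two_le_of_sq hK
  -- orders
  have hord : ∀ k, r ∣ p' ^ k - 1 → 14 * b ∣ k := by
    intro k hk
    have h3 : ((p' ^ k - 1 : ℕ) : ZMod r) = 0 := (ZMod.natCast_eq_zero_iff _ _).2 hk
    rw [Nat.cast_sub (Nat.one_le_pow _ _ hp'.pos), sub_eq_zero] at h3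
    push_cast at h3
    have h4 := orderOf_dvd_of_pow_eq_one h3
    rwa [ho] at h4
  have h10 : r ∣ q ^ 14 - 1 := by
    have h3 : (p' : ZMod r) ^ (14 * b) = 1 := by rw [← ho]; exact pow_orderOf_eq_one _
    have h4 : ((p' ^ (14 * b) - 1 : ℕ) : ZMod r) = 0 := by
      rw [Nat.cast_sub (Nat.one_le_pow _ _ hp'.pos), sub_eq_zero]
      push_cast
      exact h3
    have h5 := (ZMod.natCast_eq_zero_iff _ _).1 h4
    rw [hq, ← pow_mul, mul_comm b 14]
    exact h5
  have h5 : r ∣ q ^ 7 + 1 := by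
    have h3 : q ^ 14 - 1 = (q ^ 7 + 1) * (q ^ 7 - 1) := by
      have h4 := Nat.sq_sub_sq (q ^ 7) 1
      rw [← pow_mul, one_pow] at h4
      exact h4
    rw [h3, hr.dvd_mul] at h10
    rcases h10 with h10 | h10
    · exact h10
    · exfalso
      rw [hq, ← pow_mul] at h10
      have := Nat.le_of_dvd (by omega) (hord _ h10)
      omega
  have hkc : ¬ r ∣ Nat.card φ.ker := by
    intro hd
    have h4 : Nat.card φ.ker ∣ q + 1 := by
      refine (Subgroup.card_dvd_of_le hk).trans ?_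
      rw [Cfsg.Agent.S0279.result hK m (by omega)]
      exact Nat.gcd_dvd_right _ _
    have h6 : r ∣ q ^ 2 - 1 := by
      have h7 := Nat.sq_sub_sq q 1
      rw [one_pow] at h7
      rw [h7]
      exact (hd.trans h4).mul_right _
    rw [hq, ← pow_mul] at h6
    have := Nat.le_of_dvd (by omega) (hord _ h6)
    omega
  have h6 : r ∣ Nat.card (SU m K q) := H948.UProd.dvd_card_SU hK (i := 6) (by omega) (by omega) (by
    unfold H948.UProd.ph
    rw [if_pos (by decide)]
    exact h5)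
  rw [h2, hr.dvd_mul] at h6
  exact (h6.resolve_left hkc).trans (Subgroup.card_subgroup_dvd_card P)

end Cfsg.Agent.H922.Own
end

-- part: H922/Own12Rows
section
/-!
# Dimension 12, own characteristic: the rows (helper922)

* `own_nsd` : `¬ SD P`: `SL₁₂(F)` or `PSU₁₂`;
* `own_sp` : S5869;
* `dc_false` : S5872, S5875.
-/

set_option autoImplicit false
set_option linter.unusedSectionVars false

namespace Cfsg.Agent.H922.Own

open Matrix Cfsg Cfsg.Geo Cfsg.Agent.H915.LD Cfsg.Agent.H925.Nat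

universe u

variable {F : Type u} [Field F]

theorem nd_plus (m : ℕ) (F : Type*) [Field F] : IsNondegenerateQuadraticForm (quadFormPlus m F) := by
  rw [← LieClassical.OrthForms.coe_plusForm]
  exact H883.Bridge.isNondegenerateQuadraticForm (LieClassical.OrthForms.nondeg_plusForm m F)

theorem nd_minus (m : ℕ) (F : Type*) [Field F] [Finite F] (a b : F)
    (hab : ∀ z₁ z₂ : F, z₁ ^ 2 + a * z₁ * z₂ + b * z₂ ^ 2 = 0 → z₁ = 0 ∧ z₂ = 0) :
    IsNondegenerateQuadraticForm (quadFormMinus m F a b) := by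
  rw [← LieClassical.OrthForms.coe_minusForm]
  exact H883.Bridge.isNondegenerateQuadraticForm (LieClassical.OrthForms.nondeg_minusForm m F a b hab)

/-- `SL_n(F)`, `n ≥ 3`, fixes no alternating form -/
theorem not_fixA_sl {n : ℕ} (hn : 3 ≤ n) : ¬ FixA (specialLinear (Fin n) F) := by
  rintro ⟨f, hf, hP⟩
  let i : Fin n := ⟨0, by omega⟩
  have key : ∀ j : Fin n, j ≠ i → ∀ v w : Fin n → F, w j * f v (Pi.single i 1) + v j * f (Pi.single i 1) w = 0 := by
    intro j hj v w
    let g : GL (Fin n) F := Matrix.GeneralLinearGroup.mkOfDetNeZero (1 + Matrix.single i j 1) (by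
      rw [← Matrix.transvection, Matrix.det_transvection_of_ne i j hj.symm]
      exact one_ne_zero)
    have hg : g ∈ specialLinear (Fin n) F := by
      change Matrix.GeneralLinearGroup.det g = 1
      apply Units.ext
      change (1 + Matrix.single i j (1 : F)).det = 1
      rw [← Matrix.transvection, Matrix.det_transvection_of_ne i j hj.symm]
    have h1 := hP _ ⟨g, hg, rfl⟩ v w
    have h2 : ∀ v, (g : Matrix (Fin n) (Fin n) F) *ᵥ v = v + v j • Pi.single i 1 := by
      intro v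
      change (1 + Matrix.single i j (1 : F)) *ᵥ v = _
      rw [Matrix.add_mulVec, Matrix.one_mulVec]
      congr 1
      ext k
      by_cases hk : k = i
      · subst hk
        rw [Matrix.single_mulVec]
        simp
      · simp [hk, Matrix.single_mulVec]
    simp only [h2] at h1
    rw [hf.bilinear.add_left, hf.bilinear.add_right, hf.bilinear.add_right, hf.bilinear.smul_left,
      hf.bilinear.smul_right, hf.bilinear.smul_left, hf.bilinear.smul_right, hf.alternating] at h1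
    linear_combination h1
  have hne : (Pi.single i 1 : Fin n → F) ≠ 0 := by
    intro h0
    have := congrFun h0 i
    rw [Pi.single_eq_same] at this
    exact one_ne_zero this
  obtain ⟨⟨x, hx⟩, -⟩ := hf.nondegenerate _ hne
  apply hx
  have h0 : ∀ j : Fin n, j ≠ i → ∀ v : Fin n → F, v j = 0 → f v (Pi.single i 1) = 0 := by
    intro j hj v hv
    have h1 := key j hj v (Pi.single j 1)
    rw [hv, zero_mul, add_zero, Pi.single_eq_same, one_mul] at h1
    exact h1
  let j1 : Fin n := ⟨1, by omega⟩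
  let j2 : Fin n := ⟨2, by omega⟩
  have h1 : f (Pi.single j1 1) (Pi.single i 1) = 0 :=
    h0 j2 (by simp [j2, i]) _ (by rw [Pi.single_eq_of_ne (by simp [j1, j2])])
  have h2 : f (x - x j1 • Pi.single j1 1) (Pi.single i 1) = 0 :=
    h0 j1 (by simp [j1, i]) _ (by simp)
  have h3 : x = (x - x j1 • Pi.single j1 1) + x j1 • Pi.single j1 1 := by rw [sub_add_cancel]
  rw [h3, hf.bilinear.add_left, hf.bilinear.smul_left, h1, h2, mul_zero, add_zero]

section

variable [Finite F] {ι : Type} [Fintype ι] [DecidableEq ι] {P : Subgroup (GL ι F)} {p : ℕ} [hp : Fact p.Prime]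
  [CharP F p]

include hp in
theorem psl_twelve (hC : Core P) (hn : Fintype.card ι = 12) {K : Type} [Field K] [Fintype K] [CharP K p]
    (e : Soc P ≃* Matrix.ProjectiveSpecialLinearGroup (Fin 12) K) :
    H912.Rx.re (Fintype.equivFinOfCardEq hn) P = specialLinear (Fin 12) F := by
  have hC' := H912.Rx.core_re (Fintype.equivFinOfCardEq hn) hC
  exact (H905.Md.psl_eq (l := 11) p hC'.absIrred hC'.perfect (by norm_num) (by norm_num)
    ((H912.Rx.socEquiv (Fintype.equivFinOfCardEq hn)).symm.trans e) hC'.no_subfield rfl).2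

/-- a core of type `PSL₁₂` fixes no form -/
theorem psl_not_sd (hC : Core P) (hn : Fintype.card ι = 12) {K : Type} [Field K] [Fintype K] [CharP K p]
    (e : Soc P ≃* Matrix.ProjectiveSpecialLinearGroup (Fin 12) K) (hsd : SD P) : False := by
  have h1 := psl_twelve (p := p) hC hn e
  rcases hC.forms_of_sd hsd with h | h
  · have h2 := H912.Rx.fixQ_re_of (Fintype.equivFinOfCardEq hn) h
    rw [h1] at h2
    exact H879.Nine.not_fixQ_sl (by norm_num) h2
  · have h2 := H912.Rx.fixA_re_of (Fintype.equivFinOfCardEq hn) h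
    rw [h1] at h2
    exact not_fixA_sl (by norm_num) h2

end

section rows

variable {ι : Type} [Fintype ι] [DecidableEq ι] {p : ℕ} [hp : Fact p.Prime] [CharP F p]

end rows

/-- **symplectic case** (S5869) -/
theorem own_sp [Fintype F] {p : ℕ} {H P : Subgroup (GL (Fin 6 ⊕ Fin 6) F)} (h : S12.Cx p H P)
    (hL : IsLieTypeChar p (Soc P)) : S12.Concl P p := by
  have := h.char
  have hp : Fact p.Prime := ⟨h.prime⟩
  have hn : Fintype.card (Fin 6 ⊕ Fin 6) = 12 := rfl
  rcases own_twelve h.core hn hL with ⟨K, iK, iKf, iKp, h4, ⟨e⟩⟩ | ⟨K, iK, iKf, iKp, ⟨e⟩⟩ |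
    ⟨K, iK, iKf, iKp, q, hK, ⟨e⟩⟩ | ⟨h5, -, -, -, K, iK, iKf, iKp, hFK, ⟨e⟩⟩ | h1 | h1 | ⟨a, b, hab, h1⟩
  · have h1 := H875.PslRows.sp_twelve p h.hH h.hc e
    exact Or.inr (Or.inr (Or.inr (Or.inr (Or.inr (Or.inr (Or.inr (Or.inl h1)))))))
  · exact (psl_not_sd (p := p) h.core hn e h.sd).elim
  · exact (own_psu_seven (p := p) (by rw [hn]; norm_num) h.core h.sd (by norm_num) hK e).elim
  · have h3 : 3 ≤ Nat.card K := by
      rw [Nat.card_eq_fintype_card]
      obtain ⟨k, -, hk⟩ := FiniteField.card K p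
      rw [hk, h5]
      calc 3 ≤ 5 ^ 1 := by norm_num
        _ ≤ 5 ^ (k : ℕ) := Nat.pow_le_pow_right (by norm_num) k.pos
    have h4 := H905.Sp4.psp4_equiv p h.core h3 e (by rw [hn])
    exact Or.inr (Or.inr (Or.inr (Or.inr (Or.inr (Or.inr (Or.inr (Or.inr ⟨h4, h5⟩)))))))
  · exact (CjOf.not_maximal_sp h.hc h1 h.hH).elim
  · exact (h.hQ (h1.fixQ (nd_plus 6 F))).elim
  · exact (h.hQ (h1.fixQ (nd_minus 5 F a b hab))).elim

/-- **orthogonal case** (S5872, S5875) -/
theorem dc_false [Finite F] {p : ℕ} {Q : (Fin 12 → F) → F} {H P : Subgroup (GL (Fin 12) F)}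
    (h : H114.O12.Cx p Q H P) (hL : IsLieTypeChar p (Soc P)) : False := by
  have := Fintype.ofFinite F
  have := h.char
  have hp : Fact p.Prime := ⟨h.prime⟩
  have hn : Fintype.card (Fin 12) = 12 := rfl
  rcases own_twelve h.core hn hL with ⟨K, iK, iKf, iKp, h4, ⟨e⟩⟩ | ⟨K, iK, iKf, iKp, ⟨e⟩⟩ |
    ⟨K, iK, iKf, iKp, q, hK, ⟨e⟩⟩ | ⟨-, -, -, h1, -⟩ | h1 | h1 | ⟨a, b, hab, h1⟩
  · exact H875.PslRows.omega_row p h.hQ (Or.inr hn) h.hH h.hc e
  · exact psl_not_sd (p := p) h.core hn e h.sd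
  · exact own_psu_seven (p := p) (by rw [hn]; norm_num) h.core h.sd (by norm_num) hK e
  · exact h1 h.fixQ
  · exact h1.sp_not_fixQ (by norm_num) h.fixQ
  · exact h1.not_maximal_omega h.hc (nd_plus 6 F) h.hQ h.hH
  · exact h1.not_maximal_omega h.hc (nd_minus 5 F a b hab) h.hQ h.hH

end Cfsg.Agent.H922.Own
end

private theorem dce_dd191d5b7a24 : _root_.True := by
  try have : _root_.True := by simp only [_root_.Cfsg.Agent.H906.A7T.wd.eq_1]
  exact _root_.True.intro
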