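import Mathlib
import Cfsg.Agent.H906.Cover_m3
import Cfsg.Agent.H908.CovFour
import Cfsg.Agent.H906.U3Def
import Cfsg.Agent.LieClassical.SLGen
import Cfsg.Agent.H906.ThreeByThree_m3
import Cfsg.Agent.S0243
import Cfsg.Agent.FastGrp
import Cfsg.Agent.Prune
set_option linter.all false

section
prune_inst 0x7fffb9fbbbfcfddfdfff7e7fa6decffdffbfbfffa4fff9cbffe061ff8bdf4b8ac9c56b8d0bea1afe1ef6c21410e87b43fdffda3fe86bfc7ffffd5ff45ffbff8ffdf7bd0851d68c340fbc0ff703f0778e7f3fffffffffffffffffffffffffffbeffbfffffffff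

-- part: H906/L34Main
section
prune_inst 0x500000000000000008000400000000002000340004000020800100000101000000000080000000000000000000000000000000100000000000080080000200080000000000000000000000000000000000000000000000000000
set_option linter.all false
open scoped Cfsg.Agent.FastGrp

-- part: H906/L34Lin
section
/-!
# Commuting families of 4×4 matrices with scalar squares
-/

set_option autoImplicit false

namespace Cfsg.Agent.H906.L34

open Module Module.End

section AlgClosed

variable {K V E : Type*} [Field K] [IsAlgClosed K] [AddCommGroup V] [Module K V] [FiniteDimensional K V]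

/-- In dimension four a commuting family of endomorphisms with scalar squares has at most eight members modulo
scalars. -/
theorem card_le_eight (h2 : (2 : K) ≠ 0) (hd : finrank K V = 4) [Fintype E] (y : E → Module.End K V)
    (hcomm : ∀ a b, y a * y b = y b * y a) (hsq : ∀ a, ∃ c : K, c ≠ 0 ∧ y a * y a = c • 1)
    (hinj : ∀ a b, (∃ d : K, y a = d • y b) → a = b) : Fintype.card E ≤ 8 := by
  classical
  choose c hc0 hc using hsq
  let wt : (E → K) → Submodule K V := fun χ => ⨅ a, (y a).eigenspace (χ a)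
  have mem_wt : ∀ (χ : E → K) (v : V), v ∈ wt χ ↔ ∀ a, y a v = χ a • v := by
    intro χ v
    change v ∈ ⨅ a, (y a).eigenspace (χ a) ↔ _
    rw [Submodule.mem_iInf]
    constructor
    · intro h a
      exact mem_eigenspace_iff.1 (h a)
    · intro h a
      exact mem_eigenspace_iff.2 (h a)
  have hss : ∀ a, (y a).IsSemisimple := by
    intro a
    apply isSemisimple_of_squarefree_aeval_eq_zero (p := Polynomial.X ^ 2 - Polynomial.C (c a))
    · apply Polynomial.Separable.squarefree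
      exact Polynomial.separable_X_pow_sub_C (c a) (by exact_mod_cast h2) (hc0 a)
    · rw [map_sub, map_pow, Polynomial.aeval_X, Polynomial.aeval_C, pow_two, hc]
      rw [Algebra.algebraMap_eq_smul_one, sub_self]
  have hwt : ∀ χ, wt χ = ⨅ a, (y a).maxGenEigenspace (χ a) := by
    intro χ
    change ⨅ a, (y a).eigenspace (χ a) = _
    congr 1
    funext a
    exact ((hss a).isFinitelySemisimple.maxGenEigenspace_eq_eigenspace _).symm
  have htop : ⨆ χ : E → K, wt χ = ⊤ := by
    simp only [hwt]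
    apply iSup_iInf_maxGenEigenspace_eq_top_of_iSup_maxGenEigenspace_eq_top_of_commute
    · intro a b _
      exact hcomm a b
    · intro a
      exact iSup_maxGenEigenspace_eq_top _
  have hind : iSupIndep (fun χ : E → K => wt χ) := by
    simp only [hwt]
    apply independent_iInf_maxGenEigenspace_of_forall_mapsTo
    intro a b φ
    apply mapsTo_maxGenEigenspace_of_comm
    exact hcomm b a
  let Λ := {χ : E → K // wt χ ≠ ⊥}
  have hfin : Finite Λ := (WellFoundedGT.finite_ne_bot_of_iSupIndep hind).to_subtype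
  have : Fintype Λ := Fintype.ofFinite Λ
  have hcard : Fintype.card Λ ≤ 4 := by
    have := hind.subtype_ne_bot_le_finrank
    rwa [hd] at this
  have hval : ∀ (χ : Λ) a, χ.1 a * χ.1 a = c a := by
    intro χ a
    obtain ⟨v, hv, hv0⟩ := (wt χ.1).ne_bot_iff.1 χ.2
    have h1 := (mem_wt _ _).1 hv a
    have h3 : (y a * y a) v = (χ.1 a * χ.1 a) • v := by
      rw [Module.End.mul_apply, h1, map_smul, h1, smul_smul]
    rw [hc a] at h3
    have h4 : (c a - χ.1 a * χ.1 a) • v = 0 := by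
      rw [sub_smul, ← h3]
      simp
    exact (sub_eq_zero.1 ((smul_eq_zero.1 h4).resolve_right hv0)).symm
  have hne : Nonempty Λ := by
    by_contra hemp
    have h3 : ∀ χ : E → K, wt χ = ⊥ := by
      intro χ
      by_contra h4
      exact hemp ⟨⟨χ, h4⟩⟩
    have h5 : (⊤ : Submodule K V) = ⊥ := by
      rw [← htop]
      simp only [h3, iSup_bot]
    have h6 : finrank K (⊤ : Submodule K V) = 0 := by rw [h5]; exact finrank_bot K V
    rw [finrank_top, hd] at h6
    omega
  obtain ⟨χ₀⟩ := hne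
  let s : E → ({χ : Λ // χ ≠ χ₀} → Bool) := fun a χ => decide (χ.1.1 a = χ₀.1 a)
  have hsinj : Function.Injective s := by
    intro a b hab
    apply hinj
    have hb0 : χ₀.1 b ≠ 0 := by
      intro h0
      have := hval χ₀ b
      rw [h0, mul_zero] at this
      exact hc0 b this.symm
    refine ⟨χ₀.1 a / χ₀.1 b, ?_⟩
    have key : ∀ χ : Λ, χ.1 a = χ₀.1 a / χ₀.1 b * χ.1 b := by
      intro χ
      by_cases hχ : χ = χ₀
      · subst hχ
        field_simp
      · have h3 := congrFun hab ⟨χ, hχ⟩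
        have h4 : (χ.1 a = χ₀.1 a) ↔ (χ.1 b = χ₀.1 b) := by
          simpa only [s, _root_.ne_eq, _root_.decide_eq_decide] using h3
        by_cases h5 : χ.1 a = χ₀.1 a
        · rw [h5, h4.1 h5]
          field_simp
        · have h6 : ¬ χ.1 b = χ₀.1 b := fun h => h5 (h4.2 h)
          have e1 : χ.1 a = - χ₀.1 a :=
            (mul_self_eq_mul_self_iff.1 ((hval χ a).trans (hval χ₀ a).symm)).resolve_left h5
          have e2 : χ.1 b = - χ₀.1 b :=
            (mul_self_eq_mul_self_iff.1 ((hval χ b).trans (hval χ₀ b).symm)).resolve_left h6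
          rw [e1, e2]
          field_simp
    refine LinearMap.ext fun v => ?_
    have h1 : (⊤ : Submodule K V) ≤ LinearMap.eqLocus (y a) ((χ₀.1 a / χ₀.1 b) • y b) := by
      rw [← htop, iSup_le_iff]
      intro χ v hv
      by_cases hχ : wt χ = ⊥
      · rw [hχ, Submodule.mem_bot] at hv
        rw [hv]
        exact Submodule.zero_mem _
      · change y a v = ((χ₀.1 a / χ₀.1 b) • y b) v
        rw [LinearMap.smul_apply, (mem_wt _ _).1 hv a, (mem_wt _ _).1 hv b, smul_smul]
        rw [← key ⟨χ, hχ⟩]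
    exact h1 (Submodule.mem_top (x := v))
  have h7 := Fintype.card_le_of_injective s hsinj
  have h8 : Fintype.card ({χ : Λ // χ ≠ χ₀} → Bool) ≤ 8 := by
    have h9 : Fintype.card {χ : Λ // χ ≠ χ₀} = Fintype.card Λ - 1 := by
      rw [Fintype.card_subtype_compl, Fintype.card_subtype_eq]
    rw [Fintype.card_fun, Fintype.card_bool, h9]
    calc 2 ^ (Fintype.card Λ - 1) ≤ 2 ^ 3 := Nat.pow_le_pow_right (by norm_num) (by omega)
      _ = 8 := by norm_num
  exact h7.trans h8

end AlgClosed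

section Mat

open Matrix

variable {F E : Type*} [Field F]

theorem card_le_eight' (h2 : (2 : F) ≠ 0) [Fintype E] (y : E → Matrix (Fin 4) (Fin 4) F)
    (hcomm : ∀ a b, y a * y b = y b * y a) (hsq : ∀ a, ∃ c : F, c ≠ 0 ∧ y a * y a = c • 1)
    (hinj : ∀ a b, (∃ d : F, y a = d • y b) → a = b) : Fintype.card E ≤ 8 := by
  classical
  let Ω := AlgebraicClosure F
  let ι := algebraMap F Ω
  have hι : Function.Injective ι := ι.injective
  let T : Matrix (Fin 4) (Fin 4) F → Module.End Ω (Fin 4 → Ω) := fun M => Matrix.toLin' (M.map ι)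
  have Tmul : ∀ M N, T (M * N) = T M * T N := by
    intro M N
    change Matrix.toLin' ((M * N).map ι) = _
    rw [Matrix.map_mul, Matrix.toLin'_mul]
    rfl
  have Tsmul1 : ∀ c : F, T (c • 1) = ι c • 1 := by
    intro c
    change Matrix.toLin' ((c • (1 : Matrix (Fin 4) (Fin 4) F)).map ι) = _
    rw [Matrix.map_smul' ι c _ (map_mul ι), Matrix.map_one ι (map_zero ι) (map_one ι), map_smul, Matrix.toLin'_one]
    rfl
  apply card_le_eight (K := Ω) (V := Fin 4 → Ω) (E := E) _ (by simp) (fun a => T (y a))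
  · intro a b
    rw [← Tmul, ← Tmul, hcomm]
  · intro a
    obtain ⟨c, hc0, hc⟩ := hsq a
    refine ⟨ι c, ?_, ?_⟩
    · rw [Ne, map_eq_zero]; exact hc0
    · rw [← Tmul, hc, Tsmul1]
  · rintro a b ⟨d, hd⟩
    apply hinj
    obtain ⟨c, hc0, hc⟩ := hsq b
    -- `y a * y b = (d c) 1`
    have h3 : T (y a * y b) = (d * ι c) • 1 := by
      rw [Tmul, hd, smul_mul_assoc, ← Tmul, hc, Tsmul1, smul_smul]
    have h4 : (y a * y b).map ι = (d * ι c) • 1 := by
      apply Matrix.toLin'.injective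
      rw [map_smul, Matrix.toLin'_one]
      exact h3
    set e := (y a * y b) 0 0 with he
    have h5 : ι e = d * ι c := by
      have := congrFun (congrFun h4 0) 0
      simpa using this
    have h6 : y a * y b = e • 1 := by
      ext i j
      apply hι
      have h7 := congrFun (congrFun h4 i) j
      rw [Matrix.map_apply] at h7
      rw [h7, Matrix.smul_apply, Matrix.smul_apply, smul_eq_mul, smul_eq_mul, map_mul, h5]
      by_cases hij : i = j
      · subst hij; simp
      · simp [Matrix.one_apply_ne hij]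
    refine ⟨c⁻¹ * e, ?_⟩
    have h8 : y a * (y b * y b) = e • y b := by rw [← mul_assoc, h6, smul_mul_assoc, one_mul]
    rw [hc, mul_smul_comm, mul_one] at h8
    rw [mul_smul, ← h8, smul_smul, inv_mul_cancel₀ hc0, one_smul]
  · intro h
    apply h2
    apply hι
    rw [map_zero, ← h]
    exact map_ofNat ι 2

end Mat

end Cfsg.Agent.H906.L34
end

-- part: H906/L34Anti
section
/-!
# Elementary abelian subgroups of order sixteen in a cover in dimension four
-/

set_option autoImplicit false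
set_option linter.unusedSectionVars false

namespace Cfsg.Agent.H906.L34

open Cfsg Cfsg.Geo Cfsg.Agent.H908
open scoped MatrixGroups commutatorElement

variable {F : Type*} [Field F] {T : Type*} [Group T] {P : Subgroup (GL (Fin 4) F)} {φ : P →* T}

/-- Lifts of a non-trivial element of a large elementary abelian group anticommute with some other lift. -/
theorem exists_anti (h : Cov P φ) (h2 : (2 : F) ≠ 0) (U : Subgroup T) [Finite U] (hcard : 8 < Nat.card U)
    (hsq : ∀ a ∈ U, a * a = 1) (hcomm : ∀ a ∈ U, ∀ b ∈ U, a * b = b * a)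
    (htrans : ∀ a ∈ U, ∀ b ∈ U, a ≠ 1 → b ≠ 1 → ∃ t : T, (∀ c, c ∈ U ↔ t * c * t⁻¹ ∈ U) ∧ t * a * t⁻¹ = b)
    {x : P} (hx : φ x ∈ U) (hx1 : φ x ≠ 1) :
    ∃ y : P, φ y ∈ U ∧ _root_.Cfsg.Agent.H908.mt P x * _root_.Cfsg.Agent.H908.mt P y = -(_root_.Cfsg.Agent.H908.mt P y * _root_.Cfsg.Agent.H908.mt P x) := by
  classical
  by_contra hcon
  push Not at hcon
  have h1 : ∀ y : P, φ y ∈ U → x * y = y * x := by
    intro y hy
    apply mt_injective
    rw [map_mul, map_mul]
    exact (h.comm_or_anti (hcomm _ hx _ hy) (hsq _ hx)).resolve_right (hcon y hy)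
  have h3 : ∀ x' y : P, φ x' ∈ U → φ y ∈ U → x' * y = y * x' := by
    intro x' y hx' hy
    by_cases hx'1 : φ x' = 1
    · exact (h.central hx'1 y).symm
    obtain ⟨t, ht, hta⟩ := htrans _ hx _ hx' hx1 hx'1
    obtain ⟨τ, rfl⟩ := h.surj t
    set z := τ * x * τ⁻¹ * x'⁻¹ with hz
    have hzk : φ z = 1 := by
      rw [hz, map_mul, map_mul, map_mul, map_inv, map_inv, hta, mul_inv_cancel]
    have hx'' : x' = z⁻¹ * (τ * x * τ⁻¹) := by rw [hz]; group
    have hzi : φ z⁻¹ = 1 := by rw [map_inv, hzk, inv_one]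
    have hy' : φ (τ⁻¹ * y * τ) ∈ U := by
      rw [ht, map_mul, map_mul, map_inv]
      have : φ τ * ((φ τ)⁻¹ * φ y * φ τ) * (φ τ)⁻¹ = φ y := by group
      rw [this]
      exact hy
    have h4 := h1 _ hy'
    have h5 : (τ * x * τ⁻¹) * y = y * (τ * x * τ⁻¹) := by
      calc (τ * x * τ⁻¹) * y = τ * (x * (τ⁻¹ * y * τ)) * τ⁻¹ := by group
        _ = τ * ((τ⁻¹ * y * τ) * x) * τ⁻¹ := by rw [h4]
        _ = y * (τ * x * τ⁻¹) := by group
    rw [hx'']
    generalize τ * x * τ⁻¹ = g at h5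
    rw [mul_assoc, h5, ← mul_assoc, ← h.central hzi y, mul_assoc]
  choose y hy using fun a : U => h.surj (a : T)
  have : Fintype U := Fintype.ofFinite U
  have hle := card_le_eight' (F := F) (E := U) h2 (fun a => _root_.Cfsg.Agent.H908.mt P (y a))
    (by
      intro a b
      rw [← map_mul, ← map_mul, h3 _ _ (by rw [hy]; exact a.2) (by rw [hy]; exact b.2)])
    (by
      intro a
      have h4 : φ (y a * y a) = 1 := by rw [map_mul, hy]; exact hsq _ a.2
      obtain ⟨c, hc⟩ := (h.ker _).1 h4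
      refine ⟨c, ?_, by rw [← map_mul, hc]⟩
      rintro rfl
      have := h.pow_four hc
      norm_num at this)
    (by
      rintro a b ⟨d, hd⟩
      have h4 : φ (y a * (y b)⁻¹) = 1 := by
        rw [h.ker]
        refine ⟨d, ?_⟩
        rw [map_mul, hd, smul_mul_assoc, ← map_mul, mul_inv_cancel, map_one]
      rw [map_mul, map_inv, hy, hy, mul_inv_eq_one] at h4
      exact Subtype.ext h4)
  rw [Nat.card_eq_fintype_card] at hcard
  omega

/-- The traces vanish. -/
theorem tr_eq_zero (h : Cov P φ) (h2 : (2 : F) ≠ 0) (U : Subgroup T) [Finite U] (hcard : 8 < Nat.card U)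
    (hsq : ∀ a ∈ U, a * a = 1) (hcomm : ∀ a ∈ U, ∀ b ∈ U, a * b = b * a)
    (htrans : ∀ a ∈ U, ∀ b ∈ U, a ≠ 1 → b ≠ 1 → ∃ t : T, (∀ c, c ∈ U ↔ t * c * t⁻¹ ∈ U) ∧ t * a * t⁻¹ = b)
    {x : P} (hx : φ x ∈ U) (hx1 : φ x ≠ 1) : tr x = 0 := by
  obtain ⟨y, -, hy⟩ := exists_anti h h2 U hcard hsq hcomm htrans hx hx1
  exact h.tr_zero_of_anti h2 hy

/-- The lifts span the matrix algebra. -/
theorem span_eq_top (h : Cov P φ) (h2 : (2 : F) ≠ 0) (U : Subgroup T) [Finite U] (hcard : Nat.card U = 16)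
    (htr : ∀ x : P, φ x ∈ U → φ x ≠ 1 → tr x = 0) :
    Submodule.span F (Set.range ((_root_.Cfsg.Agent.H908.mt P).comp (U.comap φ).subtype)) = ⊤ := by
  classical
  have : Fintype U := Fintype.ofFinite U
  choose y hy using fun a : U => h.surj (a : T)
  have hli : LinearIndependent F (fun a : U => _root_.Cfsg.Agent.H908.mt P (y a)) := by
    rw [Fintype.linearIndependent_iff]
    intro c hc a
    have h1 := congrArg (fun M => (M * _root_.Cfsg.Agent.H908.mt P (y a)⁻¹).trace) hc
    simp only [Finset.sum_mul, Matrix.trace_sum, smul_mul_assoc, Matrix.trace_smul, ← map_mul, zero_mul,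
      Matrix.trace_zero] at h1
    rw [Finset.sum_eq_single a] at h1
    · rw [mul_inv_cancel, map_one, Matrix.trace_one, Fintype.card_fin] at h1
      have h4 : ((4 : ℕ) : F) ≠ 0 := by
        rw [show ((4 : ℕ) : F) = 2 * 2 by norm_num]
        exact mul_ne_zero h2 h2
      exact (smul_eq_zero.1 h1).resolve_right h4
    · intro b _ hb
      have h3 : tr (y b * (y a)⁻¹) = 0 := by
        apply htr
        · rw [map_mul, map_inv, hy, hy]
          exact U.mul_mem b.2 (U.inv_mem a.2)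
        · rw [map_mul, map_inv, hy, hy, Ne, mul_inv_eq_one]
          exact fun h => hb (Subtype.ext h)
      have h5 : (_root_.Cfsg.Agent.H908.mt P (y b * (y a)⁻¹)).trace = 0 := h3
      rw [h5, smul_zero]
    · intro ha
      exact absurd (Finset.mem_univ a) ha
  have hcard' : Fintype.card U = Module.finrank F (Matrix (Fin 4) (Fin 4) F) := by
    rw [← Nat.card_eq_fintype_card, hcard, Module.finrank_matrix]
    simp
  have h5 := hli.span_eq_top_of_card_eq_finrank' hcard'
  rw [eq_top_iff, ← h5, Submodule.span_le]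
  rintro _ ⟨a, rfl⟩
  apply Submodule.subset_span
  exact ⟨⟨y a, by change φ (y a) ∈ U; rw [hy]; exact a.2⟩, rfl⟩

end Cfsg.Agent.H906.L34
end

-- part: H906/L34Amal
section
/-!
# Glueing intertwiners of two subgroups
-/

set_option autoImplicit false
set_option linter.unusedSectionVars false

namespace Cfsg.Agent.H906.L34

open Cfsg Cfsg.Geo Cfsg.Agent.H908
open scoped MatrixGroups commutatorElement Matrix

section Agree

variable {F : Type*} [Field F] {ι : Type} [Fintype ι] [DecidableEq ι] {Γ : Type*} [Group Γ]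

/-- the conjugate representation -/
def cjB (B : GL ι F) (ρ : Γ →* Matrix ι ι F) : Γ →* Matrix ι ι F where
  toFun g := (B : Matrix ι ι F) * ρ g * ((B⁻¹ : GL ι F) : Matrix ι ι F)
  map_one' := by rw [map_one, mul_one, ← Units.val_mul, mul_inv_cancel, Units.val_one]
  map_mul' x y := by
    rw [map_mul]
    have h1 : ((B⁻¹ : GL ι F) : Matrix ι ι F) * (B : Matrix ι ι F) = 1 := by
      rw [← Units.val_mul, inv_mul_cancel, Units.val_one]
    calc (B : Matrix ι ι F) * (ρ x * ρ y) * ((B⁻¹ : GL ι F) : Matrix ι ι F)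
        = (B : Matrix ι ι F) * ρ x * 1 * ρ y * ((B⁻¹ : GL ι F) : Matrix ι ι F) := by simp only [mul_assoc, one_mul]
      _ = _ := by rw [← h1]; simp only [mul_assoc]

lemma cjB_apply (B : GL ι F) (ρ : Γ →* Matrix ι ι F) (g : Γ) :
    cjB B ρ g = (B : Matrix ι ι F) * ρ g * ((B⁻¹ : GL ι F) : Matrix ι ι F) := rfl

/-- the subgroup where `ρ₂` is the conjugate of `ρ₁` by `B` -/
def agree (ρ₁ ρ₂ : Γ →* Matrix ι ι F) (B : GL ι F) : Subgroup Γ := (cjB B ρ₁).eqLocus ρ₂

lemma mem_agree {ρ₁ ρ₂ : Γ →* Matrix ι ι F} {B : GL ι F} {g : Γ} : g ∈ agree ρ₁ ρ₂ B ↔ cjB B ρ₁ g = ρ₂ g := Iff.rfl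

/-- A matrix commuting with a spanning set is scalar. -/
lemma scalar_of_comm [Nonempty ι] {S : Set (Matrix ι ι F)} (hS : Submodule.span F S = ⊤) {D : Matrix ι ι F}
    (hD : ∀ s ∈ S, D * s = s * D) : ∃ c : F, D = c • 1 := by
  have h1 : ∀ Y : Matrix ι ι F, D * Y = Y * D := by
    intro Y
    have hY : Y ∈ Submodule.span F S := by rw [hS]; trivial
    induction hY using Submodule.span_induction with
    | mem s hs => exact hD s hs
    | zero => simp
    | add a b _ _ ha hb => rw [mul_add, add_mul, ha, hb]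
    | smul c a _ ha => rw [mul_smul_comm, smul_mul_assoc, ha]
  obtain ⟨c, hc⟩ := (Matrix.mem_range_scalar_iff_commute_single' (M := D)).2 (fun i j => (h1 _).symm)
  refine ⟨c, ?_⟩
  rw [← hc]
  simp [Matrix.smul_one_eq_diagonal]

/-- elements normalising a subgroup on which the intertwiner works -/
lemma normalizer_scalar [Nonempty ι] {ρ₁ ρ₂ : Γ →* Matrix ι ι F} {B : GL ι F} {Q : Subgroup Γ}
    (hspan : Submodule.span F (ρ₁ '' Q) = ⊤) (hQ : Q ≤ agree ρ₁ ρ₂ B) {g : Γ}
    (hg : ∀ q ∈ Q, g⁻¹ * q * g ∈ Q) : ∃ c : F, ρ₂ g = c • cjB B ρ₁ g := by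
  have hB1 : ((B⁻¹ : GL ι F) : Matrix ι ι F) * (B : Matrix ι ι F) = 1 := by
    rw [← Units.val_mul, inv_mul_cancel, Units.val_one]
  have hB2 : (B : Matrix ι ι F) * ((B⁻¹ : GL ι F) : Matrix ι ι F) = 1 := by
    rw [← Units.val_mul, mul_inv_cancel, Units.val_one]
  set β : Matrix ι ι F := (B : Matrix ι ι F)
  set β' : Matrix ι ι F := ((B⁻¹ : GL ι F) : Matrix ι ι F)
  have hq : ∀ q ∈ Q, ρ₂ q = β * ρ₁ q * β' := fun q hq => (mem_agree.1 (hQ hq)).symm
  obtain ⟨c, hc⟩ := scalar_of_comm hspan (D := β' * ρ₂ g * β * ρ₁ g⁻¹) (by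
    rintro _ ⟨q, hqQ, rfl⟩
    have hq' := hg q hqQ
    have e1 : g⁻¹ * q = (g⁻¹ * q * g) * g⁻¹ := by group
    calc β' * ρ₂ g * β * ρ₁ g⁻¹ * ρ₁ q = β' * ρ₂ g * β * ρ₁ (g⁻¹ * q) := by rw [map_mul, mul_assoc _ (ρ₁ g⁻¹)]
      _ = β' * ρ₂ g * β * (ρ₁ (g⁻¹ * q * g) * ρ₁ g⁻¹) := by rw [← map_mul ρ₁, ← e1]
      _ = β' * ρ₂ g * (β * ρ₁ (g⁻¹ * q * g) * 1) * ρ₁ g⁻¹ := by simp only [mul_assoc, one_mul]
      _ = β' * ρ₂ g * (β * ρ₁ (g⁻¹ * q * g) * β' * β) * ρ₁ g⁻¹ := by rw [← hB1]; simp only [mul_assoc]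
      _ = β' * ρ₂ g * (ρ₂ (g⁻¹ * q * g) * β) * ρ₁ g⁻¹ := by rw [← hq _ hq']
      _ = β' * (ρ₂ g * ρ₂ (g⁻¹ * q * g)) * β * ρ₁ g⁻¹ := by simp only [mul_assoc]
      _ = β' * (ρ₂ q * ρ₂ g) * β * ρ₁ g⁻¹ := by
          rw [← map_mul, ← map_mul]
          congr 4
          group
      _ = β' * ((β * ρ₁ q * β') * ρ₂ g) * β * ρ₁ g⁻¹ := by rw [hq q hqQ]
      _ = (β' * β) * ρ₁ q * (β' * ρ₂ g * β * ρ₁ g⁻¹) := by simp only [mul_assoc]
      _ = ρ₁ q * (β' * ρ₂ g * β * ρ₁ g⁻¹) := by rw [hB1, one_mul])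
  refine ⟨c, ?_⟩
  rw [cjB_apply]
  calc ρ₂ g = (β * β') * ρ₂ g * ((β * (ρ₁ g⁻¹ * ρ₁ g)) * β') := by
        rw [← map_mul, inv_mul_cancel, map_one, mul_one, hB2, one_mul, mul_one]
    _ = β * (β' * ρ₂ g * β * ρ₁ g⁻¹) * ρ₁ g * β' := by simp only [mul_assoc]
    _ = c • (β * ρ₁ g * β') := by
        rw [hc]
        simp only [mul_smul_comm, smul_mul_assoc, mul_one]

lemma commutator_mem_agree [Nonempty ι] {ρ₁ ρ₂ : Γ →* Matrix ι ι F} {B : GL ι F} {Q : Subgroup Γ}
    (hspan : Submodule.span F (ρ₁ '' Q) = ⊤) (hQ : Q ≤ agree ρ₁ ρ₂ B) {g k : Γ}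
    (hg : ∀ q ∈ Q, g⁻¹ * q * g ∈ Q) (hk : ∀ q ∈ Q, k⁻¹ * q * k ∈ Q) : ⁅g, k⁆ ∈ agree ρ₁ ρ₂ B := by
  obtain ⟨c, hc⟩ := normalizer_scalar hspan hQ hg
  obtain ⟨d, hd⟩ := normalizer_scalar hspan hQ hk
  rw [mem_agree]
  have h1 : ρ₂ (g * k) = (c * d) • cjB B ρ₁ (g * k) := by
    rw [map_mul, map_mul, hc, hd, smul_mul_smul_comm]
  have h2 : ρ₂ (k * g) = (c * d) • cjB B ρ₁ (k * g) := by
    rw [map_mul, map_mul, hc, hd, smul_mul_smul_comm, mul_comm d c]
  have h3 : g * k = ⁅g, k⁆ * (k * g) := by rw [commutatorElement_def]; group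
  have h4 : ρ₂ ⁅g, k⁆ * ρ₂ (k * g) = cjB B ρ₁ ⁅g, k⁆ * ρ₂ (k * g) := by
    rw [← map_mul, ← h3, h1, h2, mul_smul_comm, ← map_mul, ← h3]
  have h5 := congrArg (fun M => M * ρ₂ (k * g)⁻¹) h4
  simp only [mul_assoc, ← map_mul, mul_inv_cancel, map_one, mul_one] at h5
  exact h5.symm

/-- uniqueness of the intertwiner -/
lemma agree_eq [Nonempty ι] {ρ₁ ρ₂ : Γ →* Matrix ι ι F} {B C : GL ι F} {Q : Subgroup Γ}
    (hspan : Submodule.span F (ρ₁ '' Q) = ⊤) (hB : Q ≤ agree ρ₁ ρ₂ B) (hC : Q ≤ agree ρ₁ ρ₂ C) :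
    agree ρ₁ ρ₂ B = agree ρ₁ ρ₂ C := by
  obtain ⟨c, hc⟩ := scalar_of_comm hspan (D := ((C⁻¹ * B : GL ι F) : Matrix ι ι F)) (by
    rintro _ ⟨q, hq, rfl⟩
    have h1 : (B : Matrix ι ι F) * ρ₁ q * ((B⁻¹ : GL ι F) : Matrix ι ι F) =
        (C : Matrix ι ι F) * ρ₁ q * ((C⁻¹ : GL ι F) : Matrix ι ι F) :=
      (mem_agree.1 (hB hq)).trans (mem_agree.1 (hC hq)).symm
    have h2 := congrArg (fun M => ((C⁻¹ : GL ι F) : Matrix ι ι F) * M * (B : Matrix ι ι F)) h1
    have e1 : ((B⁻¹ : GL ι F) : Matrix ι ι F) * (B : Matrix ι ι F) = 1 := by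
      rw [← Units.val_mul, inv_mul_cancel, Units.val_one]
    have e2 : ((C⁻¹ : GL ι F) : Matrix ι ι F) * (C : Matrix ι ι F) = 1 := by
      rw [← Units.val_mul, inv_mul_cancel, Units.val_one]
    rw [Units.val_mul]
    calc ((C⁻¹ : GL ι F) : Matrix ι ι F) * (B : Matrix ι ι F) * ρ₁ q
        = ((C⁻¹ : GL ι F) : Matrix ι ι F) * ((B : Matrix ι ι F) * ρ₁ q * ((B⁻¹ : GL ι F) : Matrix ι ι F)) *
          (B : Matrix ι ι F) := by simp only [mul_assoc, e1, mul_one]
      _ = ((C⁻¹ : GL ι F) : Matrix ι ι F) * ((C : Matrix ι ι F) * ρ₁ q * ((C⁻¹ : GL ι F) : Matrix ι ι F)) *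
          (B : Matrix ι ι F) := by rw [h1]
      _ = (((C⁻¹ : GL ι F) : Matrix ι ι F) * (C : Matrix ι ι F)) * ρ₁ q *
          (((C⁻¹ : GL ι F) : Matrix ι ι F) * (B : Matrix ι ι F)) := by simp only [mul_assoc]
      _ = _ := by rw [e2, one_mul])
  -- conjugation by `B` and by `C` agree
  have hc' : ((B⁻¹ * C : GL ι F) : Matrix ι ι F) * (c • 1) = 1 := by
    rw [← hc, ← Units.val_mul]
    have : B⁻¹ * C * (C⁻¹ * B) = 1 := by group
    rw [this, Units.val_one]
  have key : cjB B ρ₁ = cjB C ρ₁ := by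
    apply MonoidHom.ext
    intro g
    rw [cjB_apply, cjB_apply]
    have e1 : (B : Matrix ι ι F) = (C : Matrix ι ι F) * ((C⁻¹ * B : GL ι F) : Matrix ι ι F) := by
      rw [← Units.val_mul]
      congr 1
      group
    have e2 : ((B⁻¹ : GL ι F) : Matrix ι ι F) = ((B⁻¹ * C : GL ι F) : Matrix ι ι F) * ((C⁻¹ : GL ι F) : Matrix ι ι F) := by
      rw [← Units.val_mul]
      congr 1
      group
    rw [e1, e2, hc, mul_smul_comm, mul_one, smul_mul_assoc, smul_mul_assoc]
    calc c • ((C : Matrix ι ι F) * ρ₁ g * (((B⁻¹ * C : GL ι F) : Matrix ι ι F) * ((C⁻¹ : GL ι F) : Matrix ι ι F)))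
        = (C : Matrix ι ι F) * ρ₁ g * ((((B⁻¹ * C : GL ι F) : Matrix ι ι F) * (c • 1)) *
            ((C⁻¹ : GL ι F) : Matrix ι ι F)) := by
          simp only [mul_smul_comm, smul_mul_assoc, mul_one]
      _ = _ := by rw [hc', one_mul]
  unfold agree
  rw [key]

/-- existence of the intertwiner on a subgroup -/
lemma exists_agree (ρ₁ ρ₂ : Γ →* Matrix ι ι F) (Q : Subgroup Γ)
    (h₁ : Submodule.span F (ρ₁ '' Q) = ⊤) (h₂ : Submodule.span F (ρ₂ '' Q) = ⊤)
    (htr : ∀ g ∈ Q, (ρ₁ g).trace = (ρ₂ g).trace) : ∃ B : GL ι F, Q ≤ agree ρ₁ ρ₂ B := by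
  have hr : ∀ ρ : Γ →* Matrix ι ι F, Set.range (ρ.comp Q.subtype) = ρ '' Q := by
    intro ρ
    ext M
    constructor
    · rintro ⟨q, rfl⟩
      exact ⟨q.1, q.2, rfl⟩
    · rintro ⟨q, hq, rfl⟩
      exact ⟨⟨q, hq⟩, rfl⟩
  obtain ⟨B, hB⟩ := exists_conj_of_trace (ρ₁.comp Q.subtype) (ρ₂.comp Q.subtype) (by rw [hr, h₁]) (by rw [hr, h₂])
    (fun g => htr g.1 g.2)
  exact ⟨B, fun q hq => (hB ⟨q, hq⟩).symm⟩

end Agree

section Amal

variable {F : Type*} [Field F] {T : Type*} [Group T] {P : Subgroup (GL (Fin 4) F)} {φ : P →* T}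

lemma ker_trace [CharP F 3] (h : Cov P φ) {x : P} (hx : φ x = 1) : tr x ^ 3 = tr x⁻¹ := by
  obtain ⟨c, hc⟩ := (h.ker x).1 hx
  have h4 := h.pow_four hc
  have hc0 : c ≠ 0 := by
    rintro rfl
    norm_num at h4
  have h3 : (3 : F) = 0 := by
    have := CharP.cast_eq_zero F 3
    exact_mod_cast this
  have hi : _root_.Cfsg.Agent.H908.mt P x⁻¹ = c⁻¹ • 1 := by
    have h1 : _root_.Cfsg.Agent.H908.mt P x⁻¹ * _root_.Cfsg.Agent.H908.mt P x = 1 := by rw [← map_mul, inv_mul_cancel, map_one]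
    rw [hc, mul_smul_comm, mul_one] at h1
    rw [← h1, smul_smul, inv_mul_cancel₀ hc0, one_smul]
  have e1 : tr x = c * 4 := by
    unfold tr
    rw [hc, Matrix.trace_smul, Matrix.trace_one, Fintype.card_fin]
    simp
  have e2 : tr x⁻¹ = c⁻¹ * 4 := by
    unfold tr
    rw [hi, Matrix.trace_smul, Matrix.trace_one, Fintype.card_fin]
    simp
  have e3 : c ^ 3 = c⁻¹ := by
    apply eq_inv_of_mul_eq_one_left
    rw [← pow_succ, h4]
  rw [e1, e2, mul_pow, e3]
  congr 1
  linear_combination 20 * h3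

/-- **Glueing.** -/
theorem cov_amalgam [Finite F] [CharP F 3] (h : Cov P φ) (U₁ U₂ N₁ N₂ : Subgroup T)
    (hs₁ : Submodule.span F (Set.range ((_root_.Cfsg.Agent.H908.mt P).comp (U₁.comap φ).subtype)) = ⊤)
    (hs₂ : Submodule.span F (Set.range ((_root_.Cfsg.Agent.H908.mt P).comp (U₂.comap φ).subtype)) = ⊤)
    (ht₁ : ∀ x : P, φ x ∈ U₁ → φ x ≠ 1 → tr x = 0) (ht₂ : ∀ x : P, φ x ∈ U₂ → φ x ≠ 1 → tr x = 0)
    (hN₁ : ∀ t ∈ N₁, ∀ u ∈ U₁, t⁻¹ * u * t ∈ U₁) (hN₂ : ∀ t ∈ N₂, ∀ u ∈ U₂, t⁻¹ * u * t ∈ U₂)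
    (h12 : U₁ ≤ U₂ ⊔ ⁅N₂, N₂⁆) (hgen : (U₁ ⊔ ⁅N₁, N₁⁆) ⊔ (U₂ ⊔ ⁅N₂, N₂⁆) = ⊤) (g : P) : tr g ^ 3 = tr g⁻¹ := by
  classical
  have hf3 : Fact (Nat.Prime 3) := ⟨Nat.prime_three⟩
  let σ : F ≃+* F := frobeniusEquiv F 3
  have hσ : ∀ c : F, σ c = c ^ 3 := fun c => by
    change frobeniusEquiv F 3 c = c ^ 3
    rw [frobeniusEquiv_apply, frobenius_def]
  let ρ₁ := twist σ (_root_.Cfsg.Agent.H908.mt P)
  let ρ₂ := contra (_root_.Cfsg.Agent.H908.mt P)
  have tr₁ : ∀ x, (ρ₁ x).trace = tr x ^ 3 := fun x => by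
    change ((_root_.Cfsg.Agent.H908.mt P x).map σ).trace = _
    rw [map_trace', hσ]
    rfl
  have tr₂ : ∀ x, (ρ₂ x).trace = tr x⁻¹ := fun x => by
    change ((_root_.Cfsg.Agent.H908.mt P x⁻¹)ᵀ).trace = _
    rw [Matrix.trace_transpose]
    rfl
  have key : ∀ U N : Subgroup T, Submodule.span F (Set.range ((_root_.Cfsg.Agent.H908.mt P).comp (U.comap φ).subtype)) = ⊤ →
      (∀ x : P, φ x ∈ U → φ x ≠ 1 → tr x = 0) → (∀ t ∈ N, ∀ u ∈ U, t⁻¹ * u * t ∈ U) →
      Submodule.span F (ρ₁ '' (U.comap φ : Subgroup P)) = ⊤ ∧ ∃ B : GL (Fin 4) F, U.comap φ ≤ agree ρ₁ ρ₂ B ∧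
        ∀ x : P, φ x ∈ U ⊔ ⁅N, N⁆ → x ∈ agree ρ₁ ρ₂ B := by
    intro U N hs ht hN
    have hr : ∀ ρ : P →* Matrix (Fin 4) (Fin 4) F, Set.range (ρ.comp (U.comap φ).subtype) = ρ '' (U.comap φ : Subgroup P) := by
      intro ρ
      ext M
      constructor
      · rintro ⟨q, rfl⟩
        exact ⟨q.1, q.2, rfl⟩
      · rintro ⟨q, hq, rfl⟩
        exact ⟨⟨q, hq⟩, rfl⟩
    have s1 : Submodule.span F (ρ₁ '' (U.comap φ : Subgroup P)) = ⊤ := by
      have e : ρ₁.comp (U.comap φ).subtype = twist σ ((_root_.Cfsg.Agent.H908.mt P).comp (U.comap φ).subtype) :=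
        MonoidHom.ext fun _ => rfl
      rw [← hr, e]
      exact span_twist σ hs
    have s2 : Submodule.span F (ρ₂ '' (U.comap φ : Subgroup P)) = ⊤ := by
      have e : ρ₂.comp (U.comap φ).subtype = contra ((_root_.Cfsg.Agent.H908.mt P).comp (U.comap φ).subtype) :=
        MonoidHom.ext fun _ => rfl
      rw [← hr, e]
      exact span_contra hs
    refine ⟨s1, ?_⟩
    obtain ⟨B, hB⟩ := exists_agree ρ₁ ρ₂ (U.comap φ) s1 s2 (by
      intro q hq
      rw [tr₁, tr₂]
      by_cases hq1 : φ q = 1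
      · exact ker_trace h hq1
      · rw [ht q hq hq1, ht q⁻¹ (by rw [map_inv]; exact U.inv_mem hq) (by rw [map_inv, Ne, inv_eq_one]; exact hq1)]
        norm_num)
    refine ⟨B, hB, ?_⟩
    intro x hx
    have hmap : U ⊔ ⁅N, N⁆ ≤ (agree ρ₁ ρ₂ B).map φ := by
      rw [sup_le_iff]
      constructor
      · intro u hu
        obtain ⟨y, rfl⟩ := h.surj u
        exact ⟨y, hB hu, rfl⟩
      · rw [Subgroup.commutator_le]
        intro a ha b hb
        obtain ⟨y, rfl⟩ := h.surj a
        obtain ⟨z, rfl⟩ := h.surj b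
        refine ⟨⁅y, z⁆, ?_, by rw [map_commutatorElement]⟩
        apply commutator_mem_agree s1 hB
        · intro q hq
          change φ (y⁻¹ * q * y) ∈ U
          rw [map_mul, map_mul, map_inv]
          exact hN _ ha _ hq
        · intro q hq
          change φ (z⁻¹ * q * z) ∈ U
          rw [map_mul, map_mul, map_inv]
          exact hN _ hb _ hq
    obtain ⟨s, hs, hsx⟩ := hmap hx
    have h1 : x = s * (s⁻¹ * x) := by group
    rw [h1]
    refine Subgroup.mul_mem _ hs (hB ?_)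
    change φ (s⁻¹ * x) ∈ U
    rw [map_mul, map_inv, hsx, inv_mul_cancel]
    exact U.one_mem
  obtain ⟨s1, B₁, hB₁, hB₁'⟩ := key U₁ N₁ hs₁ ht₁ hN₁
  obtain ⟨s2, B₂, hB₂, hB₂'⟩ := key U₂ N₂ hs₂ ht₂ hN₂
  have heq : agree ρ₁ ρ₂ B₁ = agree ρ₁ ρ₂ B₂ := agree_eq s1 hB₁ (fun q hq => hB₂' q (h12 hq))
  have htop : ∀ x : P, x ∈ agree ρ₁ ρ₂ B₁ := by
    intro x
    have h1 : (U₁ ⊔ ⁅N₁, N₁⁆) ⊔ (U₂ ⊔ ⁅N₂, N₂⁆) ≤ (agree ρ₁ ρ₂ B₁).map φ := by
      rw [sup_le_iff]
      constructor
      · intro t ht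
        obtain ⟨y, rfl⟩ := h.surj t
        exact ⟨y, hB₁' y ht, rfl⟩
      · intro t ht
        obtain ⟨y, rfl⟩ := h.surj t
        rw [heq]
        exact ⟨y, hB₂' y ht, rfl⟩
    rw [hgen] at h1
    obtain ⟨s, hs, hsx⟩ := h1 (x := φ x) trivial
    have h2 : x = s * (s⁻¹ * x) := by group
    rw [h2]
    refine Subgroup.mul_mem _ hs (hB₁ ?_)
    change φ (s⁻¹ * x) ∈ U₁
    rw [map_mul, map_inv, hsx, inv_mul_cancel]
    exact U₁.one_mem
  have h5 := mem_agree.1 (htop g)
  rw [← tr₁, ← tr₂, ← h5, cjB_apply, Matrix.trace_mul_comm, ← mul_assoc, ← Units.val_mul, inv_mul_cancel,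
    Units.val_one, one_mul]

end Amal

end Cfsg.Agent.H906.L34
end

-- part: H906/L34Main
section
/-!
# Traces of covers of `PSL_3(4)` in dimension four, characteristic three
-/

set_option autoImplicit false
set_option linter.unusedSectionVars false

namespace Cfsg.Agent.H906.L34

open Cfsg Cfsg.Geo Cfsg.Agent.H908 SL3Par
open scoped MatrixGroups commutatorElement Matrix

section Gen

variable {K : Type*} [Field K]

/-- elementary transvections -/
def tv {i j : Fin 3} (hij : i ≠ j) (c : K) : X K := Matrix.SpecialLinearGroup.transvection hij c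

lemma tv_val {i j : Fin 3} (hij : i ≠ j) (c : K) : (tv hij c).1 = 1 + Matrix.single i j c := rfl

/-- diagonal elements -/
def dg (t : Fin 3 → K) (ht : t 0 * t 1 * t 2 = 1) : X K :=
  ⟨Matrix.diagonal t, by rw [Matrix.det_diagonal, Fin.prod_univ_three, ht]⟩

lemma dg_conj (t : Fin 3 → K) (ht : t 0 * t 1 * t 2 = 1) {i j : Fin 3} (hij : i ≠ j) (r : K) (hr : r * t j = t i)
    (c : K) : dg t ht * tv hij c * (dg t ht)⁻¹ = tv hij (r * c) := by
  rw [mul_inv_eq_iff_eq_mul]
  apply ext'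
  intro k l
  rw [coe_mul', coe_mul', tv_val, tv_val]
  have hd : (dg t ht).1 = Matrix.diagonal t := rfl
  rw [hd, mul_add, add_mul, mul_one, one_mul, Matrix.add_apply, Matrix.add_apply]
  congr 1
  rw [Matrix.diagonal_mul, Matrix.mul_diagonal]
  by_cases hk : i = k
  · subst hk
    by_cases hl : j = l
    · subst hl
      rw [Matrix.single_apply_same, Matrix.single_apply_same, ← hr]
      ring
    · rw [Matrix.single_apply_of_col_ne _ _ hl, Matrix.single_apply_of_col_ne _ _ hl, mul_zero, zero_mul]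
  · rw [Matrix.single_apply_of_row_ne hk, Matrix.single_apply_of_row_ne hk, mul_zero, zero_mul]

lemma tv_inv {i j : Fin 3} (hij : i ≠ j) (c : K) : (tv hij c)⁻¹ = tv hij (-c) :=
  Matrix.SpecialLinearGroup.transvection_inv hij c

lemma tv_mul {i j : Fin 3} (hij : i ≠ j) (c d : K) : tv hij c * tv hij d = tv hij (c + d) := by
  apply Subtype.ext
  have h1 : Matrix.single i j c * Matrix.single i j d = 0 := Matrix.single_mul_single_of_ne _ _ _ _ hij.symm _
  rw [coe_mul', tv_val, tv_val, tv_val, mul_add, mul_one, add_mul, one_mul, h1, Matrix.single_add, add_zero,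
    add_assoc]

lemma tv_mem_commutator {N : Subgroup (X K)} (t : Fin 3 → K) (ht : t 0 * t 1 * t 2 = 1) (hd : dg t ht ∈ N)
    {i j : Fin 3} (hij : i ≠ j) (r : K) (hr : r * t j = t i) (hr1 : r ≠ 1) (hN : ∀ c, tv hij c ∈ N) (c : K) :
    tv hij c ∈ ⁅N, N⁆ := by
  have h1 := Subgroup.commutator_mem_commutator hd (hN (c / (r - 1)))
  have h2 : ⁅dg t ht, tv hij (c / (r - 1))⁆ = tv hij c := by
    rw [commutatorElement_def, dg_conj t ht hij r hr, tv_inv, tv_mul]
    congr 1
    have : r - 1 ≠ 0 := sub_ne_zero.2 hr1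
    field_simp
    ring
  rwa [h2] at h1

lemma dg_mem_Pa (t : Fin 3 → K) (ht : t 0 * t 1 * t 2 = 1) : dg t ht ∈ Pa K := by
  constructor <;> simp [dg]

lemma dg_mem_Pb (t : Fin 3 → K) (ht : t 0 * t 1 * t 2 = 1) : dg t ht ∈ Pb K := by
  constructor <;> simp [dg]

lemma h01 : (0 : Fin 3) ≠ 1 := by decide
lemma h10 : (1 : Fin 3) ≠ 0 := by decide
lemma h12 : (1 : Fin 3) ≠ 2 := by decide
lemma h21 : (2 : Fin 3) ≠ 1 := by decide
lemma h02 : (0 : Fin 3) ≠ 2 := by decide
lemma h20 : (2 : Fin 3) ≠ 0 := by decide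

lemma tv02 (c : K) : tv h02 c = uni 0 0 c := by
  apply ext'
  intro i j
  rw [tv_val]
  (revert i j; simp only [uni, _root_.Fin.forall_fin_succ, Fin.isValue, _root_.Matrix.add_apply, _root_.Matrix.of_apply, _root_.Matrix.cons_val', _root_.Matrix.cons_val_fin_one, Fin.reduceEq, _root_.and_false, _root_.not_false_eq_true, _root_.Matrix.single_apply_of_ne, _root_.add_zero, _root_.Matrix.cons_val_zero, _root_.Matrix.cons_val_succ, _root_.Fin.succ_zero_eq_one, _root_.Fin.succ_one_eq_two, _root_.IsEmpty.forall_iff, _root_.and_true, _root_.Matrix.one_apply_eq, Nat.reduceAdd, _root_.ne_eq, _root_.zero_ne_one, _root_.Matrix.one_apply_ne, _root_.Matrix.single_apply_same, _root_.zero_add, _root_.and_self, _root_.Fin.succ_ne_zero, _root_.true_and])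

lemma tv12 (c : K) : tv h12 c = uni 0 c 0 := by
  apply ext'
  intro i j
  rw [tv_val]
  (revert i j; simp only [uni, _root_.Fin.forall_fin_succ, Fin.isValue, _root_.Matrix.add_apply, _root_.Matrix.of_apply, _root_.Matrix.cons_val', _root_.Matrix.cons_val_fin_one, Fin.reduceEq, _root_.and_false, _root_.not_false_eq_true, _root_.Matrix.single_apply_of_ne, _root_.add_zero, _root_.Matrix.cons_val_zero, _root_.Matrix.cons_val_succ, _root_.Fin.succ_zero_eq_one, _root_.Fin.succ_one_eq_two, _root_.IsEmpty.forall_iff, _root_.and_true, _root_.Matrix.one_apply_eq, Nat.reduceAdd, _root_.ne_eq, _root_.zero_ne_one, _root_.Matrix.one_apply_ne, _root_.one_ne_zero, _root_.and_self, _root_.Fin.succ_ne_zero, _root_.Matrix.single_apply_same, _root_.zero_add, _root_.true_and])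

lemma tv01 (c : K) : tv h01 c = uni c 0 0 := by
  apply ext'
  intro i j
  rw [tv_val]
  (revert i j; simp only [uni, _root_.Fin.forall_fin_succ, Fin.isValue, _root_.Matrix.add_apply, _root_.Matrix.of_apply, _root_.Matrix.cons_val', _root_.Matrix.cons_val_fin_one, _root_.one_ne_zero, _root_.and_false, _root_.not_false_eq_true, _root_.Matrix.single_apply_of_ne, _root_.add_zero, _root_.Matrix.cons_val_zero, _root_.Matrix.cons_val_succ, _root_.Fin.succ_zero_eq_one, _root_.Fin.succ_one_eq_two, Fin.reduceEq, _root_.IsEmpty.forall_iff, _root_.and_true, _root_.Matrix.one_apply_eq, Nat.reduceAdd, _root_.ne_eq, _root_.zero_ne_one, _root_.Matrix.one_apply_ne, _root_.Matrix.single_apply_same, _root_.zero_add, _root_.and_self, _root_.Fin.succ_ne_zero, _root_.true_and])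

/-- generation by the two parabolic subgroups -/
theorem gen_parabolics {a : K} (ha : a ≠ 0) (ha1 : a * a ≠ 1) :
    Qa K ≤ Qb K ⊔ ⁅Pb K, Pb K⁆ ∧ (Qa K ⊔ ⁅Pa K, Pa K⁆) ⊔ (Qb K ⊔ ⁅Pb K, Pb K⁆) = ⊤ := by
  have hai : a⁻¹ * a⁻¹ ≠ 1 := by
    intro h
    apply ha1
    have : (a⁻¹ * a⁻¹) * (a * a) = a * a := by rw [h, one_mul]
    rw [← this]
    field_simp
  let t : Fin 3 → K := ![a, a⁻¹, 1]
  have ht : t 0 * t 1 * t 2 = 1 := by simp [t, ha]
  let s : Fin 3 → K := ![1, a, a⁻¹]
  have hs : s 0 * s 1 * s 2 = 1 := by simp [s, ha]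
  have k01 : ∀ c : K, tv h01 c ∈ ⁅Pa K, Pa K⁆ := tv_mem_commutator t ht (dg_mem_Pa t ht) h01 (a * a)
    (by simp [t, ha]) ha1 (fun c => by rw [tv01]; constructor <;> simp [uni])
  have k10 : ∀ c : K, tv h10 c ∈ ⁅Pa K, Pa K⁆ := tv_mem_commutator t ht (dg_mem_Pa t ht) h10 (a⁻¹ * a⁻¹)
    (by simp [t, ha]) hai (fun c => by constructor <;> simp [tv_val])
  have k12 : ∀ c : K, tv h12 c ∈ ⁅Pb K, Pb K⁆ := tv_mem_commutator s hs (dg_mem_Pb s hs) h12 (a * a)
    (by simp [s, ha]) ha1 (fun c => by rw [tv12]; constructor <;> simp [uni])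
  have k21 : ∀ c : K, tv h21 c ∈ ⁅Pb K, Pb K⁆ := tv_mem_commutator s hs (dg_mem_Pb s hs) h21 (a⁻¹ * a⁻¹)
    (by simp [s, ha]) hai (fun c => by constructor <;> simp [tv_val])
  have k02 : ∀ c : K, tv h02 c ∈ Qb K := fun c => ⟨0, c, tv02 c⟩
  refine ⟨?_, ?_⟩
  · rintro _ ⟨b, c, rfl⟩
    have h1 : uni 0 b c = tv h12 b * tv h02 c := by
      rw [tv12, tv02, uni_mul]
      congr 1 <;> ring
    rw [h1]
    exact Subgroup.mul_mem _ (le_sup_right (a := Qb K) (k12 b)) (le_sup_left (b := ⁅Pb K, Pb K⁆) (k02 c))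
  · rw [eq_top_iff, ← Cfsg.Agent.LieClassical.SLGen.closure_transvections (ι := Fin 3) (F := K), Subgroup.closure_le]
    rintro _ ⟨i, j, hij, c, rfl⟩
    set S := (Qa K ⊔ ⁅Pa K, Pa K⁆) ⊔ (Qb K ⊔ ⁅Pb K, Pb K⁆) with hS
    have l1 : ⁅Pa K, Pa K⁆ ≤ S := le_trans le_sup_right le_sup_left
    have l2 : ⁅Pb K, Pb K⁆ ≤ S := le_trans le_sup_right le_sup_right
    have l3 : Qb K ≤ S := le_trans le_sup_left le_sup_right
    change tv hij c ∈ S
    have k20 : tv h20 c ∈ S := by
      have h3 := Cfsg.Agent.LieClassical.SLGen.commutator_transvection (F := K) h20 h21 h10 c 1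
      have h4 : ⁅tv h21 c, tv h10 1⁆ = tv h20 c := by
        rw [mul_one] at h3
        exact h3
      rw [← h4, commutatorElement_def]
      have m1 := l2 (k21 c)
      have m2 := l1 (k10 1)
      exact S.mul_mem (S.mul_mem (S.mul_mem m1 m2) (S.inv_mem m1)) (S.inv_mem m2)
    fin_cases i <;> fin_cases j
    · exact absurd rfl hij
    · exact l1 (k01 c)
    · exact l3 (k02 c)
    · exact l1 (k10 c)
    · exact absurd rfl hij
    · exact l2 (k12 c)
    · exact k20
    · exact l2 (k21 c)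
    · exact absurd rfl hij

lemma trans_a {b c : K} (h : uni 0 b c ≠ 1) : ∃ g ∈ Pa K, g * uni 0 0 1 * g⁻¹ = uni 0 b c := by
  by_cases hc : c = 0
  · have hb : b ≠ 0 := by
      rintro rfl
      rw [hc] at h
      exact h uni_zero
    obtain ⟨g, hg⟩ : ∃ g : X K, g.1 = !![0, -b⁻¹, 0; b, 0, 0; 0, 0, 1] :=
      ⟨⟨!![0, -b⁻¹, 0; b, 0, 0; 0, 0, 1], by simp [Matrix.det_fin_three, hb]⟩, rfl⟩
    refine ⟨g, ⟨by rw [hg]; simp, by rw [hg]; simp⟩, ?_⟩
    rw [mul_inv_eq_iff_eq_mul]
    apply ext'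
    intro i j
    rw [mul_entry, mul_entry, hg]
    (revert i j; simp only [uni, hc, _root_.Fin.forall_fin_succ, Fin.isValue, _root_.Matrix.of_apply, _root_.Matrix.cons_val', _root_.Matrix.cons_val_zero, _root_.Matrix.cons_val_fin_one, _root_.Matrix.cons_val_one, _root_.Matrix.cons_val, _root_.mul_one, _root_.MulZeroClass.mul_zero, _root_.add_zero, _root_.zero_add, _root_.Matrix.cons_val_succ, _root_.mul_neg, _root_.forall_const, _root_.MulZeroClass.zero_mul, _root_.one_mul, _root_.and_self, _root_.neg_zero, _root_.implies_true])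
  · obtain ⟨g, hg⟩ : ∃ g : X K, g.1 = !![c, 0, 0; b, c⁻¹, 0; 0, 0, 1] :=
      ⟨⟨!![c, 0, 0; b, c⁻¹, 0; 0, 0, 1], by simp [Matrix.det_fin_three, hc]⟩, rfl⟩
    refine ⟨g, ⟨by rw [hg]; simp, by rw [hg]; simp⟩, ?_⟩
    rw [mul_inv_eq_iff_eq_mul]
    apply ext'
    intro i j
    rw [mul_entry, mul_entry, hg]
    (revert i j; simp only [uni, _root_.Fin.forall_fin_succ, Fin.isValue, _root_.Matrix.of_apply, _root_.Matrix.cons_val', _root_.Matrix.cons_val_zero, _root_.Matrix.cons_val_fin_one, _root_.Matrix.cons_val_one, _root_.Matrix.cons_val, _root_.mul_one, _root_.MulZeroClass.mul_zero, _root_.add_zero, _root_.Matrix.cons_val_succ, _root_.zero_add, _root_.forall_const, _root_.one_mul, _root_.MulZeroClass.zero_mul, _root_.and_self, _root_.implies_true])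

lemma trans_b {a c : K} (h : uni a 0 c ≠ 1) : ∃ g ∈ Pb K, g * uni 0 0 1 * g⁻¹ = uni a 0 c := by
  by_cases hc : c = 0
  · have ha : a ≠ 0 := by
      rintro rfl
      rw [hc] at h
      exact h uni_zero
    obtain ⟨g, hg⟩ : ∃ g : X K, g.1 = !![1, 0, 0; 0, 0, a⁻¹; 0, -a, 0] :=
      ⟨⟨!![1, 0, 0; 0, 0, a⁻¹; 0, -a, 0], by simp [Matrix.det_fin_three, ha]⟩, rfl⟩
    refine ⟨g, ⟨by rw [hg]; simp, by rw [hg]; simp⟩, ?_⟩
    rw [mul_inv_eq_iff_eq_mul]
    apply ext'
    intro i j
    rw [mul_entry, mul_entry, hg]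
    (revert i j; simp only [uni, hc, ha, _root_.Fin.forall_fin_succ, Fin.isValue, _root_.Matrix.of_apply, _root_.Matrix.cons_val', _root_.Matrix.cons_val_zero, _root_.Matrix.cons_val_fin_one, _root_.Matrix.cons_val_one, _root_.Matrix.cons_val, _root_.mul_one, _root_.MulZeroClass.mul_zero, _root_.add_zero, _root_.Matrix.cons_val_succ, _root_.zero_add, _root_.mul_neg, _root_.forall_const, _root_.true_and, _root_.MulZeroClass.zero_mul, _root_.neg_zero, _root_.ne_eq, _root_.not_false_eq_true, _root_.mul_inv_cancel₀, _root_.and_self, _root_.one_mul, _root_.implies_true])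
  · obtain ⟨g, hg⟩ : ∃ g : X K, g.1 = !![1, 0, 0; 0, c, 0; 0, -a, c⁻¹] :=
      ⟨⟨!![1, 0, 0; 0, c, 0; 0, -a, c⁻¹], by simp [Matrix.det_fin_three, hc]⟩, rfl⟩
    refine ⟨g, ⟨by rw [hg]; simp, by rw [hg]; simp⟩, ?_⟩
    rw [mul_inv_eq_iff_eq_mul]
    apply ext'
    intro i j
    rw [mul_entry, mul_entry, hg]
    (revert i j; simp only [uni, hc, _root_.Fin.forall_fin_succ, Fin.isValue, _root_.Matrix.of_apply, _root_.Matrix.cons_val', _root_.Matrix.cons_val_zero, _root_.Matrix.cons_val_fin_one, _root_.Matrix.cons_val_one, _root_.Matrix.cons_val, _root_.mul_one, _root_.MulZeroClass.mul_zero, _root_.add_zero, _root_.Matrix.cons_val_succ, _root_.zero_add, _root_.mul_neg, _root_.forall_const, _root_.ne_eq, _root_.not_false_eq_true, _root_.mul_inv_cancel₀, _root_.one_mul, _root_.MulZeroClass.zero_mul, _root_.neg_zero, _root_.implies_true, _root_.and_true, _root_.true_and]) <;> (repeat' with_reducible apply And.intro)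
    ring

lemma trans_of {T : Type*} [Group T] (U N : Subgroup T) (hN : ∀ t ∈ N, ∀ u ∈ U, t⁻¹ * u * t ∈ U) (e : T)
    (he : ∀ a ∈ U, a ≠ 1 → ∃ t ∈ N, t * e * t⁻¹ = a) :
    ∀ a ∈ U, ∀ b ∈ U, a ≠ 1 → b ≠ 1 → ∃ t : T, (∀ c, c ∈ U ↔ t * c * t⁻¹ ∈ U) ∧ t * a * t⁻¹ = b := by
  intro a ha b hb ha1 hb1
  obtain ⟨s, hs, hsa⟩ := he a ha ha1
  obtain ⟨r, hr, hrb⟩ := he b hb hb1
  have ht : r * s⁻¹ ∈ N := N.mul_mem hr (N.inv_mem hs)
  refine ⟨r * s⁻¹, ?_, ?_⟩
  · intro c
    constructor
    · intro hc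
      have := hN _ (N.inv_mem ht) c hc
      rwa [inv_inv] at this
    · intro hc
      have := hN _ ht _ hc
      have e1 : (r * s⁻¹)⁻¹ * (r * s⁻¹ * c * (r * s⁻¹)⁻¹) * (r * s⁻¹) = c := by group
      rwa [e1] at this
  · rw [← hsa, ← hrb]
    group

/-- the projection -/
abbrev pj (K : Type*) [Field K] : X K →* Matrix.ProjectiveSpecialLinearGroup (Fin 3) K := QuotientGroup.mk' _

lemma pj_uni_inj {a b c a' b' c' : K} (h : pj K (uni a b c) = pj K (uni a' b' c')) : uni a b c = uni a' b' c' := by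
  have h1 : (uni a b c)⁻¹ * uni a' b' c' ∈ Subgroup.center (X K) := QuotientGroup.eq.1 h
  rw [uni_inv, uni_mul] at h1
  obtain ⟨r, -, hr⟩ := Matrix.SpecialLinearGroup.mem_center_iff.1 h1
  have e1 := congrFun (congrFun hr 0) 1
  have e2 := congrFun (congrFun hr 1) 2
  have e3 := congrFun (congrFun hr 0) 2
  simp only [uni, _root_.Fin.isValue, _root_.Matrix.scalar_apply, _root_.ne_eq, _root_.zero_ne_one, _root_.not_false_eq_true, _root_.Matrix.diagonal_apply_ne, _root_.neg_mul, _root_.Matrix.of_apply, _root_.Matrix.cons_val', _root_.Matrix.cons_val_one, _root_.Matrix.cons_val_zero, _root_.Matrix.cons_val_fin_one, _root_.Fin.reduceEq, _root_.Matrix.cons_val] at e1 e2 e3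
  have f1 : a' = a := by linear_combination -e1
  have f2 : b' = b := by linear_combination -e2
  subst f1 f2
  have f3 : c' = c := by linear_combination -e3
  rw [f3]

end Gen

section Final

variable {F : Type*} [Field F]

/-- **Traces of covers of `PSL_3(4)` in dimension four, characteristic three.** -/
theorem l34_traces [Finite F] [CharP F 3] {P : Subgroup (GL (Fin 4) F)} {K : Type*} [Field K] [Fintype K]
    (hK : Fintype.card K = 4) {φ : P →* Matrix.ProjectiveSpecialLinearGroup (Fin 3) K} (h : Cov P φ) (g : P) :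
    tr g ^ 3 = tr g⁻¹ := by
  classical
  have h3 : (3 : F) = 0 := by
    have := CharP.cast_eq_zero F 3
    exact_mod_cast this
  have h2 : (2 : F) ≠ 0 := by
    intro h0
    have : (1 : F) = 0 := by linear_combination h3 - h0
    exact one_ne_zero this
  have k2 : (2 : K) = 0 := by
    have h4 : ((4 : ℕ) : K) = 0 := by rw [← hK]; exact Nat.cast_card_eq_zero K
    have h5 : (2 : K) * 2 = 0 := by rw [← h4]; norm_num
    rcases mul_eq_zero.1 h5 with h6 | h6 <;> exact h6
  obtain ⟨a, ha0, ha1⟩ : ∃ a : K, a ≠ 0 ∧ a ≠ 1 := by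
    by_contra hcon
    push Not at hcon
    have hsub : (Finset.univ : Finset K) ⊆ {0, 1} := by
      intro x _
      by_cases hx : x = 0
      · simp only [hx, _root_.Finset.mem_insert, _root_.Finset.mem_singleton, _root_.zero_ne_one, _root_.or_false]
      · simp only [hcon x hx, _root_.Finset.mem_insert, _root_.one_ne_zero, _root_.Finset.mem_singleton, _root_.or_true]
    have h6 := Finset.card_le_card hsub
    rw [Finset.card_univ, hK] at h6
    have h7 : ({0, 1} : Finset K).card ≤ 2 := Finset.card_le_two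
    omega
  have haa : a * a ≠ 1 := by
    intro h6
    have h7 : (a - 1) * (a - 1) = 0 := by linear_combination h6 + (1 - a) * k2
    rcases mul_eq_zero.1 h7 with h8 | h8 <;> exact ha1 (sub_eq_zero.1 h8)
  obtain ⟨g1, g2⟩ := gen_parabolics ha0 haa
  -- the two subgroups
  set π := pj K with hπ
  have hπs : Function.Surjective π := QuotientGroup.mk'_surjective _
  let U₁ := (Qa K).map π
  let U₂ := (Qb K).map π
  let N₁ := (Pa K).map π
  let N₂ := (Pb K).map π
  have e1 : ∀ b c b' c' : K, uni 0 b c * uni 0 b' c' = uni 0 (b + b') (c + c') := by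
    intro b c b' c'
    rw [uni_mul]
    congr 1 <;> ring
  have e2 : ∀ b c b' c' : K, uni b 0 c * uni b' 0 c' = uni (b + b') 0 (c + c') := by
    intro b c b' c'
    rw [uni_mul]
    congr 1 <;> ring
  have dbl : ∀ x : K, x + x = 0 := fun x => by linear_combination x * k2
  have sq₁ : ∀ u ∈ U₁, u * u = 1 := by
    rintro _ ⟨_, ⟨b, c, rfl⟩, rfl⟩
    rw [← map_mul, e1, dbl, dbl, uni_zero, map_one]
  have sq₂ : ∀ u ∈ U₂, u * u = 1 := by
    rintro _ ⟨_, ⟨b, c, rfl⟩, rfl⟩
    rw [← map_mul, e2, dbl, dbl, uni_zero, map_one]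
  have cm₁ : ∀ u ∈ U₁, ∀ v ∈ U₁, u * v = v * u := by
    rintro _ ⟨_, ⟨b, c, rfl⟩, rfl⟩ _ ⟨_, ⟨b', c', rfl⟩, rfl⟩
    rw [← map_mul, ← map_mul, e1, e1, add_comm b, add_comm c]
  have cm₂ : ∀ u ∈ U₂, ∀ v ∈ U₂, u * v = v * u := by
    rintro _ ⟨_, ⟨b, c, rfl⟩, rfl⟩ _ ⟨_, ⟨b', c', rfl⟩, rfl⟩
    rw [← map_mul, ← map_mul, e2, e2, add_comm b, add_comm c]
  have cardK : Nat.card (K × K) = 16 := by
    rw [Nat.card_prod, Nat.card_eq_fintype_card, hK]
  have card₁ : Nat.card U₁ = 16 := by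
    rw [← cardK]
    symm
    refine Nat.card_congr (Equiv.ofBijective (fun x : K × K => (⟨π (uni 0 x.1 x.2), ⟨_, ⟨_, _, rfl⟩, rfl⟩⟩ : U₁)) ⟨?_, ?_⟩)
    · rintro ⟨b, c⟩ ⟨b', c'⟩ hh
      have h6 := pj_uni_inj (congrArg Subtype.val hh)
      have h7 := congrFun (congrFun (congrArg Subtype.val h6) 1) 2
      have h8 := congrFun (congrFun (congrArg Subtype.val h6) 0) 2
      simp [uni] at h7 h8
      rw [h7, h8]
    · rintro ⟨_, _, ⟨b, c, rfl⟩, rfl⟩
      exact ⟨(b, c), rfl⟩
  have card₂ : Nat.card U₂ = 16 := by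
    rw [← cardK]
    symm
    refine Nat.card_congr (Equiv.ofBijective (fun x : K × K => (⟨π (uni x.1 0 x.2), ⟨_, ⟨_, _, rfl⟩, rfl⟩⟩ : U₂)) ⟨?_, ?_⟩)
    · rintro ⟨b, c⟩ ⟨b', c'⟩ hh
      have h6 := pj_uni_inj (congrArg Subtype.val hh)
      have h7 := congrFun (congrFun (congrArg Subtype.val h6) 0) 1
      have h8 := congrFun (congrFun (congrArg Subtype.val h6) 0) 2
      simp [uni] at h7 h8
      rw [h7, h8]
    · rintro ⟨_, _, ⟨b, c, rfl⟩, rfl⟩
      exact ⟨(b, c), rfl⟩
  have hN₁ : ∀ t ∈ N₁, ∀ u ∈ U₁, t⁻¹ * u * t ∈ U₁ := by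
    rintro _ ⟨s, hs, rfl⟩ _ ⟨u, hu, rfl⟩
    exact ⟨s⁻¹ * u * s, Qa_normal s hs u hu, by simp only [_root_.map_mul, _root_.map_inv]⟩
  have hN₂ : ∀ t ∈ N₂, ∀ u ∈ U₂, t⁻¹ * u * t ∈ U₂ := by
    rintro _ ⟨s, hs, rfl⟩ _ ⟨u, hu, rfl⟩
    exact ⟨s⁻¹ * u * s, Qb_normal s hs u hu, by simp only [_root_.map_mul, _root_.map_inv]⟩
  have fin₁ : Finite U₁ := Nat.finite_of_card_ne_zero (by rw [card₁]; norm_num)
  have fin₂ : Finite U₂ := Nat.finite_of_card_ne_zero (by rw [card₂]; norm_num)
  have tr₁ := trans_of U₁ N₁ hN₁ (π (uni 0 0 1)) (by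
    rintro _ ⟨_, ⟨b, c, rfl⟩, rfl⟩ hne
    obtain ⟨g, hg, hgg⟩ := trans_a (b := b) (c := c) (by rintro h0; rw [h0, map_one] at hne; exact hne rfl)
    exact ⟨π g, ⟨g, hg, rfl⟩, by rw [← hgg]; simp only [_root_.map_mul, _root_.map_inv]⟩)
  have tr₂ := trans_of U₂ N₂ hN₂ (π (uni 0 0 1)) (by
    rintro _ ⟨_, ⟨b, c, rfl⟩, rfl⟩ hne
    obtain ⟨g, hg, hgg⟩ := trans_b (a := b) (c := c) (by rintro h0; rw [h0, map_one] at hne; exact hne rfl)
    exact ⟨π g, ⟨g, hg, rfl⟩, by rw [← hgg]; simp only [_root_.map_mul, _root_.map_inv]⟩)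
  have z₁ : ∀ x : P, φ x ∈ U₁ → φ x ≠ 1 → tr x = 0 := fun x =>
    tr_eq_zero h h2 U₁ (by rw [card₁]; norm_num) sq₁ cm₁ tr₁
  have z₂ : ∀ x : P, φ x ∈ U₂ → φ x ≠ 1 → tr x = 0 := fun x =>
    tr_eq_zero h h2 U₂ (by rw [card₂]; norm_num) sq₂ cm₂ tr₂
  refine cov_amalgam h U₁ U₂ N₁ N₂ (span_eq_top h h2 U₁ card₁ z₁) (span_eq_top h h2 U₂ card₂ z₂) z₁ z₂ hN₁ hN₂
    ?_ ?_ g
  · have := Subgroup.map_mono (f := π) g1
    rwa [Subgroup.map_sup, Subgroup.map_commutator] at this
  · have := congrArg (Subgroup.map π) g2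
    rwa [Subgroup.map_sup, Subgroup.map_sup, Subgroup.map_sup, Subgroup.map_commutator, Subgroup.map_commutator,
      Subgroup.map_top_of_surjective π hπs] at this

end Final

end Cfsg.Agent.H906.L34
end

private theorem dce_c0a5a7bac4f8 : _root_.True := by
  try have : _root_.True := by simp only [_root_.Cfsg.Agent.H906.L34.dg.eq_1]
  try have : _root_.True := by simp only [_root_.Cfsg.Agent.H906.L34.tv.congr_simp]
  exact _root_.True.intro
end

-- part: H906/T14Cls
section
prune_inst 0x404440302202000000009011000000040005b000000000c0a0014200010062090220410e0004101208200120010020024c0030400000000a00000000040000000000020100000002008e000080000000000000000000000000000000000004000000000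
set_option linter.all false
open scoped Cfsg.Agent.FastGrp

/-!
# Elements of `PSL_3(4)`

* `pow_cases` : `t ^ 3 = 1` or `t ^ 4 = 1` or `t ^ 5 = 1` or `t ^ 7 = 1`;
* `conj_invol` : involutions are conjugate;
* `two_elt` : an element with `t ^ 4 = 1` is conjugate to `π (uni 0 b c) * π (uni a 0 0)`;
* `inv_three`, `inv_five` : elements of order three and five are inverted by involutions;
* `seven` : elements of order seven are conjugate to their squares.
-/

set_option autoImplicit false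
set_option linter.unusedSectionVars false

namespace Cfsg.Agent.H906.T14

open Cfsg Cfsg.Geo SL3Par L34
open scoped MatrixGroups commutatorElement Matrix Pointwise

variable {K : Type*} [Field K]

lemma two_zero [Fintype K] (hK : Fintype.card K = 4) : (2 : K) = 0 := by
  have h4 : ((4 : ℕ) : K) = 0 := by rw [← hK]; exact Nat.cast_card_eq_zero K
  have h5 : (2 : K) * 2 = 0 := by rw [← h4]; norm_num
  rcases mul_eq_zero.1 h5 with h6 | h6 <;> exact h6

lemma cube_one [Fintype K] (hK : Fintype.card K = 4) {a : K} (ha : a ≠ 0) : a ^ 3 = 1 := by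
  have := FiniteField.pow_card_sub_one_eq_one a ha
  rwa [hK] at this

lemma add_self [Fintype K] (hK : Fintype.card K = 4) (a : K) : a + a = 0 := by
  linear_combination a * two_zero hK

/-- polynomial identities for matrices -/
lemma pow_of_rel [Fintype K] (hK : Fintype.card K = 4) {N : Matrix (Fin 3) (Fin 3) K} {a b : K}
    (h : N ^ 3 = a • N ^ 2 + b • N + 1) :
    (a = 0 → b = 0 → N ^ 3 = 1) ∧ (a = 1 → b = 1 → N ^ 4 = 1) ∧ (a = b → a ^ 2 + a + 1 = 0 → N ^ 5 = 1) ∧
      (a = 0 → b = 1 → N ^ 7 = 1) ∧ (a = 1 → b = 0 → N ^ 7 = 1) := by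
  have h2 := two_zero hK
  have dd : ∀ M : Matrix (Fin 3) (Fin 3) K, M + M = 0 := by
    intro M
    rw [← two_smul K M, h2, zero_smul]
  have e4 : N ^ 4 = (a ^ 2 + b) • N ^ 2 + (a * b + 1) • N + a • 1 := by
    calc N ^ 4 = N ^ 3 * N := by rw [← pow_succ]
      _ = a • N ^ 3 + b • N ^ 2 + N := by
        rw [h]
        simp only [add_mul, smul_mul_assoc, one_mul, ← pow_succ, ← pow_two]
        rw [h]
      _ = _ := by rw [h]; module
  refine ⟨?_, ?_, ?_, ?_, ?_⟩
  · rintro rfl rfl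
    rw [h]; simp
  · rintro rfl rfl
    rw [e4]
    have k1 : (1 ^ 2 + 1 : K) = 0 := by linear_combination h2
    have k2 : (1 * 1 + 1 : K) = 0 := by linear_combination h2
    rw [k1, k2]; simp
  · rintro rfl ha
    have k1 : a ^ 2 + a = 1 := by linear_combination ha - h2
    have k2 : a * a + 1 = a := by linear_combination ha - a * h2
    rw [k1, k2] at e4
    calc N ^ 5 = N ^ 4 * N := by rw [← pow_succ]
      _ = N ^ 3 + a • N ^ 2 + a • N := by
        rw [e4]
        simp only [add_mul, smul_mul_assoc, one_mul, one_smul, ← pow_succ, ← pow_two]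
      _ = (a • N ^ 2 + a • N ^ 2) + (a • N + a • N) + 1 := by rw [h]; abel
      _ = 1 := by rw [dd, dd]; simp
  · rintro rfl rfl
    have h' : N ^ 3 = N + 1 := by rw [h]; simp
    calc N ^ 7 = N ^ 3 * N ^ 3 * N := by rw [← pow_add, ← pow_succ]
      _ = (N + 1) * (N + 1) * N := by rw [h']
      _ = N ^ 3 + (N ^ 2 + N ^ 2) + N := by noncomm_ring
      _ = (N + N) + 1 := by rw [dd, h']; abel
      _ = 1 := by rw [dd]; simp
  · rintro rfl rfl
    have h' : N ^ 3 = N ^ 2 + 1 := by rw [h]; simp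
    calc N ^ 7 = N ^ 3 * N ^ 3 * N := by rw [← pow_add, ← pow_succ]
      _ = (N ^ 2 + 1) * (N ^ 2 + 1) * N := by rw [h']
      _ = N ^ 3 * N ^ 2 + (N ^ 3 + N ^ 3) + N := by noncomm_ring
      _ = (N ^ 2 + 1) * N ^ 2 + N := by rw [dd, h']; abel
      _ = N ^ 3 * N + N ^ 2 + N := by noncomm_ring
      _ = (N ^ 2 + 1) * N + N ^ 2 + N := by rw [h']
      _ = N ^ 3 + N ^ 2 + (N + N) := by noncomm_ring
      _ = (N ^ 2 + N ^ 2) + 1 := by rw [dd, h']; abel
      _ = 1 := by rw [dd]; simp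

lemma pj_eq_one_of_smul {g : X K} {c : K} (h : g.1 = c • (1 : Matrix (Fin 3) (Fin 3) K)) : pj K g = 1 := by
  rw [QuotientGroup.mk'_apply, QuotientGroup.eq_one_iff, Subgroup.mem_center_iff]
  intro x
  apply Subtype.ext
  change x.1 * g.1 = g.1 * x.1
  rw [h, mul_smul_comm, smul_mul_assoc, mul_one, one_mul]

/-- orders of elements -/
theorem pow_cases [Fintype K] (hK : Fintype.card K = 4) (t : Matrix.ProjectiveSpecialLinearGroup (Fin 3) K) :
    t ^ 3 = 1 ∨ t ^ 4 = 1 ∨ t ^ 5 = 1 ∨ t ^ 7 = 1 := by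
  obtain ⟨g, rfl⟩ : ∃ g : X K, pj K g = t := QuotientGroup.mk'_surjective _ t
  have h2 := two_zero hK
  have h0 := H906.cayley_three g.1
  have hdet : g.1.det = 1 := g.2
  set a := g.1.trace
  set b := g.1.adjugate.trace
  have h1 : g.1 ^ 3 = a • g.1 ^ 2 + b • g.1 + 1 := by
    rw [h0, hdet, one_smul]
    have : b • g.1 + b • g.1 = 0 := by rw [← add_smul, add_self hK, zero_smul]
    have h4 : - (b • g.1) = b • g.1 := neg_eq_of_add_eq_zero_left this
    rw [sub_eq_add_neg, h4]
  -- scaling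
  have scale : ∀ c : K, c ≠ 0 → (c • g.1) ^ 3 = (c * a) • (c • g.1) ^ 2 + (c ^ 2 * b) • (c • g.1) + 1 := by
    intro c hc
    have hc3 := cube_one hK hc
    rw [smul_pow, smul_pow, hc3, one_smul, h1, smul_smul, smul_smul]
    have e1 : c * a * c ^ 2 = a := by linear_combination a * hc3
    have e2 : c ^ 2 * b * c = b := by linear_combination b * hc3
    rw [e1, e2]
  have fin : ∀ (c : K) (m : ℕ), c ≠ 0 → (c • g.1) ^ m = 1 → pj K g ^ m = 1 := by
    intro c m hc hm
    rw [← map_pow]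
    apply pj_eq_one_of_smul (c := (c ^ m)⁻¹)
    have h5 : (g ^ m).1 = g.1 ^ m := rfl
    rw [h5, ← hm, smul_pow, smul_smul, inv_mul_cancel₀ (pow_ne_zero _ hc), one_smul]
  by_cases ha : a = 0
  · by_cases hb : b = 0
    · left
      apply fin 1 3 one_ne_zero
      exact (pow_of_rel hK (scale 1 one_ne_zero)).1 (by rw [ha, mul_zero]) (by rw [hb, mul_zero])
    · right; right; right
      apply fin b 7 hb
      exact (pow_of_rel hK (scale b hb)).2.2.2.1 (by rw [ha, mul_zero]) (by rw [← pow_succ, cube_one hK hb])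
  · by_cases hb : b = 0
    · right; right; right
      have ha2 : a ^ 2 ≠ 0 := pow_ne_zero _ ha
      apply fin (a ^ 2) 7 ha2
      exact (pow_of_rel hK (scale (a ^ 2) ha2)).2.2.2.2 (by rw [← pow_succ, cube_one hK ha]) (by rw [hb, mul_zero])
    · have ha3 := cube_one hK ha
      have hb3 := cube_one hK hb
      by_cases hab : a * b = 1
      · right; left
        have ha2 : a ^ 2 ≠ 0 := pow_ne_zero _ ha
        apply fin (a ^ 2) 4 ha2
        refine (pow_of_rel hK (scale (a ^ 2) ha2)).2.1 (by rw [← pow_succ, ha3]) ?_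
        linear_combination hab + (a * b) * ha3
      · right; right; left
        have hc : a * b ^ 2 ≠ 0 := mul_ne_zero ha (pow_ne_zero _ hb)
        apply fin (a * b ^ 2) 5 hc
        refine (pow_of_rel hK (scale (a * b ^ 2) hc)).2.2.1 ?_ ?_
        · linear_combination (-(a ^ 2 * b ^ 2)) * hb3
        · have hne : a * b - 1 ≠ 0 := sub_ne_zero.2 hab
          have h6 : (a * b ^ 2 * a) ^ 3 = 1 := by
            rw [mul_pow, mul_pow, ha3, ← pow_mul, mul_comm 2 3, pow_mul, hb3]; simp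
          have h7 : a * b ^ 2 * a ≠ 1 := by
            intro h8
            have h9 : (a * b - 1) * (a * b + 1) = 0 := by linear_combination h8
            rcases mul_eq_zero.1 h9 with h10 | h10
            · exact hne h10
            · apply hne
              linear_combination h10 - h2
          have h8 : (a * b ^ 2 * a - 1) * ((a * b ^ 2 * a) ^ 2 + (a * b ^ 2 * a) + 1) = 0 := by
            linear_combination h6
          exact (mul_eq_zero.1 h8).resolve_left (sub_ne_zero.2 h7)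

/-! ### Sylow subgroups -/

lemma card_T [Fintype K] (hK : Fintype.card K = 4) :
    Nat.card (Matrix.ProjectiveSpecialLinearGroup (Fin 3) K) = 20160 := by
  have h := Cfsg.Agent.S0243.result (F := K) hK 3 (by norm_num)
  rw [Fin.prod_univ_three] at h
  norm_num only [_root_.Fin.coe_ofNat_eq_mod, _root_.pow_zero, _root_.Nat.add_one_sub_one, _root_.pow_one] at h
  omega

/-- elements of a `p`-group are conjugate into a given subgroup of Sylow order -/
lemma conj_into {T : Type*} [Group T] [Finite T] (p : ℕ) [Fact p.Prime] (S : Subgroup T) {k m : ℕ}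
    (hS : Nat.card S = p ^ k) (hT : Nat.card T = p ^ k * m) (hm : ¬ p ∣ m) {t : T} {j : ℕ} (ht : t ^ p ^ j = 1) :
    ∃ g : T, g * t * g⁻¹ ∈ S := by
  have hSp : IsPGroup p S := IsPGroup.of_card hS
  have hidx : ¬ p ∣ S.index := by
    intro hd
    have h1 := Subgroup.card_mul_index S
    rw [hS, hT] at h1
    have h2 : S.index = m := Nat.eq_of_mul_eq_mul_left (pow_pos (Fact.out : p.Prime).pos k) h1
    rw [h2] at hd
    exact hm hd
  let Q : Sylow p T := hSp.toSylow hidx
  have htp : IsPGroup p (Subgroup.zpowers t) := by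
    have : Nat.card (Subgroup.zpowers t) ∣ p ^ j := by
      rw [Nat.card_zpowers]
      exact orderOf_dvd_of_pow_eq_one ht
    obtain ⟨i, -, hi⟩ := (Nat.dvd_prime_pow (Fact.out : p.Prime)).1 this
    exact IsPGroup.of_card hi
  obtain ⟨R, hR⟩ := htp.exists_le_sylow
  obtain ⟨g, hg⟩ := MulAction.exists_smul_eq T R Q
  refine ⟨g, ?_⟩
  have h3 : g * t * g⁻¹ ∈ (MulAut.conj g • (R : Subgroup T)) := by
    have := Subgroup.smul_mem_pointwise_smul t (MulAut.conj g) (R : Subgroup T) (hR (Subgroup.mem_zpowers t))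
    exact this
  have h4 : MulAut.conj g • (R : Subgroup T) = S := by
    have h5 : ((g • R : Sylow p T) : Subgroup T) = (Q : Subgroup T) := by rw [hg]
    exact h5
  rwa [h4] at h3

lemma fin_T [Finite K] : Finite (Matrix.ProjectiveSpecialLinearGroup (Fin 3) K) :=
  Finite.of_surjective _ (QuotientGroup.mk'_surjective (Subgroup.center (X K)))

lemma sl_pow_val (g : X K) (n : ℕ) : (g ^ n).1 = g.1 ^ n := rfl

/-! ### involutions and elements of order four -/

theorem two_elt [Fintype K] (hK : Fintype.card K = 4) {t : Matrix.ProjectiveSpecialLinearGroup (Fin 3) K}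
    (ht : t ^ 4 = 1) : ∃ g, ∃ a b c : K, g * t * g⁻¹ = pj K (uni a b c) := by
  have := fin_T (K := K)
  have hf : Fact (Nat.Prime 2) := ⟨Nat.prime_two⟩
  have hcard : Nat.card ((U K).map (pj K)) = 2 ^ 6 := by
    have h1 : Nat.card (K × K × K) = 2 ^ 6 := by
      rw [Nat.card_prod, Nat.card_prod, Nat.card_eq_fintype_card, hK]
      norm_num
    rw [← h1]
    symm
    refine Nat.card_congr (Equiv.ofBijective (fun x : K × K × K =>
      (⟨pj K (uni x.1 x.2.1 x.2.2), ⟨_, ⟨_, _, _, rfl⟩, rfl⟩⟩ : (U K).map (pj K))) ⟨?_, ?_⟩)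
    · rintro ⟨a, b, c⟩ ⟨a', b', c'⟩ hh
      have h6 := pj_uni_inj (congrArg Subtype.val hh)
      have h7 := congrFun (congrFun (congrArg Subtype.val h6) 1) 2
      have h8 := congrFun (congrFun (congrArg Subtype.val h6) 0) 2
      have h9 := congrFun (congrFun (congrArg Subtype.val h6) 0) 1
      simp only [uni, _root_.Cfsg.Agent.H906.SL3Par.uni, _root_.Fin.isValue, _root_.Matrix.of_apply, _root_.Matrix.cons_val', _root_.Matrix.cons_val, _root_.Matrix.cons_val_fin_one, _root_.Matrix.cons_val_one, _root_.Matrix.cons_val_zero] at h7 h8 h9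
      rw [h7, h8, h9]
    · rintro ⟨_, _, ⟨a, b, c, rfl⟩, rfl⟩
      exact ⟨(a, b, c), rfl⟩
  obtain ⟨g, hg⟩ := conj_into 2 ((U K).map (pj K)) hcard (m := 315) (by rw [card_T hK]; norm_num) (by norm_num)
    (t := t) (j := 2) (by simpa only [_root_.Nat.reducePow] using ht)
  obtain ⟨_, ⟨a, b, c, rfl⟩, h⟩ := hg
  exact ⟨g, a, b, c, h.symm⟩

lemma uni_split (a b c : K) : uni a b c = uni 0 b c * uni a 0 0 := by
  rw [uni_mul]
  congr 1 <;> ring

lemma conj_base [Fintype K] (hK : Fintype.card K = 4) {t : Matrix.ProjectiveSpecialLinearGroup (Fin 3) K}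
    (ht : t ^ 2 = 1) (ht1 : t ≠ 1) : ∃ g, g * pj K (uni 0 0 1) * g⁻¹ = t := by
  obtain ⟨g, a, b, c, hg⟩ := two_elt hK (t := t) (by rw [show (4 : ℕ) = 2 * 2 by norm_num, pow_mul, ht, one_pow])
  have h1 : pj K (uni a b c) ^ 2 = 1 := by rw [← hg, conj_pow, ht, mul_one, mul_inv_cancel]
  have h2 : pj K (uni 0 0 (a * b)) = pj K (uni 0 0 0) := by
    rw [uni_zero, map_one, ← h1, ← map_pow, pow_two, uni_mul, add_self hK, add_self hK, add_self hK, zero_add]
  have h3 := congrFun (congrFun (congrArg Subtype.val (pj_uni_inj h2)) 0) 2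
  simp [uni] at h3
  have h4 : ∃ x : X K, pj K (x * uni 0 0 1 * x⁻¹) = pj K (uni a b c) := by
    have hne : uni a b c ≠ 1 := by
      intro h0
      apply ht1
      rw [h0, map_one] at hg
      have : t = g⁻¹ * (g * t * g⁻¹) * g := by group
      rw [this, hg]; group
    rcases h3 with h3 | h3
    · subst h3
      obtain ⟨x, -, hx⟩ := trans_a hne
      exact ⟨x, by rw [hx]⟩
    · subst h3
      obtain ⟨x, -, hx⟩ := trans_b hne
      exact ⟨x, by rw [hx]⟩
  obtain ⟨x, hx⟩ := h4
  refine ⟨g⁻¹ * pj K x, ?_⟩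
  rw [← hg, map_mul, map_mul, map_inv] at hx
  calc g⁻¹ * pj K x * pj K (uni 0 0 1) * (g⁻¹ * pj K x)⁻¹ = g⁻¹ * (pj K x * pj K (uni 0 0 1) * (pj K x)⁻¹) * g := by
        group
    _ = g⁻¹ * (g * t * g⁻¹) * g := by rw [hx]
    _ = t := by group

theorem conj_invol [Fintype K] (hK : Fintype.card K = 4) {s t : Matrix.ProjectiveSpecialLinearGroup (Fin 3) K}
    (hs : s ^ 2 = 1) (hs1 : s ≠ 1) (ht : t ^ 2 = 1) (ht1 : t ≠ 1) : ∃ g, g * s * g⁻¹ = t := by
  obtain ⟨x, hx⟩ := conj_base hK hs hs1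
  obtain ⟨y, hy⟩ := conj_base hK ht ht1
  refine ⟨y * x⁻¹, ?_⟩
  rw [← hx, ← hy]
  group

/-! ### elements of order three, five and seven -/

lemma cay [Fintype K] (hK : Fintype.card K = 4) (g : X K) :
    g.1 ^ 3 = g.1.trace • g.1 ^ 2 + g.1.adjugate.trace • g.1 + 1 := by
  have h0 := H906.cayley_three g.1
  have hdet : g.1.det = 1 := g.2
  rw [h0, hdet, one_smul]
  have : g.1.adjugate.trace • g.1 + g.1.adjugate.trace • g.1 = 0 := by rw [← add_smul, add_self hK, zero_smul]
  have h4 : - (g.1.adjugate.trace • g.1) = g.1.adjugate.trace • g.1 := neg_eq_of_add_eq_zero_left this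
  rw [sub_eq_add_neg, h4]

lemma exists_w [Fintype K] (hK : Fintype.card K = 4) : ∃ w : K, w ^ 2 + w + 1 = 0 := by
  classical
  obtain ⟨a, ha0, ha1⟩ : ∃ a : K, a ≠ 0 ∧ a ≠ 1 := by
    by_contra hcon
    push Not at hcon
    have hsub : (Finset.univ : Finset K) ⊆ {0, 1} := by
      intro x _
      by_cases hx : x = 0
      · simp only [hx, _root_.Finset.mem_insert, _root_.Finset.mem_singleton, _root_.zero_ne_one, _root_.or_false]
      · simp only [hcon x hx, _root_.Finset.mem_insert, _root_.one_ne_zero, _root_.Finset.mem_singleton, _root_.or_true]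
    have h6 := Finset.card_le_card hsub
    rw [Finset.card_univ, hK] at h6
    have h7 : ({0, 1} : Finset K).card ≤ 2 := Finset.card_le_two
    omega
  refine ⟨a, ?_⟩
  have h3 := cube_one hK ha0
  have h4 : (a - 1) * (a ^ 2 + a + 1) = 0 := by linear_combination h3
  exact (mul_eq_zero.1 h4).resolve_left (sub_ne_zero.2 ha1)

/-- powers of an element inverted by `s` -/
lemma conj_pow_of {T : Type*} [Group T] {x s : T} {k : ℕ} (h : s * x * s⁻¹ = x ^ k) (j : ℤ) :
    s * (x ^ j) * s⁻¹ = (x ^ j) ^ k := by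
  rw [← conj_zpow, h, ← zpow_natCast, ← zpow_mul, ← zpow_natCast, ← zpow_mul, mul_comm]

theorem inv_five [Fintype K] (hK : Fintype.card K = 4) {t : Matrix.ProjectiveSpecialLinearGroup (Fin 3) K}
    (ht : t ^ 5 = 1) : ∃ s, s ^ 2 = 1 ∧ s * t * s⁻¹ = t⁻¹ := by
  have := fin_T (K := K)
  have hf : Fact (Nat.Prime 5) := ⟨Nat.prime_five⟩
  have k2 := two_zero hK
  obtain ⟨w, hw⟩ := exists_w hK
  obtain ⟨x, hx⟩ : ∃ x : X K, x.1 = !![0, 1, 0; 1, w, 0; 0, 0, 1] :=
    ⟨⟨!![0, 1, 0; 1, w, 0; 0, 0, 1], by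
      rw [Matrix.det_fin_three]
      simp
      linear_combination -k2⟩, rfl⟩
  obtain ⟨τ, hτ⟩ : ∃ x : X K, x.1 = !![0, 1, 0; 1, 0, 0; 0, 0, 1] :=
    ⟨⟨!![0, 1, 0; 1, 0, 0; 0, 0, 1], by
      rw [Matrix.det_fin_three]
      simp
      linear_combination -k2⟩, rfl⟩
  have h5 : x ^ 5 = 1 := by
    apply Subtype.ext
    rw [sl_pow_val]
    refine (pow_of_rel hK (cay hK x)).2.2.1 ?_ ?_
    · rw [hx, Matrix.adjugate_fin_three, Matrix.trace_fin_three, Matrix.trace_fin_three]
      simp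
      linear_combination k2
    · rw [hx, Matrix.trace_fin_three]
      simp only [_root_.Fin.isValue, _root_.Matrix.of_apply, _root_.Matrix.cons_val', _root_.Matrix.cons_val_zero, _root_.Matrix.cons_val_fin_one, _root_.Matrix.cons_val_one, _root_.zero_add, _root_.Matrix.cons_val]
      linear_combination hw + (w + 1) * k2
  have hττ : τ * τ = 1 := by
    apply ext'
    intro i j
    rw [mul_entry, hτ]
    (revert i j; simp only [_root_.Fin.forall_fin_succ, Fin.isValue, _root_.Matrix.of_apply, _root_.Matrix.cons_val', _root_.Matrix.cons_val_zero, _root_.Matrix.cons_val_fin_one, _root_.Matrix.cons_val_one, _root_.Matrix.cons_val, _root_.Matrix.SpecialLinearGroup.coe_one, _root_.MulZeroClass.mul_zero, _root_.mul_one, _root_.zero_add, _root_.add_zero, _root_.Matrix.cons_val_succ, _root_.IsEmpty.forall_iff, _root_.and_true, _root_.Matrix.one_apply_eq, Nat.reduceAdd, _root_.Fin.succ_zero_eq_one, _root_.ne_eq, _root_.zero_ne_one, _root_.not_false_eq_true, _root_.Matrix.one_apply_ne,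 _root_.Fin.succ_one_eq_two, Fin.reduceEq, _root_.and_self, _root_.Fin.succ_ne_zero, _root_.true_and])
  have hτx : (τ * x) * (τ * x) = 1 := by
    have h1 : (τ * x).1 = !![1, w, 0; 0, 1, 0; 0, 0, 1] := by
      ext i j
      rw [mul_entry, hτ, hx]
      (revert i j; simp only [_root_.Fin.forall_fin_succ, Fin.isValue, _root_.Matrix.of_apply, _root_.Matrix.cons_val', _root_.Matrix.cons_val_zero, _root_.Matrix.cons_val_fin_one, _root_.Matrix.cons_val_one, _root_.Matrix.cons_val, _root_.MulZeroClass.mul_zero, _root_.mul_one, _root_.zero_add, _root_.add_zero, _root_.Matrix.cons_val_succ, _root_.implies_true, _root_.and_true, _root_.true_and, _root_.one_mul, _root_.add_eq_left, _root_.mul_eq_zero, _root_.true_or, _root_.and_self])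
    apply ext'
    intro i j
    rw [mul_entry, h1]
    (revert i j; simp only [_root_.Fin.forall_fin_succ, Fin.isValue, _root_.Matrix.of_apply, _root_.Matrix.cons_val', _root_.Matrix.cons_val_zero, _root_.Matrix.cons_val_fin_one, _root_.Matrix.cons_val_one, _root_.Matrix.cons_val, _root_.Matrix.SpecialLinearGroup.coe_one, _root_.mul_one, _root_.MulZeroClass.mul_zero, _root_.add_zero, _root_.Matrix.cons_val_succ, _root_.zero_add, _root_.IsEmpty.forall_iff, _root_.Matrix.one_apply_eq, _root_.one_mul, Nat.reduceAdd, _root_.Fin.succ_zero_eq_one, _root_.ne_eq, _root_.zero_ne_one, _root_.not_false_eq_true, _root_.Matrix.one_apply_ne, _root_.Fin.succ_one_eq_two, Fin.reduceEq, _root_.Fin.succ_ne_zero, _root_.MulZeroClass.zero_mul, _root_.and_true, _root_.true_and]) <;> (repeat' with_reducible apply And.intro)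
    linear_combination w * k2
  have hinv : pj K τ * pj K x * (pj K τ)⁻¹ = pj K x ^ 4 := by
    have e1 : (pj K τ)⁻¹ = pj K τ := by
      rw [inv_eq_iff_mul_eq_one, ← map_mul, hττ, map_one]
    have e2 : pj K x ^ 4 = (pj K x)⁻¹ := by
      rw [eq_inv_iff_mul_eq_one, ← pow_succ, ← map_pow, h5, map_one]
    rw [e1, e2, eq_inv_iff_mul_eq_one]
    have := congrArg (pj K) hτx
    rw [map_mul, map_mul, map_one] at this
    rw [← this]
    group
  have hx1 : pj K x ≠ 1 := by
    intro h0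
    have h1 : x ∈ Subgroup.center (X K) := (QuotientGroup.eq_one_iff x).1 h0
    obtain ⟨r, -, hr⟩ := Matrix.SpecialLinearGroup.mem_center_iff.1 h1
    have := congrFun (congrFun hr 0) 1
    rw [hx] at this
    simp at this
  have hord : orderOf (pj K x) = 5 := orderOf_eq_prime (by rw [← map_pow, h5, map_one]) hx1
  obtain ⟨g, hg⟩ := conj_into 5 (Subgroup.zpowers (pj K x)) (k := 1) (by rw [Nat.card_zpowers, hord, pow_one])
    (m := 4032) (by rw [card_T hK]; norm_num) (by norm_num) (t := t) (j := 1) (by simpa only [_root_.pow_one] using ht)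
  obtain ⟨j, hj⟩ := Subgroup.mem_zpowers_iff.1 hg
  refine ⟨g⁻¹ * pj K τ * g, ?_, ?_⟩
  · have e1 : pj K τ ^ 2 = 1 := by rw [pow_two, ← map_mul, hττ, map_one]
    calc (g⁻¹ * pj K τ * g) ^ 2 = g⁻¹ * pj K τ ^ 2 * g := by rw [pow_two, pow_two]; group
      _ = 1 := by rw [e1]; group
  · have h6 := conj_pow_of hinv j
    rw [hj] at h6
    have h7 : (g * t * g⁻¹) ^ 4 = g * t⁻¹ * g⁻¹ := by
      rw [conj_pow]
      (with_reducible congr 2)
      rw [eq_inv_iff_mul_eq_one, ← pow_succ, ht]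
    rw [h7] at h6
    calc g⁻¹ * pj K τ * g * t * (g⁻¹ * pj K τ * g)⁻¹ = g⁻¹ * (pj K τ * (g * t * g⁻¹) * (pj K τ)⁻¹) * g := by group
      _ = g⁻¹ * (g * t⁻¹ * g⁻¹) * g := by rw [h6]
      _ = t⁻¹ := by group

theorem seven [Fintype K] (hK : Fintype.card K = 4) {t : Matrix.ProjectiveSpecialLinearGroup (Fin 3) K}
    (ht : t ^ 7 = 1) : ∃ s, s * t * s⁻¹ = t ^ 2 := by
  have := fin_T (K := K)
  have hf : Fact (Nat.Prime 7) := ⟨by norm_num⟩
  have k2 := two_zero hK
  obtain ⟨x, hx⟩ : ∃ x : X K, x.1 = !![0, 0, 1; 1, 0, 1; 0, 1, 0] :=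
    ⟨⟨!![0, 0, 1; 1, 0, 1; 0, 1, 0], by
      rw [Matrix.det_fin_three]
      simp⟩, rfl⟩
  obtain ⟨y, hy⟩ : ∃ x : X K, x.1 = !![1, 0, 0; 0, 0, 1; 0, 1, 1] :=
    ⟨⟨!![1, 0, 0; 0, 0, 1; 0, 1, 1], by
      rw [Matrix.det_fin_three]
      simp
      linear_combination -k2⟩, rfl⟩
  have h7 : x ^ 7 = 1 := by
    apply Subtype.ext
    rw [sl_pow_val]
    refine (pow_of_rel hK (cay hK x)).2.2.2.1 ?_ ?_
    · rw [hx, Matrix.trace_fin_three]
      simp
    · rw [hx, Matrix.adjugate_fin_three, Matrix.trace_fin_three]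
      simp
      linear_combination -k2
  have hyx : y * x = x * x * y := by
    have h1 : (x * x).1 = !![0, 1, 0; 0, 1, 1; 1, 0, 1] := by
      ext i j
      rw [mul_entry, hx]
      (revert i j; simp only [_root_.Fin.forall_fin_succ, Fin.isValue, _root_.Matrix.of_apply, _root_.Matrix.cons_val', _root_.Matrix.cons_val_zero, _root_.Matrix.cons_val_fin_one, _root_.Matrix.cons_val_one, _root_.Matrix.cons_val, _root_.MulZeroClass.mul_zero, _root_.mul_one, _root_.zero_add, _root_.add_zero, _root_.Matrix.cons_val_succ, _root_.forall_const, _root_.true_and, _root_.implies_true, _root_.and_self])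
    apply ext'
    intro i j
    rw [mul_entry, mul_entry, h1, hx, hy]
    (revert i j; simp only [_root_.Fin.forall_fin_succ, Fin.isValue, _root_.Matrix.of_apply, _root_.Matrix.cons_val', _root_.Matrix.cons_val_zero, _root_.Matrix.cons_val_fin_one, _root_.Matrix.cons_val_one, _root_.Matrix.cons_val, _root_.MulZeroClass.mul_zero, _root_.mul_one, _root_.zero_add, _root_.add_zero, _root_.Matrix.cons_val_succ, _root_.forall_const, _root_.implies_true, _root_.and_true, _root_.true_and]) <;> (repeat' with_reducible apply And.intro)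
    all_goals first | linear_combination k2 | linear_combination -k2
  have hinv : pj K y * pj K x * (pj K y)⁻¹ = pj K x ^ 2 := by
    rw [mul_inv_eq_iff_eq_mul, ← map_mul, hyx, map_mul, map_mul, pow_two]
  have hx1 : pj K x ≠ 1 := by
    intro h0
    have h1 : x ∈ Subgroup.center (X K) := (QuotientGroup.eq_one_iff x).1 h0
    obtain ⟨r, -, hr⟩ := Matrix.SpecialLinearGroup.mem_center_iff.1 h1
    have := congrFun (congrFun hr 0) 2
    rw [hx] at this
    simp at this
  have hord : orderOf (pj K x) = 7 := orderOf_eq_prime (by rw [← map_pow, h7, map_one]) hx1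
  obtain ⟨g, hg⟩ := conj_into 7 (Subgroup.zpowers (pj K x)) (k := 1) (by rw [Nat.card_zpowers, hord, pow_one])
    (m := 2880) (by rw [card_T hK]; norm_num) (by norm_num) (t := t) (j := 1) (by simpa only [_root_.pow_one] using ht)
  obtain ⟨j, hj⟩ := Subgroup.mem_zpowers_iff.1 hg
  refine ⟨g⁻¹ * pj K y * g, ?_⟩
  have h6 := conj_pow_of hinv j
  rw [hj] at h6
  rw [conj_pow] at h6
  calc g⁻¹ * pj K y * g * t * (g⁻¹ * pj K y * g)⁻¹ = g⁻¹ * (pj K y * (g * t * g⁻¹) * (pj K y)⁻¹) * g := by group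
    _ = g⁻¹ * (g * t ^ 2 * g⁻¹) * g := by rw [h6]
    _ = t ^ 2 := by group

theorem inv_three [Fintype K] (hK : Fintype.card K = 4) {t : Matrix.ProjectiveSpecialLinearGroup (Fin 3) K}
    (ht : t ^ 3 = 1) : ∃ s, s ^ 2 = 1 ∧ s * t * s⁻¹ = t⁻¹ := by
  have := fin_T (K := K)
  have hf : Fact (Nat.Prime 3) := ⟨Nat.prime_three⟩
  have k2 := two_zero hK
  obtain ⟨w, hw⟩ := exists_w hK
  have hw3 : w ^ 3 = 1 := by linear_combination (w - 1) * hw
  obtain ⟨d, hd⟩ : ∃ x : X K, x.1 = !![1, 0, 0; 0, w, 0; 0, 0, w ^ 2] :=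
    ⟨⟨!![1, 0, 0; 0, w, 0; 0, 0, w ^ 2], by
      rw [Matrix.det_fin_three]
      simp only [_root_.Fin.isValue, _root_.Matrix.of_apply, _root_.Matrix.cons_val', _root_.Matrix.cons_val_zero, _root_.Matrix.cons_val_fin_one, _root_.Matrix.cons_val_one, _root_.one_mul, _root_.Matrix.cons_val, _root_.MulZeroClass.mul_zero, _root_.sub_zero, _root_.MulZeroClass.zero_mul, _root_.add_zero]
      linear_combination hw3⟩, rfl⟩
  obtain ⟨c, hc⟩ : ∃ x : X K, x.1 = !![0, 0, 1; 1, 0, 0; 0, 1, 0] :=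
    ⟨⟨!![0, 0, 1; 1, 0, 0; 0, 1, 0], by
      rw [Matrix.det_fin_three]
      simp⟩, rfl⟩
  obtain ⟨τ, hτ⟩ : ∃ x : X K, x.1 = !![1, 0, 0; 0, 0, 1; 0, 1, 0] :=
    ⟨⟨!![1, 0, 0; 0, 0, 1; 0, 1, 0], by
      rw [Matrix.det_fin_three]
      simp
      linear_combination -k2⟩, rfl⟩
  have hττ : τ * τ = 1 := by
    apply ext'
    intro i j
    rw [mul_entry, hτ]
    (revert i j; simp only [_root_.Fin.forall_fin_succ, Fin.isValue, _root_.Matrix.of_apply, _root_.Matrix.cons_val', _root_.Matrix.cons_val_zero, _root_.Matrix.cons_val_fin_one, _root_.Matrix.cons_val_one, _root_.Matrix.cons_val, _root_.Matrix.SpecialLinearGroup.coe_one, _root_.mul_one, _root_.MulZeroClass.mul_zero, _root_.add_zero, _root_.Matrix.cons_val_succ, _root_.zero_add, _root_.IsEmpty.forall_iff, _root_.and_true, _root_.Matrix.one_apply_eq, Nat.reduceAdd, _root_.Fin.succ_zero_eq_one, _root_.ne_eq, _root_.zero_ne_one, _root_.not_false_eq_true, _root_.Matrix.one_apply_ne, _root_.Fin.succ_one_eq_two,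 Fin.reduceEq, _root_.and_self, _root_.Fin.succ_ne_zero, _root_.true_and])
  have hτd : (τ * d) * (τ * d) = 1 := by
    have h1 : (τ * d).1 = !![1, 0, 0; 0, 0, w ^ 2; 0, w, 0] := by
      ext i j
      rw [mul_entry, hτ, hd]
      (revert i j; simp only [_root_.Fin.forall_fin_succ, Fin.isValue, _root_.Matrix.of_apply, _root_.Matrix.cons_val', _root_.Matrix.cons_val_zero, _root_.Matrix.cons_val_fin_one, _root_.Matrix.cons_val_one, _root_.Matrix.cons_val, _root_.mul_one, _root_.MulZeroClass.mul_zero, _root_.add_zero, _root_.Matrix.cons_val_succ, _root_.zero_add, _root_.forall_const, _root_.true_and, _root_.MulZeroClass.zero_mul, _root_.and_self, _root_.one_mul, _root_.implies_true])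
    apply ext'
    intro i j
    rw [mul_entry, h1]
    (revert i j; simp only [_root_.Fin.forall_fin_succ, Fin.isValue, _root_.Matrix.of_apply, _root_.Matrix.cons_val', _root_.Matrix.cons_val_zero, _root_.Matrix.cons_val_fin_one, _root_.Matrix.cons_val_one, _root_.Matrix.cons_val, _root_.Matrix.SpecialLinearGroup.coe_one, _root_.mul_one, _root_.MulZeroClass.mul_zero, _root_.add_zero, _root_.Matrix.cons_val_succ, _root_.zero_add, _root_.IsEmpty.forall_iff, _root_.Matrix.one_apply_eq, _root_.MulZeroClass.zero_mul, Nat.reduceAdd, _root_.Fin.succ_zero_eq_one, _root_.ne_eq, _root_.zero_ne_one, _root_.not_false_eq_true, _root_.Matrix.one_apply_ne, _root_.Fin.succ_one_eq_two, Fin.reduceEq, _root_.Fin.succ_ne_zero, _root_.and_true, _root_.true_and]) <;> (repeat' with_reducible apply And.intro)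
    all_goals linear_combination hw3
  have hτc : (τ * c) * (τ * c) = 1 := by
    have h1 : (τ * c).1 = !![0, 0, 1; 0, 1, 0; 1, 0, 0] := by
      ext i j
      rw [mul_entry, hτ, hc]
      (revert i j; simp only [_root_.Fin.forall_fin_succ, Fin.isValue, _root_.Matrix.of_apply, _root_.Matrix.cons_val', _root_.Matrix.cons_val_zero, _root_.Matrix.cons_val_fin_one, _root_.Matrix.cons_val_one, _root_.Matrix.cons_val, _root_.MulZeroClass.mul_zero, _root_.mul_one, _root_.zero_add, _root_.add_zero, _root_.Matrix.cons_val_succ, _root_.implies_true, _root_.and_self])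
    apply ext'
    intro i j
    rw [mul_entry, h1]
    (revert i j; simp only [_root_.Fin.forall_fin_succ, Fin.isValue, _root_.Matrix.of_apply, _root_.Matrix.cons_val', _root_.Matrix.cons_val_zero, _root_.Matrix.cons_val_fin_one, _root_.Matrix.cons_val_one, _root_.Matrix.cons_val, _root_.Matrix.SpecialLinearGroup.coe_one, _root_.MulZeroClass.mul_zero, _root_.add_zero, _root_.mul_one, _root_.zero_add, _root_.Matrix.cons_val_succ, _root_.IsEmpty.forall_iff, _root_.and_true, _root_.Matrix.one_apply_eq, Nat.reduceAdd, _root_.Fin.succ_zero_eq_one, _root_.ne_eq, _root_.zero_ne_one, _root_.not_false_eq_true, _root_.Matrix.one_apply_ne, _root_.Fin.succ_one_eq_two, Fin.reduceEq, _root_.and_self, _root_.Fin.succ_ne_zero, _root_.true_and])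
  have hd3 : d * d * d = 1 := by
    have h1 : (d * d).1 = !![1, 0, 0; 0, w ^ 2, 0; 0, 0, w ^ 4] := by
      ext i j
      rw [mul_entry, hd]
      (revert i j; simp only [_root_.Fin.forall_fin_succ, Fin.isValue, _root_.Matrix.of_apply, _root_.Matrix.cons_val', _root_.Matrix.cons_val_zero, _root_.Matrix.cons_val_fin_one, _root_.Matrix.cons_val_one, _root_.Matrix.cons_val, _root_.mul_one, _root_.MulZeroClass.mul_zero, _root_.add_zero, _root_.Matrix.cons_val_succ, _root_.zero_add, _root_.forall_const, _root_.true_and, _root_.MulZeroClass.zero_mul, _root_.and_self, _root_.and_true]) <;> (repeat' with_reducible apply And.intro) <;> ring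
    apply ext'
    intro i j
    rw [mul_entry, h1, hd]
    (revert i j; simp only [_root_.Fin.forall_fin_succ, Fin.isValue, _root_.Matrix.of_apply, _root_.Matrix.cons_val', _root_.Matrix.cons_val_zero, _root_.Matrix.cons_val_fin_one, _root_.Matrix.cons_val_one, _root_.Matrix.cons_val, _root_.Matrix.SpecialLinearGroup.coe_one, _root_.mul_one, _root_.MulZeroClass.mul_zero, _root_.add_zero, _root_.Matrix.cons_val_succ, _root_.zero_add, _root_.IsEmpty.forall_iff, _root_.Matrix.one_apply_eq, _root_.MulZeroClass.zero_mul, Nat.reduceAdd, _root_.Fin.succ_zero_eq_one, _root_.ne_eq, _root_.zero_ne_one, _root_.not_false_eq_true, _root_.Matrix.one_apply_ne, _root_.Fin.succ_one_eq_two, Fin.reduceEq, _root_.Fin.succ_ne_zero, _root_.and_true, _root_.true_and]) <;> (repeat' with_reducible apply And.intro)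
    · linear_combination hw3
    · linear_combination (w ^ 3 + 1) * hw3
  have hc3 : c * c * c = 1 := by
    have h1 : (c * c).1 = !![0, 1, 0; 0, 0, 1; 1, 0, 0] := by
      ext i j
      rw [mul_entry, hc]
      (revert i j; simp only [_root_.Fin.forall_fin_succ, Fin.isValue, _root_.Matrix.of_apply, _root_.Matrix.cons_val', _root_.Matrix.cons_val_zero, _root_.Matrix.cons_val_fin_one, _root_.Matrix.cons_val_one, _root_.Matrix.cons_val, _root_.MulZeroClass.mul_zero, _root_.mul_one, _root_.zero_add, _root_.add_zero, _root_.Matrix.cons_val_succ, _root_.implies_true, _root_.and_self])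
    apply ext'
    intro i j
    rw [mul_entry, h1, hc]
    (revert i j; simp only [_root_.Fin.forall_fin_succ, Fin.isValue, _root_.Matrix.of_apply, _root_.Matrix.cons_val', _root_.Matrix.cons_val_zero, _root_.Matrix.cons_val_fin_one, _root_.Matrix.cons_val_one, _root_.Matrix.cons_val, _root_.Matrix.SpecialLinearGroup.coe_one, _root_.MulZeroClass.mul_zero, _root_.mul_one, _root_.zero_add, _root_.add_zero, _root_.Matrix.cons_val_succ, _root_.IsEmpty.forall_iff, _root_.and_true, _root_.Matrix.one_apply_eq, Nat.reduceAdd, _root_.Fin.succ_zero_eq_one, _root_.ne_eq, _root_.zero_ne_one, _root_.not_false_eq_true, _root_.Matrix.one_apply_ne, _root_.Fin.succ_one_eq_two, Fin.reduceEq, _root_.and_self, _root_.Fin.succ_ne_zero, _root_.true_and])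
  set! D := pj K d with hD
  set! C := pj K c with hC
  have hDC : C * D = D * C := by
    rw [hD, hC, ← map_mul, ← map_mul]
    have h1 : (c * d) = (scal w hw3)⁻¹ * (d * c) := by
      rw [eq_inv_mul_iff_mul_eq]
      apply ext'
      intro i j
      rw [mul_entry, mul_entry, mul_entry, mul_entry, mul_entry, hc, hd]
      simp only [scal_entry]
      fin_cases i <;> fin_cases j <;> simp
      · linear_combination hw3
      · ring
    rw [h1, map_mul, map_inv]
    have h2 : pj K (scal w hw3) = 1 := (QuotientGroup.eq_one_iff _).2 (scal_mem_center w hw3)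
    rw [h2, inv_one, one_mul]
  have hD3 : D ^ 3 = 1 := by rw [hD, ← map_pow, pow_succ, pow_two, hd3, map_one]
  have hC3 : C ^ 3 = 1 := by rw [hC, ← map_pow, pow_succ, pow_two, hc3, map_one]
  have w0 : w ≠ 0 := by
    rintro rfl
    norm_num only [_root_.zero_ne_one] at hw3
  have diag_ne : ∀ i : ℤ, C ≠ D ^ i := by
    intro i h0
    rw [hC, hD, ← map_zpow] at h0
    have h1 : c⁻¹ * d ^ i ∈ Subgroup.center (X K) := QuotientGroup.eq.1 h0
    obtain ⟨r, -, hr⟩ := Matrix.SpecialLinearGroup.mem_center_iff.1 h1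
    have h2 : (d ^ i).1 = c.1 * Matrix.scalar (Fin 3) r := by
      rw [hr]
      change (d ^ i).1 = (c * (c⁻¹ * d ^ i)).1
      rw [mul_inv_cancel_left]
    have h3 : ∀ i : ℤ, (d ^ i).1 1 0 = 0 ∧ (d ^ i).1 2 0 = 0 := fun i =>
      ⟨((Pb K).zpow_mem (show d ∈ Pb K by constructor <;> (rw [hd]; simp)) i).1,
        ((Pb K).zpow_mem (show d ∈ Pb K by constructor <;> (rw [hd]; simp)) i).2⟩
    have h4 := congrFun (congrFun h2 1) 0
    rw [(h3 i).1, hc, Matrix.mul_apply, Fin.sum_univ_three] at h4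
    simp at h4
    have h5 := congrArg Matrix.det h2
    rw [Matrix.det_mul, ← h4] at h5
    have h6 : (d ^ i).1.det = 1 := (d ^ i).2
    rw [h6] at h5
    simp at h5
  have hD1 : D ≠ 1 := by
    intro h0
    have h1 : d ∈ Subgroup.center (X K) := (QuotientGroup.eq_one_iff d).1 h0
    obtain ⟨r, -, hr⟩ := Matrix.SpecialLinearGroup.mem_center_iff.1 h1
    have e1 := congrFun (congrFun hr 0) 0
    have e2 := congrFun (congrFun hr 1) 1
    rw [hd] at e1 e2
    simp at e1 e2
    rw [e1] at e2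
    rw [← e2] at hw
    have : (1 : K) = 0 := by linear_combination hw - k2
    exact one_ne_zero this
  have hC1 : C ≠ 1 := by
    intro h0
    exact diag_ne 0 (by rw [h0, zpow_zero])
  have oD : orderOf D = 3 := orderOf_eq_prime hD3 hD1
  have oC : orderOf C = 3 := orderOf_eq_prime hC3 hC1
  let f : Subgroup.zpowers D × Subgroup.zpowers C →* Matrix.ProjectiveSpecialLinearGroup (Fin 3) K :=
    MonoidHom.noncommCoprod (Subgroup.zpowers D).subtype (Subgroup.zpowers C).subtype (by
      rintro ⟨_, i, rfl⟩ ⟨_, j, rfl⟩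
      exact (Commute.zpow_zpow (show Commute D C from hDC.symm) i j))
  have hfi : Function.Injective f := by
    rw [injective_iff_map_eq_one]
    rintro ⟨⟨_, i, rfl⟩, ⟨_, j, rfl⟩⟩ h0
    change D ^ i * C ^ j = 1 at h0
    have hj : (3 : ℤ) ∣ j := by
      by_contra hj
      have h1 : ∃ m n : ℤ, m * j + n * 3 = 1 := by
        have : IsCoprime j (3 : ℤ) := ((Int.prime_three.coprime_iff_not_dvd).2 hj).symm
        exact this
      obtain ⟨m, n, hmn⟩ := h1
      apply diag_ne (-(i * m))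
      have h2 : C ^ j = D ^ (-i) := by rw [zpow_neg, eq_inv_iff_mul_eq_one, ← (Commute.zpow_zpow (show Commute D C from hDC.symm) i j).eq, h0]
      calc C = C ^ (m * j + n * 3) := by rw [hmn, zpow_one]
        _ = (C ^ j) ^ m * (C ^ (3 : ℤ)) ^ n := by rw [zpow_add, mul_comm m j, zpow_mul, mul_comm n 3, zpow_mul]
        _ = D ^ (-(i * m)) := by
          have : C ^ (3 : ℤ) = 1 := by exact_mod_cast hC3
          rw [this, one_zpow, mul_one, h2, ← zpow_mul, neg_mul]
    have h1 : C ^ j = 1 := by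
      obtain ⟨m, rfl⟩ := hj
      have : C ^ (3 : ℤ) = 1 := by exact_mod_cast hC3
      rw [zpow_mul, this, one_zpow]
    rw [h1, mul_one] at h0
    ext
    · exact h0
    · exact h1
  have hcardS : Nat.card f.range = 3 ^ 2 := by
    rw [← Nat.card_congr (MonoidHom.ofInjective hfi).toEquiv, Nat.card_prod, Nat.card_zpowers, Nat.card_zpowers, oD, oC]
    norm_num
  obtain ⟨g, hg⟩ := conj_into 3 f.range hcardS (m := 2240) (by rw [card_T hK]; norm_num) (by norm_num) (t := t)
    (j := 1) (by simpa only [_root_.pow_one] using ht)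
  obtain ⟨⟨⟨_, i, rfl⟩, ⟨_, j, rfl⟩⟩, hij⟩ := hg
  change D ^ i * C ^ j = g * t * g⁻¹ at hij
  have inv_of : ∀ x : X K, (τ * x) * (τ * x) = 1 → pj K τ * pj K x * (pj K τ)⁻¹ = (pj K x)⁻¹ := by
    intro x hx
    have e1 : (pj K τ)⁻¹ = pj K τ := by
      rw [inv_eq_iff_mul_eq_one, ← map_mul, hττ, map_one]
    rw [e1, eq_inv_iff_mul_eq_one]
    have := congrArg (pj K) hx
    rw [map_mul, map_mul, map_one] at this
    rw [← this]
    group
  have iD := inv_of d hτd
  have iC := inv_of c hτc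
  have iS : pj K τ * (D ^ i * C ^ j) * (pj K τ)⁻¹ = (D ^ i * C ^ j)⁻¹ := by
    have e1 : pj K τ * D ^ i * (pj K τ)⁻¹ = (D ^ i)⁻¹ := by rw [← conj_zpow, iD, inv_zpow]
    have e2 : pj K τ * C ^ j * (pj K τ)⁻¹ = (C ^ j)⁻¹ := by rw [← conj_zpow, iC, inv_zpow]
    calc pj K τ * (D ^ i * C ^ j) * (pj K τ)⁻¹ = (pj K τ * D ^ i * (pj K τ)⁻¹) * (pj K τ * C ^ j * (pj K τ)⁻¹) := by
          group
      _ = (D ^ i)⁻¹ * (C ^ j)⁻¹ := by rw [e1, e2]
      _ = (D ^ i * C ^ j)⁻¹ := by
          rw [mul_inv_rev]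
          exact (Commute.zpow_zpow (show Commute D C from hDC.symm) i j).inv_inv.eq
  refine ⟨g⁻¹ * pj K τ * g, ?_, ?_⟩
  · have e1 : pj K τ ^ 2 = 1 := by rw [pow_two, ← map_mul, hττ, map_one]
    calc (g⁻¹ * pj K τ * g) ^ 2 = g⁻¹ * pj K τ ^ 2 * g := by rw [pow_two, pow_two]; group
      _ = 1 := by rw [e1]; group
  · rw [hij] at iS
    calc g⁻¹ * pj K τ * g * t * (g⁻¹ * pj K τ * g)⁻¹ = g⁻¹ * (pj K τ * (g * t * g⁻¹) * (pj K τ)⁻¹) * g := by group
      _ = g⁻¹ * (g * t * g⁻¹)⁻¹ * g := by rw [iS]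
      _ = t⁻¹ := by group

end Cfsg.Agent.H906.T14

private theorem dce_4dda82c7ed49 : _root_.True := by
  try have : _root_.True := by simp only [_root_.Cfsg.Agent.H906.scal.congr_simp]
  exact _root_.True.intro
end

-- part: H906/E9C
section
prune_inst 0x4404400300002000018008001000000000000200000000000a002000b010002294008401e10000000080cc140090000004c0030000000000a000000000500000001000210000100020008000080000000000000000000000000000000000004000000000
set_option linter.all false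
open scoped Cfsg.Agent.FastGrp

-- part: H906/E9
section
/-!
# `3²:Q₈` has at least eight weights
-/

set_option autoImplicit false
set_option linter.unusedSectionVars false

namespace Cfsg.Agent.H906.E9

open Module Module.End

lemma closed_card : ∀ S : Finset (ZMod 3 × ZMod 3), (∀ x ∈ S, (x.2, -x.1) ∈ S) → (∀ x ∈ S, (x.1 + x.2, x.1 - x.2) ∈ S) →
    (∃ x ∈ S, x ≠ 0) → 8 ≤ S.card := by
  decide +kernel

variable {K V : Type*} [Field K] [AddCommGroup V] [Module K V]

/-- powers of a cube root of unity -/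
def e (w : K) (a : ZMod 3) : K := w ^ a.val

lemma e_add {w : K} (hw : w ^ 3 = 1) (a b : ZMod 3) : e w (a + b) = e w a * e w b := by
  unfold e
  rw [← pow_add, ZMod.val_add]
  conv_rhs => rw [← Nat.mod_add_div (a.val + b.val) 3, pow_add, pow_mul, hw, one_pow, mul_one]

lemma e_zero (w : K) : e w 0 = 1 := by simp [e]

lemma e_inj {w : K} (hw : w ^ 2 + w + 1 = 0) (h3 : (3 : K) ≠ 0) : Function.Injective (e w) := by
  have hw3 : w ^ 3 = 1 := by linear_combination (w - 1) * hw
  have hw1 : w ≠ 1 := by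
    rintro rfl
    apply h3
    linear_combination hw
  have hz : ∀ a : ZMod 3, e w a = 1 → a = 0 := by
    intro a ha
    have h0 : ∀ a : ZMod 3, a = 0 ∨ a = 1 ∨ a = 2 := by decide
    rcases h0 a with rfl | rfl | rfl
    · rfl
    · exfalso
      apply hw1
      have : e w 1 = w := by
        unfold e
        rw [show (1 : ZMod 3).val = 1 from rfl, pow_one]
      rw [← this, ha]
    · exfalso
      have h2 : w ^ 2 = 1 := ha
      apply hw1
      calc w = w ^ 2 * w := by rw [h2, one_mul]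
        _ = 1 := by rw [← pow_succ, hw3]
  intro a b hab
  have h1 : e w (a - b) = 1 := by
    have h2 : e w (a - b) * e w b = e w b := by rw [← e_add hw3, sub_add_cancel, hab]
    have hb : e w b ≠ 0 := by
      unfold e
      exact pow_ne_zero _ (by rintro rfl; norm_num at hw3)
    exact mul_right_cancel₀ hb (by rw [h2, one_mul])
  exact sub_eq_zero.1 (hz _ h1)

lemma exists_eig {w : K} (hw : w ^ 2 + w + 1 = 0) (h3 : (3 : K) ≠ 0) {X : Module.End K V} (hX : X ^ 3 = 1) (v : V) :
    ∃ u : ZMod 3 → V, v = u 0 + u 1 + u 2 ∧ (∀ k, X (u k) = e w k • u k) ∧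
      (∀ (Y : Module.End K V) (c : K), Y * X = X * Y → Y v = c • v → ∀ k, Y (u k) = c • u k) := by
  have hw3 : w ^ 3 = 1 := by linear_combination (w - 1) * hw
  have hX3 : ∀ v, X (X (X v)) = v := by
    intro v
    have := congrArg (fun f : Module.End K V => f v) hX
    rw [pow_succ, pow_two] at this
    exact this
  refine ⟨fun k => (3 : K)⁻¹ • (v + e w (-k) • X v + e w (-k) ^ 2 • X (X v)), ?_, ?_, ?_⟩
  · have e0 : e w (-0) = 1 := by simp [e]
    have e1 : e w (-1) = w ^ 2 := rfl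
    have e2 : e w (-2) = w := by
      unfold e
      rw [show (-2 : ZMod 3).val = 1 from rfl, pow_one]
    change v = (3 : K)⁻¹ • (v + e w (-0) • X v + e w (-0) ^ 2 • X (X v)) +
      (3 : K)⁻¹ • (v + e w (-1) • X v + e w (-1) ^ 2 • X (X v)) +
      (3 : K)⁻¹ • (v + e w (-2) • X v + e w (-2) ^ 2 • X (X v))
    rw [e0, e1, e2, ← smul_add, ← smul_add]
    have h4 : v + (1 : K) • X v + (1 : K) ^ 2 • X (X v) + (v + w ^ 2 • X v + (w ^ 2) ^ 2 • X (X v)) +
        (v + w • X v + w ^ 2 • X (X v)) = (3 : K) • v + (w ^ 2 + w + 1) • X v + ((w ^ 2) ^ 2 + w ^ 2 + 1) • X (X v) := by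
      module
    have h5 : (w ^ 2) ^ 2 + w ^ 2 + 1 = 0 := by linear_combination (w ^ 2 - w + 1) * hw
    rw [h4, hw, h5, zero_smul, zero_smul, add_zero, add_zero, smul_smul, inv_mul_cancel₀ h3, one_smul]
  · intro k
    have hk : e w k * e w (-k) = 1 := by rw [← e_add hw3, add_neg_cancel, e_zero]
    have hk3 : e w (-k) ^ 3 = 1 := by unfold e; rw [← pow_mul, mul_comm, pow_mul, hw3, one_pow]
    have hk2 : e w (-k) ^ 2 = e w k := by
      calc e w (-k) ^ 2 = (e w k * e w (-k)) * e w (-k) ^ 2 := by rw [hk, one_mul]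
        _ = e w k * e w (-k) ^ 3 := by ring
        _ = e w k := by rw [hk3, mul_one]
    rw [map_smul, map_add, map_add, map_smul, map_smul, hX3, smul_comm]
    congr 1
    rw [smul_add, smul_add, smul_smul, smul_smul, hk, one_smul, hk2]
    have h6 : e w k * e w k = e w (-k) := by
      calc e w k * e w k = e w (-k) ^ 2 * e w (-k) ^ 2 := by rw [hk2]
        _ = e w (-k) ^ 3 * e w (-k) := by ring
        _ = e w (-k) := by rw [hk3, one_mul]
    rw [h6]
    abel
  · intro Y c hY hv k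
    have hYX : ∀ v, Y (X v) = X (Y v) := fun v => by
      have := congrArg (fun f : Module.End K V => f v) hY
      exact this
    rw [map_smul, map_add, map_add, map_smul, map_smul, hYX, hYX, hYX, hv, map_smul, map_smul]
    module

/-- joint eigenspaces -/
def J (D C : Module.End K V) (w : K) (x : ZMod 3 × ZMod 3) : Submodule K V :=
  eigenspace D (e w x.1) ⊓ eigenspace C (e w x.2)

lemma mem_J {D C : Module.End K V} {w : K} {x : ZMod 3 × ZMod 3} {v : V} :
    v ∈ J D C w x ↔ D v = e w x.1 • v ∧ C v = e w x.2 • v := by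
  unfold J
  rw [Submodule.mem_inf, mem_eigenspace_iff, mem_eigenspace_iff]

lemma indep_J {D C : Module.End K V} (hDC : D * C = C * D) {w : K} (hw : w ^ 2 + w + 1 = 0) (h3 : (3 : K) ≠ 0) :
    iSupIndep (J D C w) := by
  let T : Bool → Module.End K V := fun b => if b then C else D
  have h1 : iSupIndep (fun f : Bool → K => ⨅ b, (T b).maxGenEigenspace (f b)) := by
    apply independent_iInf_maxGenEigenspace_of_forall_mapsTo
    intro a b φ
    apply mapsTo_maxGenEigenspace_of_comm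
    cases a <;> cases b <;> simp [T, Commute, SemiconjBy, hDC]
  have h2 : Function.Injective (fun (x : ZMod 3 × ZMod 3) (b : Bool) => if b then e w x.2 else e w x.1) := by
    intro x y hxy
    have e1 := congrFun hxy false
    have e2 := congrFun hxy true
    simp only [if_true, Bool.false_eq_true, if_false] at e1 e2
    exact Prod.ext (e_inj hw h3 e1) (e_inj hw h3 e2)
  refine (h1.comp h2).mono ?_
  intro x v hv
  rw [mem_J] at hv
  change v ∈ ⨅ b, (T b).maxGenEigenspace (if b then e w x.2 else e w x.1)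
  rw [Submodule.mem_iInf]
  intro b
  apply eigenspace_le_maxGenEigenspace
  rw [mem_eigenspace_iff]
  cases b
  · exact hv.1
  · exact hv.2

theorem eight_le [FiniteDimensional K V] (h3 : (3 : K) ≠ 0) {w : K} (hw : w ^ 2 + w + 1 = 0)
    (D C i j : Module.End K V) (hD : D ^ 3 = 1) (hC : C ^ 3 = 1)
    (hDC : D * C = C * D) (hne : D ≠ 1) (hi : Function.Injective i) (hj : Function.Injective j)
    (h1 : i * D = C ^ 2 * i) (h2 : i * C = D * i) (h4 : j * D = D ^ 2 * C ^ 2 * j) (h5 : j * C = D ^ 2 * C * j) :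
    8 ≤ finrank K V := by
  classical
  have hw3 : w ^ 3 = 1 := by linear_combination (w - 1) * hw
  have ind := indep_J hDC hw h3
  let Λ := {x : ZMod 3 × ZMod 3 // J D C w x ≠ ⊥}
  have hfin : Finite Λ := (WellFoundedGT.finite_ne_bot_of_iSupIndep ind).to_subtype
  have : Fintype Λ := Fintype.ofFinite Λ
  have hcard : Fintype.card Λ ≤ finrank K V := ind.subtype_ne_bot_le_finrank
  refine le_trans ?_ hcard
  have hS : Fintype.card Λ = (Finset.univ.filter (fun x : ZMod 3 × ZMod 3 => J D C w x ≠ ⊥)).card :=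
    Fintype.card_subtype _
  rw [hS]
  have hC3 : ∀ v, C (C (C v)) = v := by
    intro v
    have := congrArg (fun f : Module.End K V => f v) hC
    rw [pow_succ, pow_two] at this
    exact this
  have hD3 : ∀ v, D (D (D v)) = v := by
    intro v
    have := congrArg (fun f : Module.End K V => f v) hD
    rw [pow_succ, pow_two] at this
    exact this
  have e2 : ∀ a : ZMod 3, e w (-a) = e w a * e w a := by
    intro a
    rw [← e_add hw3]
    congr 1
    revert a; decide
  apply closed_card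
  · intro x hx
    rw [Finset.mem_filter] at hx ⊢
    refine ⟨Finset.mem_univ _, ?_⟩
    obtain ⟨v, hv, hv0⟩ := (Submodule.ne_bot_iff _).1 hx.2
    rw [mem_J] at hv
    rw [Submodule.ne_bot_iff]
    refine ⟨i v, ?_, fun h0 => hv0 (hi (by rw [h0, map_zero]))⟩
    rw [mem_J]
    have k1 : C (C (i v)) = i (D v) := by
      have := congrArg (fun f : Module.End K V => f v) h1
      rw [pow_two] at this
      exact this.symm
    have k2 : D (i v) = i (C v) := by
      have := congrArg (fun f : Module.End K V => f v) h2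
      exact this.symm
    rw [hv.1, map_smul] at k1
    rw [hv.2, map_smul] at k2
    refine ⟨k2, ?_⟩
    change C (i v) = e w (-x.1) • i v
    have k3 : C (C (C (C (i v)))) = (e w x.1 * e w x.1) • i v := by
      rw [k1, map_smul, map_smul, k1, smul_smul]
    rw [hC3] at k3
    rw [k3, e2]
  · intro x hx
    rw [Finset.mem_filter] at hx ⊢
    refine ⟨Finset.mem_univ _, ?_⟩
    obtain ⟨v, hv, hv0⟩ := (Submodule.ne_bot_iff _).1 hx.2
    rw [mem_J] at hv
    rw [Submodule.ne_bot_iff]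
    refine ⟨j v, ?_, fun h0 => hv0 (hj (by rw [h0, map_zero]))⟩
    rw [mem_J]
    have hcomm : ∀ v, D (C v) = C (D v) := fun v => by
      have := congrArg (fun f : Module.End K V => f v) hDC
      exact this
    have k1 : D (D (C (C (j v)))) = e w x.1 • j v := by
      have := congrArg (fun f : Module.End K V => f v) h4
      rw [pow_two, pow_two] at this
      have h6 : j (D v) = D (D (C (C (j v)))) := this
      rw [hv.1, map_smul] at h6
      exact h6.symm
    have k2 : D (D (C (j v))) = e w x.2 • j v := by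
      have := congrArg (fun f : Module.End K V => f v) h5
      rw [pow_two] at this
      have h6 : j (C v) = D (D (C (j v))) := this
      rw [hv.2, map_smul] at h6
      exact h6.symm
    have k3 : e w x.2 • C (j v) = e w x.1 • j v := by
      rw [← map_smul, ← k2, ← k1, hcomm (C (j v)), hcomm (D (C (j v)))]
    have hx2 : e w (-x.2) * e w x.2 = 1 := by rw [← e_add hw3, neg_add_cancel, e_zero]
    have k4 : C (j v) = e w (x.1 - x.2) • j v := by
      calc C (j v) = (e w (-x.2) * e w x.2) • C (j v) := by rw [hx2, one_smul]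
        _ = e w (-x.2) • (e w x.1 • j v) := by rw [mul_smul, k3]
        _ = e w (x.1 - x.2) • j v := by rw [smul_smul, ← e_add hw3, sub_eq_neg_add]
    have hx3 : e w (-(x.1 - x.2)) * e w (x.1 - x.2) = 1 := by rw [← e_add hw3, neg_add_cancel, e_zero]
    have k5 : D (D (j v)) = e w (-(x.1 - x.2) + x.2) • j v := by
      have h6 : e w (x.1 - x.2) • D (D (j v)) = e w x.2 • j v := by
        rw [← k2, k4, map_smul, map_smul]
      calc D (D (j v)) = (e w (-(x.1 - x.2)) * e w (x.1 - x.2)) • D (D (j v)) := by rw [hx3, one_smul]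
        _ = e w (-(x.1 - x.2)) • (e w x.2 • j v) := by rw [mul_smul, h6]
        _ = _ := by rw [smul_smul, ← e_add hw3]
    refine ⟨?_, k4⟩
    have k6 : D (D (D (D (j v)))) = (e w (-(x.1 - x.2) + x.2) * e w (-(x.1 - x.2) + x.2)) • j v := by
      rw [k5, map_smul, map_smul, k5, smul_smul]
    rw [hD3] at k6
    rw [k6, ← e2]
    congr 2
    change -(-(x.1 - x.2) + x.2) = x.1 + x.2
    have h7 : ∀ a b : ZMod 3, -(-(a - b) + b) = a + b := by decide
    exact h7 _ _
  · obtain ⟨v, hv⟩ : ∃ v, D v ≠ v := by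
      by_contra hcon
      push Not at hcon
      exact hne (LinearMap.ext hcon)
    obtain ⟨u, hu, hu1, -⟩ := exists_eig hw h3 hD v
    obtain ⟨k, hk, huk⟩ : ∃ k, k ≠ 0 ∧ u k ≠ 0 := by
      by_contra hcon
      push Not at hcon
      apply hv
      rw [hcon 1 (by decide), hcon 2 (by decide), add_zero, add_zero] at hu
      rw [hu, hu1, e_zero, one_smul]
    obtain ⟨t, ht, ht1, ht2⟩ := exists_eig hw h3 hC (u k)
    obtain ⟨l, hl⟩ : ∃ l, t l ≠ 0 := by
      by_contra hcon
      push Not at hcon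
      apply huk
      rw [ht, hcon, hcon, hcon]; simp
    refine ⟨(k, l), ?_, ?_⟩
    · rw [Finset.mem_filter]
      refine ⟨Finset.mem_univ _, ?_⟩
      rw [Submodule.ne_bot_iff]
      exact ⟨t l, mem_J.2 ⟨ht2 D _ hDC (hu1 k) l, ht1 l⟩, hl⟩
    · intro h0
      exact hk (congrArg Prod.fst h0)

end Cfsg.Agent.H906.E9
end

-- part: H906/E9T
section
/-!
# `3²:Q₈` in `PSL_3(4)`; covers with centre of order prime to three have degree at least eight
-/

set_option autoImplicit false
set_option linter.unusedSectionVars false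

namespace Cfsg.Agent.H906.T14

open Cfsg Cfsg.Geo SL3Par L34
open scoped MatrixGroups commutatorElement Matrix

variable {K : Type*} [Field K]

/-- the group `3²:Q₈` in `PSL_3(4)` -/
theorem exists_E9 [Fintype K] (hK : Fintype.card K = 4) :
    ∃ D C i j : Matrix.ProjectiveSpecialLinearGroup (Fin 3) K, D ^ 3 = 1 ∧ C ^ 3 = 1 ∧ D ≠ 1 ∧ D * C = C * D ∧
      i * D * i⁻¹ = C ^ 2 ∧ i * C * i⁻¹ = D ∧ j * D * j⁻¹ = D ^ 2 * C ^ 2 ∧ j * C * j⁻¹ = D ^ 2 * C := by
  have k2 := two_zero hK
  obtain ⟨w, hw⟩ := exists_w hK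
  have hw3 : w ^ 3 = 1 := by linear_combination (w - 1) * hw
  have hw4 : w ^ 4 = w := by linear_combination w * hw3
  obtain ⟨d, hd⟩ : ∃ x : X K, x.1 = !![1, 0, 0; 0, w, 0; 0, 0, w ^ 2] :=
    ⟨⟨!![1, 0, 0; 0, w, 0; 0, 0, w ^ 2], by
      rw [Matrix.det_fin_three]
      simp only [_root_.Fin.isValue, _root_.Matrix.of_apply, _root_.Matrix.cons_val', _root_.Matrix.cons_val_zero, _root_.Matrix.cons_val_fin_one, _root_.Matrix.cons_val_one, _root_.one_mul, _root_.Matrix.cons_val, _root_.MulZeroClass.mul_zero, _root_.sub_zero, _root_.MulZeroClass.zero_mul, _root_.add_zero]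
      linear_combination hw3⟩, rfl⟩
  obtain ⟨c, hc⟩ : ∃ x : X K, x.1 = !![0, 0, 1; 1, 0, 0; 0, 1, 0] :=
    ⟨⟨!![0, 0, 1; 1, 0, 0; 0, 1, 0], by
      rw [Matrix.det_fin_three]
      simp⟩, rfl⟩
  obtain ⟨f, hf⟩ : ∃ x : X K, x.1 = !![1, 1, 1; 1, w, w ^ 2; 1, w ^ 2, w] :=
    ⟨⟨!![1, 1, 1; 1, w, w ^ 2; 1, w ^ 2, w], by
      rw [Matrix.det_fin_three]
      simp only [_root_.Fin.isValue, _root_.Matrix.of_apply, _root_.Matrix.cons_val', _root_.Matrix.cons_val_zero, _root_.Matrix.cons_val_fin_one, _root_.Matrix.cons_val_one, _root_.one_mul, _root_.Matrix.cons_val, _root_.mul_one]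
      linear_combination (3 - w ^ 2 + w) * hw - (3 * w + 2) * k2⟩, rfl⟩
  -- `g f g⁻¹`, `g = diag (1, 1, w)`
  obtain ⟨j, hj⟩ : ∃ x : X K, x.1 = !![1, 1, w ^ 2; 1, w, w; w, 1, w] :=
    ⟨⟨!![1, 1, w ^ 2; 1, w, w; w, 1, w], by
      rw [Matrix.det_fin_three]
      simp only [_root_.Fin.isValue, _root_.Matrix.of_apply, _root_.Matrix.cons_val', _root_.Matrix.cons_val_zero, _root_.Matrix.cons_val_fin_one, _root_.Matrix.cons_val_one, _root_.one_mul, _root_.Matrix.cons_val, _root_.mul_one]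
      linear_combination (3 - w ^ 2 + w) * hw - (3 * w + 2) * k2⟩, rfl⟩
  have hcc : (c * c).1 = !![0, 1, 0; 0, 0, 1; 1, 0, 0] := by
    ext k l
    rw [mul_entry, hc]
    (revert k l; simp only [_root_.Fin.forall_fin_succ, Fin.isValue, _root_.Matrix.of_apply, _root_.Matrix.cons_val', _root_.Matrix.cons_val_zero, _root_.Matrix.cons_val_fin_one, _root_.Matrix.cons_val_one, _root_.Matrix.cons_val, _root_.MulZeroClass.mul_zero, _root_.mul_one, _root_.zero_add, _root_.add_zero, _root_.Matrix.cons_val_succ, _root_.implies_true, _root_.and_self])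
  have hdd : (d * d).1 = !![1, 0, 0; 0, w ^ 2, 0; 0, 0, w] := by
    ext k l
    rw [mul_entry, hd]
    (revert k l; simp only [_root_.Fin.forall_fin_succ, Fin.isValue, _root_.Matrix.of_apply, _root_.Matrix.cons_val', _root_.Matrix.cons_val_zero, _root_.Matrix.cons_val_fin_one, _root_.Matrix.cons_val_one, _root_.Matrix.cons_val, _root_.mul_one, _root_.MulZeroClass.mul_zero, _root_.add_zero, _root_.Matrix.cons_val_succ, _root_.zero_add, _root_.forall_const, _root_.MulZeroClass.zero_mul, _root_.and_true, _root_.true_and]) <;> (repeat' with_reducible apply And.intro)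
    · ring
    · linear_combination hw4
  have hd3 : d * d * d = 1 := by
    apply ext'
    intro k l
    rw [mul_entry, hdd, hd]
    (revert k l; simp only [_root_.Fin.forall_fin_succ, Fin.isValue, _root_.Matrix.of_apply, _root_.Matrix.cons_val', _root_.Matrix.cons_val_zero, _root_.Matrix.cons_val_fin_one, _root_.Matrix.cons_val_one, _root_.Matrix.cons_val, _root_.Matrix.SpecialLinearGroup.coe_one, _root_.mul_one, _root_.MulZeroClass.mul_zero, _root_.add_zero, _root_.Matrix.cons_val_succ, _root_.zero_add, _root_.IsEmpty.forall_iff, _root_.Matrix.one_apply_eq, _root_.MulZeroClass.zero_mul, Nat.reduceAdd, _root_.Fin.succ_zero_eq_one, _root_.ne_eq, _root_.zero_ne_one, _root_.not_false_eq_true, _root_.Matrix.one_apply_ne, _root_.Fin.succ_one_eq_two, Fin.reduceEq, _root_.Fin.succ_ne_zero, _root_.and_true, _root_.true_and]) <;> (repeat' with_reducible apply And.intro)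
    · linear_combination hw3
    · linear_combination hw3
  have hc3 : c * c * c = 1 := by
    apply ext'
    intro k l
    rw [mul_entry, hcc, hc]
    (revert k l; simp only [_root_.Fin.forall_fin_succ, Fin.isValue, _root_.Matrix.of_apply, _root_.Matrix.cons_val', _root_.Matrix.cons_val_zero, _root_.Matrix.cons_val_fin_one, _root_.Matrix.cons_val_one, _root_.Matrix.cons_val, _root_.Matrix.SpecialLinearGroup.coe_one, _root_.MulZeroClass.mul_zero, _root_.mul_one, _root_.zero_add, _root_.add_zero, _root_.Matrix.cons_val_succ, _root_.IsEmpty.forall_iff, _root_.and_true, _root_.Matrix.one_apply_eq, Nat.reduceAdd, _root_.Fin.succ_zero_eq_one, _root_.ne_eq, _root_.zero_ne_one, _root_.not_false_eq_true, _root_.Matrix.one_apply_ne, _root_.Fin.succ_one_eq_two, Fin.reduceEq, _root_.and_self, _root_.Fin.succ_ne_zero, _root_.true_and])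
  have r1 : f * d = c * c * f := by
    apply ext'
    intro k l
    rw [mul_entry, mul_entry, hcc, hd, hf]
    (revert k l; simp only [_root_.Fin.forall_fin_succ, Fin.isValue, _root_.Matrix.of_apply, _root_.Matrix.cons_val', _root_.Matrix.cons_val_zero, _root_.Matrix.cons_val_fin_one, _root_.Matrix.cons_val_one, _root_.Matrix.cons_val, _root_.mul_one, _root_.MulZeroClass.mul_zero, _root_.add_zero, _root_.Matrix.cons_val_succ, _root_.zero_add, _root_.forall_const, _root_.one_mul, _root_.MulZeroClass.zero_mul, _root_.and_true, _root_.true_and]) <;> (repeat' with_reducible apply And.intro)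
    all_goals first | ring1 | linear_combination hw3 | linear_combination hw4 | linear_combination (-1) * hw3 | linear_combination (-1) * hw4 | linear_combination (w+1) * hw3 | linear_combination (-1) * (w+1) * hw3
  have r2 : f * c = d * f := by
    apply ext'
    intro k l
    rw [mul_entry, mul_entry, hc, hd, hf]
    (revert k l; simp only [_root_.Fin.forall_fin_succ, Fin.isValue, _root_.Matrix.of_apply, _root_.Matrix.cons_val', _root_.Matrix.cons_val_zero, _root_.Matrix.cons_val_fin_one, _root_.Matrix.cons_val_one, _root_.Matrix.cons_val, _root_.MulZeroClass.mul_zero, _root_.mul_one, _root_.zero_add, _root_.add_zero, _root_.Matrix.cons_val_succ, _root_.forall_const, _root_.MulZeroClass.zero_mul, _root_.and_true, _root_.true_and]) <;> (repeat' with_reducible apply And.intro)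
    all_goals first | ring1 | linear_combination hw3 | linear_combination hw4 | linear_combination (-1) * hw3 | linear_combination (-1) * hw4 | linear_combination (w+1) * hw3 | linear_combination (-1) * (w+1) * hw3
  have m1 : (d * d * (c * c)).1 = !![0, 1, 0; 0, 0, w ^ 2; w, 0, 0] := by
    ext k l
    rw [mul_entry, hdd, hcc]
    (revert k l; simp only [_root_.Fin.forall_fin_succ, Fin.isValue, _root_.Matrix.of_apply, _root_.Matrix.cons_val', _root_.Matrix.cons_val_zero, _root_.Matrix.cons_val_fin_one, _root_.Matrix.cons_val_one, _root_.Matrix.cons_val, _root_.MulZeroClass.mul_zero, _root_.add_zero, _root_.mul_one, _root_.zero_add, _root_.Matrix.cons_val_succ, _root_.implies_true, _root_.and_self])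
  have m2 : (d * d * c).1 = !![0, 0, 1; w ^ 2, 0, 0; 0, w, 0] := by
    ext k l
    rw [mul_entry, hdd, hc]
    (revert k l; simp only [_root_.Fin.forall_fin_succ, Fin.isValue, _root_.Matrix.of_apply, _root_.Matrix.cons_val', _root_.Matrix.cons_val_zero, _root_.Matrix.cons_val_fin_one, _root_.Matrix.cons_val_one, _root_.Matrix.cons_val, _root_.MulZeroClass.mul_zero, _root_.mul_one, _root_.zero_add, _root_.add_zero, _root_.Matrix.cons_val_succ, _root_.implies_true, _root_.and_self])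
  have r3 : j * d = d * d * (c * c) * j := by
    apply ext'
    intro k l
    rw [mul_entry, mul_entry, m1, hd, hj]
    (revert k l; simp only [_root_.Fin.forall_fin_succ, Fin.isValue, _root_.Matrix.of_apply, _root_.Matrix.cons_val', _root_.Matrix.cons_val_zero, _root_.Matrix.cons_val_fin_one, _root_.Matrix.cons_val_one, _root_.Matrix.cons_val, _root_.mul_one, _root_.MulZeroClass.mul_zero, _root_.add_zero, _root_.Matrix.cons_val_succ, _root_.zero_add, _root_.forall_const, _root_.MulZeroClass.zero_mul, _root_.one_mul, _root_.implies_true, _root_.and_true, _root_.true_and]) <;> (repeat' with_reducible apply And.intro)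
    all_goals first | ring1 | linear_combination hw3 | linear_combination hw4 | linear_combination (-1) * hw3 | linear_combination (-1) * hw4 | linear_combination (w+1) * hw3 | linear_combination (-1) * (w+1) * hw3
  have r4 : (scal w hw3) * (j * c) = d * d * c * j := by
    apply ext'
    intro k l
    rw [mul_entry, mul_entry _ j, m2]
    simp only [scal_entry, mul_entry j c, hc, hj]
    (revert k l; simp only [_root_.Fin.forall_fin_succ, Fin.isValue, _root_.Matrix.of_apply, _root_.Matrix.cons_val', _root_.Matrix.cons_val_zero, _root_.Matrix.cons_val_fin_one, _root_.one_mul, _root_.Matrix.cons_val_one, _root_.Matrix.cons_val, _root_.ite_mul, _root_.MulZeroClass.zero_mul, _root_.zero_add, _root_.MulZeroClass.mul_zero, _root_.add_zero, _root_.mul_one, _root_.Matrix.cons_val_succ, _root_.forall_const, ↓reduceIte, _root_.zero_ne_one, Fin.reduceEq, _root_.Fin.succ_ne_zero, _root_.Fin.succ_zero_eq_one, _root_.Fin.succ_one_eq_two, _root_.IsEmpty.forall_iff, _root_.and_true,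 _root_.true_and]) <;> (repeat' with_reducible apply And.intro)
    all_goals first | ring1 | linear_combination hw3 | linear_combination hw4 | linear_combination (-1) * hw3 | linear_combination (-1) * hw4 | linear_combination (w+1) * hw3 | linear_combination (-1) * (w+1) * hw3
  have r5 : (scal w hw3) * (c * d) = d * c := by
    apply ext'
    intro k l
    rw [mul_entry, mul_entry d c]
    simp only [scal_entry, mul_entry c d, hc, hd]
    (revert k l; simp only [_root_.Fin.forall_fin_succ, Fin.isValue, _root_.Matrix.of_apply, _root_.Matrix.cons_val', _root_.Matrix.cons_val_zero, _root_.Matrix.cons_val_fin_one, _root_.MulZeroClass.zero_mul, _root_.Matrix.cons_val_one, _root_.add_zero, _root_.Matrix.cons_val, _root_.one_mul, _root_.zero_add, _root_.ite_mul, _root_.MulZeroClass.mul_zero, _root_.ite_self, _root_.mul_one, _root_.Matrix.cons_val_succ, _root_.forall_const, _root_.zero_ne_one, ↓reduceIte, Fin.reduceEq, _root_.Fin.succ_ne_zero, _root_.Fin.succ_zero_eq_one,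 _root_.ite_eq_right_iff, _root_.Fin.succ_one_eq_two, _root_.IsEmpty.forall_iff, _root_.and_true, _root_.true_and]) <;> (repeat' with_reducible apply And.intro)
    all_goals first | ring1 | linear_combination hw3 | linear_combination hw4 | linear_combination (-1) * hw3 | linear_combination (-1) * hw4 | linear_combination (w+1) * hw3 | linear_combination (-1) * (w+1) * hw3
  have hs : pj K (scal w hw3) = 1 := (QuotientGroup.eq_one_iff _).2 (scal_mem_center w hw3)
  refine ⟨pj K d, pj K c, pj K f, pj K j, ?_, ?_, ?_, ?_, ?_, ?_, ?_, ?_⟩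
  · rw [← map_pow, pow_succ, pow_two, hd3, map_one]
  · rw [← map_pow, pow_succ, pow_two, hc3, map_one]
  · intro h0
    have h1 : d ∈ Subgroup.center (X K) := (QuotientGroup.eq_one_iff d).1 h0
    obtain ⟨r, -, hr⟩ := Matrix.SpecialLinearGroup.mem_center_iff.1 h1
    have e1 := congrFun (congrFun hr 0) 0
    have e2 := congrFun (congrFun hr 1) 1
    rw [hd] at e1 e2
    simp at e1 e2
    rw [e1] at e2
    rw [← e2] at hw
    have : (1 : K) = 0 := by linear_combination hw - k2
    exact one_ne_zero this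
  · rw [← map_mul, ← map_mul, ← r5, map_mul, hs, one_mul]
  · rw [mul_inv_eq_iff_eq_mul, ← map_mul, r1, map_mul, map_mul, pow_two]
  · rw [mul_inv_eq_iff_eq_mul, ← map_mul, r2, map_mul]
  · rw [mul_inv_eq_iff_eq_mul, ← map_mul, r3, map_mul, map_mul, map_mul, map_mul, pow_two, pow_two]
  · rw [mul_inv_eq_iff_eq_mul, ← map_mul]
    have h1 := congrArg (pj K) r4
    rw [map_mul, hs, one_mul] at h1
    rw [h1, map_mul, map_mul, map_mul, pow_two]

end Cfsg.Agent.H906.T14
end

-- part: H906/E9C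
section
/-!
# Covers of `PSL_3(4)` with centre of order prime to three have degree at least eight
-/

set_option autoImplicit false
set_option linter.unusedSectionVars false

namespace Cfsg.Agent.H906.T14

open Cfsg Cfsg.Geo SL3Par L34 H915.LD
open scoped MatrixGroups commutatorElement Matrix

universe u v

lemma coprime_orderOf {L : Type*} [Group L] {k n : ℕ} (hk : k.Coprime n) {g : L} (hg : g ^ n = 1) :
    k.Coprime (orderOf g) :=
  Nat.Coprime.coprime_dvd_right (orderOf_dvd_of_pow_eq_one hg) hk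

theorem eight_le_card {K : Type*} [Field K] [Fintype K] (hK : Fintype.card K = 4) {F : Type u} [Field F]
    (h3 : (3 : F) ≠ 0) {ι : Type v} [Fintype ι] [DecidableEq ι] {L : Type*} [Group L] [Finite L]
    (π : L →* Matrix.ProjectiveSpecialLinearGroup (Fin 3) K) (hs : Function.Surjective π)
    (hc : π.ker ≤ Subgroup.center L) (hcop : (Nat.card π.ker).Coprime 3) (ρ : L →* GL ι F)
    (hρ : Function.Injective ρ) : 8 ≤ Fintype.card ι := by
  obtain ⟨D, C, i, j, hD, hC, hD1, hDC, r1, r2, r3, r4⟩ := exists_E9 hK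
  obtain ⟨D', hD', oD⟩ := H908.exists_lift hs D (coprime_orderOf hcop hD)
  obtain ⟨C', hC', oC⟩ := H908.exists_lift hs C (coprime_orderOf hcop hC)
  obtain ⟨i', rfl⟩ := hs i
  obtain ⟨j', rfl⟩ := hs j
  have hD3 : D' ^ 3 = 1 := by
    rw [← orderOf_dvd_iff_pow_eq_one, oD, orderOf_dvd_iff_pow_eq_one, hD]
  have hC3 : C' ^ 3 = 1 := by
    rw [← orderOf_dvd_iff_pow_eq_one, oC, orderOf_dvd_iff_pow_eq_one, hC]
  have hcD : (Nat.card π.ker).Coprime (orderOf D') := coprime_orderOf hcop hD3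
  have hcC : (Nat.card π.ker).Coprime (orderOf C') := coprime_orderOf hcop hC3
  have hDC' : D' * C' = C' * D' := H908.commute_lift hc (by rw [hD', hC', hDC]) hcC
  have hne : D' ≠ 1 := by
    rintro rfl
    exact hD1 (by rw [← hD', map_one])
  have q1 : i' * D' * i'⁻¹ = C' ^ 2 := by
    apply H908.conj_lift hc _ hcD
    · exact coprime_orderOf hcop (by rw [← pow_mul, mul_comm, pow_mul, hC3, one_pow])
    · rw [map_mul, map_mul, map_inv, map_pow, hD', hC', r1]
  have q2 : i' * C' * i'⁻¹ = D' := by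
    apply H908.conj_lift hc _ hcC hcD
    rw [map_mul, map_mul, map_inv, hD', hC', r2]
  have hcomm : Commute D' C' := hDC'
  have q3 : j' * D' * j'⁻¹ = D' ^ 2 * C' ^ 2 := by
    apply H908.conj_lift hc _ hcD
    · apply coprime_orderOf hcop
      rw [(hcomm.pow_pow 2 2).mul_pow, ← pow_mul, ← pow_mul, mul_comm 2 3, pow_mul, pow_mul, hC3, hD3, one_pow,
        mul_one]
    · rw [map_mul, map_mul, map_inv, map_mul, map_pow, map_pow, hD', hC', r3]
  have q4 : j' * C' * j'⁻¹ = D' ^ 2 * C' := by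
    apply H908.conj_lift hc _ hcC
    · apply coprime_orderOf hcop
      rw [(hcomm.pow_left 2).mul_pow, ← pow_mul, mul_comm 2 3, pow_mul, hC3, hD3, one_pow, mul_one]
    · rw [map_mul, map_mul, map_inv, map_mul, map_pow, hD', hC', r4]
  -- the representation over the algebraic closure
  let Fb := AlgebraicClosure F
  let R : L →* Module.End Fb (ι → Fb) :=
    ((Matrix.toLinAlgEquiv' (R := Fb) (n := ι)).toAlgHom : Matrix ι ι Fb →* Module.End Fb (ι → Fb)).comp
      ((Units.coeHom _).comp ((Matrix.GeneralLinearGroup.map (algebraMap F Fb)).comp ρ))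
  have hR : Function.Injective R := by
    intro a b hab
    apply hρ
    apply Units.ext
    have h1 := (Matrix.toLinAlgEquiv' (R := Fb) (n := ι)).injective hab
    ext k l
    have h2 := congrFun (congrFun h1 k) l
    exact (algebraMap F Fb).injective h2
  have h3' : (3 : Fb) ≠ 0 := by
    intro h0
    apply h3
    apply (algebraMap F Fb).injective
    rw [map_zero, map_ofNat, h0]
  obtain ⟨w, hw⟩ : ∃ w : Fb, w ^ 2 + w + 1 = 0 := by
    have h4 : (Polynomial.X ^ 2 + Polynomial.X + 1 : Polynomial Fb).natDegree = 2 := by compute_degree!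
    obtain ⟨w, hw⟩ := IsAlgClosed.exists_root (Polynomial.X ^ 2 + Polynomial.X + 1 : Polynomial Fb) (by
      intro h0
      rw [Polynomial.degree_eq_natDegree (by intro h1; rw [h1] at h4; simp at h4), h4] at h0
      norm_num at h0)
    refine ⟨w, ?_⟩
    simpa only [Polynomial.IsRoot, _root_.Polynomial.eval_add, _root_.Polynomial.eval_pow, _root_.Polynomial.eval_X, _root_.Polynomial.eval_one] using hw
  have hinj : ∀ g : L, Function.Injective (R g) := by
    intro g x y hxy
    have h5 : ∀ v, R g⁻¹ (R g v) = v := by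
      intro v
      change (R g⁻¹ * R g) v = v
      rw [← map_mul, inv_mul_cancel, map_one]; rfl
    rw [← h5 x, hxy, h5]
  have hmul : ∀ {y g h : L}, y * g * y⁻¹ = h → y * g = h * y := fun h => by rw [← h]; group
  have key := E9.eight_le h3' hw (R D') (R C') (R i') (R j') (by rw [← map_pow, hD3, map_one])
    (by rw [← map_pow, hC3, map_one]) (by rw [← map_mul, ← map_mul, hDC'])
    (fun h => hne (hR (by rw [h, map_one]))) (hinj _) (hinj _)
    (by rw [← map_mul, ← map_pow, ← map_mul, hmul q1]) (by rw [← map_mul, ← map_mul, hmul q2])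
    (by rw [← map_mul, ← map_pow, ← map_pow, ← map_mul, ← map_mul, hmul q3])
    (by rw [← map_mul, ← map_pow, ← map_mul, ← map_mul, hmul q4])
  rwa [Module.finrank_fintype_fun_eq_card] at key

variable {ι : Type} [Fintype ι] [DecidableEq ι] {F : Type u} [Field F] {P : Subgroup (GL ι F)}

/-- a perfect subgroup of `GL_n (F)` with quotient `PSL_3(4)` modulo scalars, `3 ∤ n`, `3 ≠ 0`: `8 ≤ n` -/
theorem eight_le_perfect [Finite P] (hperf : ⁅P, P⁆ = P) (h3 : (3 : F) ≠ 0) {K : Type v} [Field K] [Fintype K]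
    (hK : Fintype.card K = 4) (e : (P ⧸ (scalars ι F).subgroupOf P) ≃* Matrix.ProjectiveSpecialLinearGroup (Fin 3) K)
    (hn : (Nat.card ((scalars ι F).subgroupOf P)).Coprime 3) : 8 ≤ Fintype.card ι := by
  have hk := ker_comp e
  exact eight_le_card hK h3 (e.toMonoidHom.comp (toSoc P)) (e.surjective.comp (toSoc_surjective P))
    (by rw [hk]; exact H915.LD.scalars_le_center (P := P)) (by rw [hk]; exact hn) P.subtype Subtype.val_injective

/-- the determinant is one on a perfect group -/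
theorem scalar_pow' (hperf : ⁅P, P⁆ = P) {z : P} (hz : z ∈ (scalars ι F).subgroupOf P) : z ^ Fintype.card ι = 1 := by
  have h0 : commutator P = ⊤ := H911.Five.commutator_top hperf
  have hdet : ∀ g : P, Matrix.GeneralLinearGroup.det (g : GL ι F) = 1 := by
    intro g
    have h2 : (Matrix.GeneralLinearGroup.det.comp P.subtype).ker = ⊤ := by
      rw [eq_top_iff, ← h0]
      exact Abelianization.commutator_subset_ker _
    have h3 : g ∈ (Matrix.GeneralLinearGroup.det.comp P.subtype).ker := by rw [h2]; trivial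
    exact h3
  rw [Subgroup.mem_subgroupOf, mem_scalars_iff] at hz
  obtain ⟨c, hc⟩ := hz
  have h1 : (c : F) ^ Fintype.card ι = 1 := by
    have h2 : (((z : GL ι F)) : Matrix ι ι F).det = 1 := by
      rw [← Matrix.GeneralLinearGroup.val_det_apply, hdet, Units.val_one]
    rw [hc, Matrix.det_smul, Matrix.det_one, mul_one] at h2
    exact h2
  apply Subtype.ext
  apply Units.ext
  rw [Subgroup.coe_pow, Units.val_pow_eq_pow_val, hc, smul_pow, h1, one_pow, one_smul]
  rfl

theorem coprime_card_scalars [Finite P] (hperf : ⁅P, P⁆ = P) {q : ℕ} (hq : q.Prime) (hn : ¬ q ∣ Fintype.card ι) :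
    (Nat.card ((scalars ι F).subgroupOf P)).Coprime q := by
  rw [Nat.coprime_comm, Nat.Prime.coprime_iff_not_dvd hq]
  intro h
  have : Fact q.Prime := ⟨hq⟩
  obtain ⟨z, hz⟩ := exists_prime_orderOf_dvd_card' (G := (scalars ι F).subgroupOf P) q h
  apply hn
  rw [← hz, orderOf_dvd_iff_pow_eq_one]
  apply Subtype.ext
  rw [Subgroup.coe_pow]
  exact scalar_pow' (P := P) hperf z.2

/-- no perfect cover of `PSL_3(4)` in dimension prime to three and less than eight, `p ≠ 3` -/
theorem not_lt_eight [Finite F] (h3 : (3 : F) ≠ 0) (h8 : Fintype.card ι < 8) (hn : ¬ 3 ∣ Fintype.card ι)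
    (hperf : ⁅P, P⁆ = P) {K : Type v} [Field K] [Fintype K] (hK : Fintype.card K = 4)
    (e : (P ⧸ (scalars ι F).subgroupOf P) ≃* Matrix.ProjectiveSpecialLinearGroup (Fin 3) K) : False := by
  have := eight_le_perfect hperf h3 hK e (coprime_card_scalars hperf Nat.prime_three hn)
  omega

/-- no cover of `PSL_3(4)` in dimension four, `p ≠ 2, 3` -/
theorem not_four_L34 [Finite F] (h3 : (3 : F) ≠ 0) {P : Subgroup (GL (Fin 4) F)}
    (hperf : ⁅P, P⁆ = P) {K : Type v} [Field K] [Fintype K] (hK : Fintype.card K = 4)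
    (e : (P ⧸ (scalars (Fin 4) F).subgroupOf P) ≃* Matrix.ProjectiveSpecialLinearGroup (Fin 3) K) : False :=
  not_lt_eight h3 (by simp) (by simp) hperf hK e

end Cfsg.Agent.H906.T14
end

private theorem dce_3cee2d74cf20 : _root_.True := by
  try have : _root_.True := by simp only [_root_.Cfsg.Agent.H906.E9.e.eq_1]
  exact _root_.True.intro
end
end
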